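import Cfsg.Agent.Lib.L34Sylow.CentTAuto
import Cfsg.Agent.Lib.Involutions.ZStar.Main

/-!
# `A` is a Sylow subgroup of `C(t)`; fusion and the case of a trivial automiser (piece 4)
-/

set_option autoImplicit false
set_option linter.style.haveILetI false
set_option linter.unusedSectionVars false

namespace CfsgLib.L34Sylow

open Cfsg Subgroup

universe u

variable {G : Type u} [Group G] [Finite G] {S : Sylow 2 G} {φ : F4 → F4 → F4 → G}

namespace CentT

variable (hS : Setup S φ) (hF : Facts S φ)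
include hS hF

theorem le_cz {t : G} (ht : t ∈ SA φ) : SA φ ≤ cz t := fun a ha => by
  haveI := hF.elem_A.1
  exact mem_centralizer_singleton_iff.2
    (congrArg Subtype.val (mul_comm' (⟨a, ha⟩ : SA φ) ⟨t, ht⟩))

theorem not_dvd_index (hsA : Small φ) {t : G} (ht : t ∈ SA φ) (htZ : t ∉ SZ φ) :
    ¬ 2 ∣ ((SA φ).subgroupOf (cz t)).index := by
  intro h
  refine hF.two_part_A t ht htZ (hF.not_ztype_A hsA t ht htZ) ?_
  rw [← ((SA φ).subgroupOf (cz t)).card_mul_index,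
    Nat.card_congr (subgroupOfEquivOfLe (le_cz hS hF ht)).toEquiv, hF.card_A]
  exact (show 32 = 16 * 2 by rfl) ▸ Nat.mul_dvd_mul_left 16 h

theorem isPGroup_sub (t : G) : IsPGroup 2 ((SA φ).subgroupOf (cz t)) :=
  (IsPGroup.of_card (n := 4) (by rw [hF.card_A]; norm_num) :
    IsPGroup 2 (SA φ)).comap_subtype

theorem exists_sylow (hsA : Small φ) {t : G} (ht : t ∈ SA φ) (htZ : t ∉ SZ φ) :
    ∃ P : Sylow 2 ↥(cz t), (P : Subgroup ↥(cz t)) = (SA φ).subgroupOf (cz t) :=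
  haveI : Fact (Nat.Prime 2) := ⟨Nat.prime_two⟩
  ⟨(isPGroup_sub hS hF t).toSylow (not_dvd_index hS hF hsA ht htZ), rfl⟩

omit hS hF in
theorem coe_mem_normalizer {A C : Subgroup G} (hAC : A ≤ C) {n : C}
    (hn : n ∈ normalizer ((A.subgroupOf C : Subgroup C) : Set C)) :
    (n : G) ∈ normalizer (A : Set G) := by
  refine mem_normalizer_iff.2 fun x => ⟨fun hx => ?_, fun hx => ?_⟩
  · have := ((mem_normalizer_iff.1 hn) ⟨x, hAC hx⟩).1 (mem_subgroupOf.2 hx)
    simpa [mem_subgroupOf] using this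
  · have hxC : x ∈ C := by
      have := mul_mem (mul_mem (inv_mem n.2) (hAC hx)) n.2
      rwa [show (n : G)⁻¹ * ((n : G) * x * (n : G)⁻¹) * n = x by group] at this
    exact mem_subgroupOf.1 (((mem_normalizer_iff.1 hn) ⟨x, hxC⟩).2
      (by simpa [mem_subgroupOf] using hx))

/-- An involution of `A` fixed by `N(A) ∩ C(t)` is isolated in `C(t)`. -/
theorem isolated (hsA : Small φ) {t : G} (ht : t ∈ SA φ) (htZ : t ∉ SZ φ) {a : G}
    (ha : a ∈ SA φ) (ha1 : a ≠ 1)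
    (hfix : ∀ n ∈ normalizer (SA φ : Set G), n ∈ cz t → n * a * n⁻¹ = a) :
    IsIsolatedInvolution (⟨a, le_cz hS hF ht ha⟩ : ↥(cz t)) := by
  haveI : Fact (Nat.Prime 2) := ⟨Nat.prime_two⟩
  obtain ⟨P, hP⟩ := exists_sylow hS hF hsA ht htZ
  haveI : IsMulCommutative (P : Subgroup ↥(cz t)) := by
    haveI := hF.elem_A.1
    refine ⟨⟨fun x y => Subtype.ext (Subtype.ext ?_)⟩⟩
    have hx : ((x : ↥(cz t)) : G) ∈ SA φ := mem_subgroupOf.1 (hP.le x.2)
    have hy : ((y : ↥(cz t)) : G) ∈ SA φ := mem_subgroupOf.1 (hP.le y.2)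
    simpa using congrArg Subtype.val (mul_comm' (⟨_, hx⟩ : SA φ) ⟨_, hy⟩)
  set u : ↥(cz t) := ⟨a, le_cz hS hF ht ha⟩
  have hu : orderOf u = 2 := by
    rw [← orderOf_coe]
    exact orderOf_eq_prime (hF.elem_A.2 a ha) ha1
  refine Involutions.isolated_of_sylow P hu fun g hg => ?_
  have huP : u ∈ (P : Subgroup ↥(cz t)) := hP.ge (mem_subgroupOf.2 ha)
  obtain ⟨n, hn, he⟩ := P.conj_eq_normalizer_conj_of_mem u g⁻¹ huP (by simpa using hg)
  rw [inv_inv] at he
  rw [he]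
  refine Subtype.ext ?_
  have hnA : (n : G) ∈ normalizer (SA φ : Set G) :=
    coe_mem_normalizer (le_cz hS hF ht) (hP ▸ hn)
  have := hfix (n : G)⁻¹ (inv_mem hnA) (inv_mem n.2)
  simpa using this

/-- With a trivial automiser, `C(t) = O(C(t)) A`. -/
theorem eq_core_sup (hsA : Small φ) {t : G} (ht : t ∈ SA φ) (htZ : t ∉ SZ φ)
    (htriv : ∀ n ∈ normalizer (SA φ : Set G), n ∈ cz t → n ∈ centralizer (SA φ : Set G)) :
    cz t = core t ⊔ SA φ := by
  haveI : Fact (Nat.Prime 2) := ⟨Nat.prime_two⟩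
  obtain ⟨P, hP⟩ := exists_sylow hS hF hsA ht htZ
  have hAC := le_cz hS hF ht
  have hN : normalizer (((P : Subgroup ↥(cz t))) : Set ↥(cz t)) ≤
      centralizer ((P : Subgroup ↥(cz t)) : Set ↥(cz t)) := by
    intro n hn
    have hc := htriv n (coe_mem_normalizer hAC (hP ▸ hn)) n.2
    refine mem_centralizer_iff.2 fun x hx => Subtype.ext ?_
    exact mem_centralizer_iff.1 hc x (mem_subgroupOf.1 (hP.le hx))
  have hcompl := MonoidHom.ker_transferSylow_isComplement' P hN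
  have hodd : (MonoidHom.transferSylow P hN).ker ≤ oddCore ↥(cz t) :=
    Base.le_oddCore (Nat.odd_iff.2
      (Nat.two_dvd_ne_zero.1 (MonoidHom.not_dvd_card_ker_transferSylow P hN)))
  refine le_antisymm (fun g hg => ?_) (sup_le (map_subtype_le _) hAC)
  have h1 : (⟨g, hg⟩ : ↥(cz t)) ∈ oddCore ↥(cz t) ⊔ (SA φ).subgroupOf (cz t) := by
    refine sup_le_sup hodd hP.le ?_
    rw [hcompl.sup_eq_top]
    exact mem_top _
  have h2 := mem_map_of_mem (cz t).subtype h1
  rw [Subgroup.map_sup, subgroupOf_map_subtype] at h2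
  exact (sup_le_sup le_rfl inf_le_left : _ ≤ core t ⊔ SA φ) h2

end CentT

end CfsgLib.L34Sylow
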