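import Cfsg.Agent.Lib.L34Sylow.CoresBasic
import Cfsg.Agent.S0217
import Cfsg.Agent.Lib.FT.OddOrderTheorem
import Cfsg.Agent.Lib.Involutions.StrongEmb

/-!
# The subgroup generated by the cores and its normaliser
-/

set_option autoImplicit false
set_option linter.style.haveILetI false
set_option linter.unusedSectionVars false

namespace CfsgLib.L34Sylow

open Cfsg Subgroup CfsgLib.StrongTwoClasses

universe u

namespace CoresAux

variable {G : Type u} [Group G] [Finite G] {S : Sylow 2 G} {φ : F4 → F4 → F4 → G}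

/-- The subgroup generated by the cores of the involutions of `U`. -/
def gen (U : Subgroup G) : Subgroup G := ⨆ u : {u : G // u ∈ U ∧ u ≠ 1}, core (u : G)

theorem le_gen {U : Subgroup G} {u : G} (hu : u ∈ U) (h1 : u ≠ 1) : core u ≤ gen U :=
  le_iSup_of_le ⟨u, hu, h1⟩ le_rfl

theorem gen_mono {U V : Subgroup G} (h : U ≤ V) : gen U ≤ gen V :=
  iSup_le fun u => le_gen (h u.2.1) u.2.2

theorem normalizer_le_gen (U : Subgroup G) :
    normalizer (U : Set G) ≤ normalizer (gen U : Set G) := by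
  refine CfsgLib.Components.le_normalizer_of_conj_mem fun g hg x hx => ?_
  have hmap : (gen U).map (MulAut.conj g).toMonoidHom ≤ gen U := by
    unfold gen
    rw [Subgroup.map_iSup]
    refine iSup_le fun b => ?_
    refine (CfsgLib.Components.map_centralizerPPrimeCore_le (MulAut.conj g) (b : G)).trans ?_
    exact le_gen ((mem_normalizer_iff.1 hg _).1 b.2.1) fun e => b.2.2 (conj_eq_one_iff.1 e)
  exact hmap ⟨x, hx, rfl⟩

/-- The involutions of a subgroup of exponent two. -/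
theorem orderOf_A (hF : Facts S φ) {a : G} (ha : a ∈ SA φ) (h1 : a ≠ 1) : orderOf a = 2 :=
  orderOf_eq_prime (hF.elem_A.2 a ha) h1

theorem exists_small_ne (hS : Setup S φ) (hF : Facts S φ) :
    φ 1 0 0 ∈ SA φ ∧ φ 1 0 0 ∉ SZ φ := by
  refine ⟨subset_closure ⟨1, 0, rfl⟩, fun h => ?_⟩
  obtain ⟨c, hc⟩ := (hF.mem_Z _).1 h
  exact zero_ne_one (hS.inj _ _ _ _ _ _ hc).1

theorem phi_zero (hS : Setup S φ) : φ 0 0 0 = 1 := by
  have h := hS.mul 0 0 0 0 0 0
  simpa using h

theorem z1_mem (hS : Setup S φ) :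
    φ 0 0 1 ∈ SZ φ ∧ φ 0 0 1 ≠ 1 ∧ orderOf (φ 0 0 1) = 2 := by
  have hne : φ 0 0 1 ≠ 1 := fun h => by
    rw [← phi_zero hS] at h
    exact one_ne_zero (hS.inj _ _ _ _ _ _ h).2.2
  refine ⟨subset_closure ⟨1, rfl⟩, hne, orderOf_eq_prime ?_ hne⟩
  rw [sq, hS.mul, show (1 : F4) + 1 + 0 * 0 = 0 from by rw [f4_char]; simp]
  simpa using phi_zero hS

/-- Balance at every involution of the first subgroup. -/
theorem bal_A (hF : Facts S φ) (hz : ∀ z ∈ SZ φ, z ≠ 1 → Bal z)
    (hgood : Small φ → ∀ t ∈ SA φ, t ∉ SZ φ → TGood S φ t)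
    (hbig : ¬ Small φ → ∀ x ∈ SA φ, x ≠ 1 → ZType φ x) {a : G} (ha : a ∈ SA φ) (h1 : a ≠ 1) :
    Bal a := by
  by_cases haZ : a ∈ SZ φ
  · exact hz a haZ h1
  by_cases hs : Small φ
  · exact bal_t hF hs ha haZ (hgood hs a ha haZ)
  · obtain ⟨c, hc, hconj⟩ := hbig hs a ha h1
    refine (hz _ (subset_closure ⟨c, rfl⟩) fun e => ?_).of_isConj hconj
    obtain ⟨g, hg⟩ := isConj_iff.1 hconj
    exact h1 (by rw [← hg, e]; group)

/-- A four-group inside the first subgroup generates the same as the whole. -/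
theorem gen_eq (hF : Facts S φ) (hbal : ∀ a ∈ SA φ, a ≠ 1 → Bal a) {U : Subgroup G}
    (hU : U ≤ SA φ) (h4 : 4 ≤ Nat.card U) : gen U = gen (SA φ) := by
  haveI : Fact (Nat.Prime 2) := ⟨Nat.prime_two⟩
  refine le_antisymm (gen_mono hU) (iSup_le fun a => ?_)
  haveI : IsMulCommutative U := ⟨⟨fun x y => Subtype.ext
    (mem_centralizer_singleton_iff.1 (mem_cz_comm hF.elem_A (hU x.2) (hU y.2)))⟩⟩
  refine CfsgLib.Coprime.le_of_centralizer_le_of_not_isCyclic (A := U) ?_
    ((hU.trans (A_le_cz hF a.2.1)).trans (norm_core _)) ?_ ?_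
  · intro hcy
    obtain ⟨g, hg⟩ := IsCyclic.exists_generator (α := U)
    have h1 := orderOf_eq_card_of_forall_mem_zpowers hg
    have h2 : orderOf g ≤ 2 := orderOf_le_of_pow_eq_one (by norm_num)
      (Subtype.ext (by simpa using hF.elem_A.2 g (hU g.2)))
    omega
  · obtain ⟨n, hn⟩ := IsPGroup.iff_card.1 ((isPGroup_A hF).to_le hU)
    rw [hn]
    exact (Nat.coprime_two_left.2 (odd_core (a : G))).pow_left n
  · intro b hb hb1
    exact (hbal b (hU hb) hb1 _ (orderOf_A hF a.2.1 a.2.2) (A_le_cz hF (hU hb) a.2.1)).trans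
      (le_gen hb hb1)

theorem gen_Z_eq (hF : Facts S φ) (hbal : ∀ a ∈ SA φ, a ≠ 1 → Bal a) :
    gen (SZ φ) = gen (SA φ) :=
  gen_eq hF hbal hF.Z_le_A (by rw [hF.card_Z])

theorem odd_gen (hF : Facts S φ) (hbal : ∀ a ∈ SA φ, a ≠ 1 → Bal a) :
    Odd (Nat.card (gen (SA φ))) := by
  haveI : Fact (Nat.Prime 2) := ⟨Nat.prime_two⟩
  haveI := hF.elem_A.1
  have h := (Cfsg.Agent.S0217.result (SA φ) (fun a ha b hb => setLike_mul_comm ha hb)
    (fun a ha => hF.elem_A.2 a ha) (by rw [hF.card_A]; norm_num) (fun a => core a)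
    (fun a _ _ => core_le a)
    (fun a _ _ hd => Nat.not_even_iff_odd.2 (odd_core a) (even_iff_two_dvd.2 hd))
    (fun a ha _ b hb x hx => (mem_normalizer_iff.1 (norm_core a (A_le_cz hF ha hb)) x).1 hx)
    (fun a _ _ => CfsgLib.FT.isSolvable_of_odd (odd_core a))
    (fun a ha ha1 b hb hb1 =>
      hbal b hb hb1 a (orderOf_A hF ha ha1) (A_le_cz hF hb ha))).1
  rw [← Nat.not_even_iff_odd, even_iff_two_dvd]
  exact h

/-- The centralisers of the involutions of the first subgroup normalise the subgroup generated. -/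
theorem cz_le_norm (hF : Facts S φ) (hbal : ∀ a ∈ SA φ, a ≠ 1 → Bal a)
    (hgood : Small φ → ∀ t ∈ SA φ, t ∉ SZ φ → TGood S φ t)
    (hbig : ¬ Small φ → ∀ x ∈ SA φ, x ≠ 1 → ZType φ x)
    (hC : ∀ z ∈ SZ φ, z ≠ 1 → ∀ g ∈ cz z,
      ∃ x ∈ core z, ∃ n ∈ normalizer (S : Set G), n ∈ cz z ∧ g = x * n)
    {a : G} (ha : a ∈ SA φ) (h1 : a ≠ 1) : cz a ≤ normalizer (gen (SA φ) : Set G) := by
  set H := normalizer (gen (SA φ) : Set G) with hH
  have hcore : ∀ b ∈ SA φ, b ≠ 1 → core b ≤ H := fun b hb hb1 =>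
    (le_gen hb hb1).trans le_normalizer
  have hNA : normalizer (SA φ : Set G) ≤ H := normalizer_le_gen _
  have hNS : normalizer (S : Set G) ≤ H := hF.norm_A.trans hNA
  have hz : ∀ z ∈ SZ φ, z ≠ 1 → cz z ≤ H := by
    intro z hz hz1 g hg
    obtain ⟨x, hx, n, hn, -, rfl⟩ := hC z hz hz1 g hg
    exact mul_mem (hcore z (hF.Z_le_A hz) hz1 hx) (hNS hn)
  by_cases haZ : a ∈ SZ φ
  · exact hz a haZ h1
  by_cases hs : Small φ
  · rcases hgood hs a ha haZ with hg | ⟨A₀, L, M, _, _, π, hT, -, -⟩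
    · rw [hg]
      exact sup_le (hcore a ha h1) (le_normalizer.trans hNA)
    · intro g hg
      have hA₀ : A₀ ≤ cz a := hT.le₀.trans (A_le_cz hF ha)
      obtain ⟨o, ho, n, hn, rfl⟩ := exists_mul_of_conj_le ((isPGroup_A hF).to_le hT.le₀)
        (odd_core a) (hA₀.trans (norm_core a)) (g := g) (fun x hx => by
          have h2 := hT.central x hx g hg
          have e : g * x * g⁻¹ = (x * g * x⁻¹ * g⁻¹)⁻¹ * x := by group
          rw [e]
          exact mul_mem (mem_sup_right (inv_mem h2)) (mem_sup_left hx))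
      refine mul_mem (hcore a ha h1 ho) ?_
      have := normalizer_le_gen A₀ hn
      rwa [gen_eq hF hbal hT.le₀ (by rw [hT.card₀])] at this
  · obtain ⟨c, hc, hconj⟩ := hbig hs a ha h1
    obtain ⟨g, hg⟩ := isConj_iff.1 hconj
    have hzA : φ 0 0 c ∈ SA φ := subset_closure ⟨0, c, rfl⟩
    obtain ⟨n, hn, hn'⟩ := hF.fus_A _ hzA g (by show g * φ 0 0 c * g⁻¹ ∈ _; rwa [hg])
    have hna : n * φ 0 0 c * n⁻¹ = a := hn'.trans hg
    intro y hy
    have hy' : n⁻¹ * y * n⁻¹⁻¹ ∈ cz (φ 0 0 c) := by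
      have := conj_cz (g := n⁻¹) hy
      rwa [show n⁻¹ * a * n⁻¹⁻¹ = φ 0 0 c from by rw [← hna]; group] at this
    have hne : φ 0 0 c ≠ 1 := fun e => h1 (by rw [← hna, e]; group)
    have := mul_mem (mul_mem (hNA hn) (hz _ (subset_closure ⟨c, rfl⟩) hne hy')) (inv_mem (hNA hn))
    simpa [mul_assoc] using this

/-- What the two sides give together. -/
structure Ctrl (S : Sylow 2 G) (φ : F4 → F4 → F4 → G) (W : Subgroup G) : Prop where
  odd : Odd (Nat.card W)
  cores : ∀ a, (a ∈ SA φ ∨ a ∈ SB φ) → a ≠ 1 → core a ≤ W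
  cz_le : ∀ a, (a ∈ SA φ ∨ a ∈ SB φ) → a ≠ 1 → cz a ≤ normalizer (W : Set G)
  four : ∀ U : Subgroup G, (U ≤ SA φ ∨ U ≤ SB φ) → 4 ≤ Nat.card U →
    normalizer (U : Set G) ≤ normalizer (W : Set G)
  norm_S : normalizer (S : Set G) ≤ normalizer (W : Set G)

theorem exists_ctrl (hFa : StmtFacts.{u}) (hB : StmtBig.{u}) (hC : StmtCentZ.{u})
    (hS : Setup S φ) (hgood : AllGood S φ) : ∃ W, Ctrl S φ W := by
  have hF := hFa G S φ hS
  have hF' := hFa G S (swap φ) hS.swap
  have hC' := hC hFa G S φ hS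
  have hbz : ∀ z ∈ SZ φ, z ≠ 1 → Bal z := fun z hz hz1 =>
    bal_z hS hF hF' hz (hC' z hz hz1)
  have hbigA : ¬ Small φ → ∀ x ∈ SA φ, x ≠ 1 → ZType φ x := fun hs => by
    obtain ⟨ψ, -, -, -, -, -, -, h, -⟩ := hB hFa G S φ hS hs
    exact h
  have hbigB : ¬ Small (swap φ) → ∀ x ∈ SA (swap φ), x ≠ 1 → ZType (swap φ) x := fun hs => by
    obtain ⟨ψ, -, -, -, -, -, -, h, -⟩ := hB hFa G S (swap φ) hS.swap hs
    exact h
  have hgB : Small (swap φ) → ∀ t ∈ SA (swap φ), t ∉ SZ (swap φ) → TGood S (swap φ) t :=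
    fun hs t ht htZ => hgood.2 ((small_swap φ).1 hs) t (by rwa [SA_swap] at ht)
      (by rwa [SZ_swap] at htZ)
  have hbA : ∀ a ∈ SA φ, a ≠ 1 → Bal a := fun a ha h1 => bal_A hF hbz hgood.1 hbigA ha h1
  have hbB : ∀ a ∈ SA (swap φ), a ≠ 1 → Bal a := fun a ha h1 =>
    bal_A hF' (fun z hz => hbz z (by rwa [SZ_swap] at hz)) hgB hbigB ha h1
  have hWB : gen (SA (swap φ)) = gen (SA φ) := by
    rw [← gen_Z_eq hF' hbB, SZ_swap, gen_Z_eq hF hbA]
  have hcB : ∀ z ∈ SZ (swap φ), z ≠ 1 → ∀ g ∈ cz z,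
      ∃ x ∈ core z, ∃ n ∈ normalizer (S : Set G), n ∈ cz z ∧ g = x * n :=
    fun z hz => hC' z (by rwa [SZ_swap] at hz)
  refine ⟨gen (SA φ), odd_gen hF hbA, ?_, ?_, ?_, hF.norm_A.trans (normalizer_le_gen _)⟩
  · rintro a (ha | ha) h1
    · exact le_gen ha h1
    · exact hWB ▸ le_gen (by rwa [SA_swap]) h1
  · rintro a (ha | ha) h1
    · exact cz_le_norm hF hbA hgood.1 hbigA hC' ha h1
    · exact hWB ▸ cz_le_norm hF' hbB hgB hbigB hcB (by rwa [SA_swap]) h1
  · rintro U (hU | hU) h4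
    · exact gen_eq hF hbA hU h4 ▸ normalizer_le_gen U
    · rw [← hWB, ← gen_eq hF' hbB (by rwa [SA_swap]) h4]
      exact normalizer_le_gen U

/-- The normaliser of the subgroup generated is strongly embedded unless it is everything. -/
theorem stronglyEmbedded (hF : Facts S φ) (hS : Setup S φ) {W : Subgroup G} (hW : Ctrl S φ W)
    (hne : normalizer (W : Set G) ≠ ⊤) : IsStronglyEmbedded (normalizer (W : Set G)) := by
  haveI : Fact (Nat.Prime 2) := ⟨Nat.prime_two⟩
  set H := normalizer (W : Set G) with hH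
  have hSH : (S : Subgroup G) ≤ H := le_normalizer.trans hW.norm_S
  have hmax : ¬ 2 ∣ (S : Subgroup G).relIndex H := fun h =>
    S.not_dvd_index (h.trans (Dvd.intro _ (relIndex_mul_index hSH)))
  have helem : ∀ U : Subgroup G, U ≤ (S : Subgroup G) → (∀ x ∈ U, x * x = 1) → U ≠ ⊥ →
      normalizer (U : Set G) ≤ H := by
    intro U hUS hU2 hU1
    have hAB : ∀ x ∈ U, x ∈ SA φ ∨ x ∈ SB φ := fun x hx => hF.invol x (hUS hx) (hU2 x hx)
    have hsub : U ≤ SA φ ∨ U ≤ SB φ := by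
      by_contra hno
      rw [not_or, SetLike.not_le_iff_exists, SetLike.not_le_iff_exists] at hno
      obtain ⟨⟨x, hx, hxA⟩, ⟨y, hy, hyB⟩⟩ := hno
      have hxB := (hAB x hx).resolve_left hxA
      have hyA := (hAB y hy).resolve_right hyB
      rcases hAB _ (mul_mem hx hy) with h | h
      · exact hxA (by simpa using mul_mem h (inv_mem hyA))
      · exact hyB (by simpa using mul_mem (inv_mem hxB) h)
    by_cases h4 : 4 ≤ Nat.card U
    · exact hW.four U hsub h4
    · obtain ⟨x, hx, hx1⟩ := (Subgroup.bot_or_exists_ne_one U).resolve_left hU1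
      obtain ⟨n, hn⟩ := IsPGroup.iff_card.1 (S.2.to_le hUS)
      have hn2 : Nat.card U = 2 := by
        have h2 : orderOf x = 2 := orderOf_eq_prime (by rw [sq]; exact hU2 x hx) hx1
        have h3 : 2 ∣ Nat.card U := h2 ▸ U.orderOf_dvd_natCard hx
        have h5 : 0 < Nat.card U := Nat.card_pos
        have h6 : Nat.card U ≠ 3 := fun e => by rw [e] at h3; omega
        obtain ⟨k, hk⟩ := h3
        omega
      have hgen : U = zpowers x := by
        refine (eq_of_le_of_card_ge (zpowers_le.2 hx) ?_).symm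
        rw [hn2, Nat.card_zpowers, orderOf_eq_prime (by rw [sq]; exact hU2 x hx) hx1]
      intro g hg
      refine hW.cz_le x (hAB x hx) hx1 (mem_centralizer_singleton_iff.2 ?_)
      have hgx := (mem_normalizer_iff.1 hg x).1 hx
      rw [hgen] at hgx
      obtain ⟨i, hi⟩ := mem_zpowers_iff.1 hgx
      rcases Int.even_or_odd i with ⟨j, rfl⟩ | ⟨j, rfl⟩
      · exfalso
        rw [← two_mul, zpow_mul, zpow_two, hU2 x hx, one_zpow] at hi
        exact hx1 (conj_eq_one_iff.1 hi.symm)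
      · rw [zpow_add, zpow_mul, zpow_two, hU2 x hx, one_zpow, one_mul, zpow_one] at hi
        exact (mul_inv_eq_iff_eq_mul.1 hi.symm)
  refine ⟨hne, ?_, fun g hg => ?_⟩
  · obtain ⟨hz, -, hz2⟩ := z1_mem hS
    rw [even_iff_two_dvd, ← hz2]
    exact H.orderOf_dvd_natCard (hSH (hF.Z_le_A.trans hF.le_A hz))
  rw [Involutions.odd_card_iff]
  intro t ht ht2
  refine Involutions.not_le_inf_conj_of_normalizer_le H (fun D => D ≠ ⊥)
    (fun D E hDE hD hE => hD (eq_bot_iff.2 (hDE.trans hE.le))) ?_ hg (zpowers t)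
    (IsPGroup.of_card (n := 1) (by rw [Nat.card_zpowers, ht2, pow_one])) (zpowers_le.2 ht)
    (fun e => by rw [zpowers_eq_bot] at e; rw [e, orderOf_one] at ht2; omega)
  intro D hDH hD2 hD1
  -- the involutions of the centre of `D`
  let V : Subgroup G :=
    { carrier := {x | x ∈ D ∧ (∀ y ∈ D, x * y = y * x) ∧ x * x = 1}
      one_mem' := ⟨one_mem D, fun y _ => by rw [one_mul, mul_one], one_mul 1⟩
      mul_mem' := by
        rintro x y ⟨hx, hxc, hx2⟩ ⟨hy, hyc, hy2⟩
        refine ⟨mul_mem hx hy, fun w hw => ?_, ?_⟩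
        · rw [mul_assoc, hyc w hw, ← mul_assoc, hxc w hw, mul_assoc]
        · calc x * y * (x * y) = x * (y * x) * y := by group
            _ = x * (x * y) * y := by rw [hxc y hy]
            _ = x * x * (y * y) := by group
            _ = 1 := by rw [hx2, hy2, one_mul]
      inv_mem' := by
        rintro x ⟨hx, hxc, hx2⟩
        rw [inv_eq_of_mul_eq_one_right hx2]
        exact ⟨hx, hxc, hx2⟩ }
  have hV1 : V ≠ ⊥ := by
    haveI : Nontrivial D := (nontrivial_iff_ne_bot D).2 hD1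
    haveI := hD2.center_nontrivial
    obtain ⟨k, hk⟩ := (hD2.to_subgroup (center D)).exists_card_eq
    have hk0 : k ≠ 0 := by
      rintro rfl
      have := Finite.one_lt_card (α := center D)
      rw [hk, pow_zero] at this
      omega
    obtain ⟨z, hz⟩ := exists_prime_orderOf_dvd_card' (G := center D) 2
      (hk ▸ dvd_pow_self 2 hk0)
    intro e
    have hmem : ((z : D) : G) ∈ V := ⟨(z : D).2,
      fun y hy => congrArg Subtype.val ((mem_center_iff.1 z.2 ⟨y, hy⟩).symm), by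
        have h := pow_orderOf_eq_one z
        rw [hz, sq] at h
        exact congrArg (fun q : center D => ((q : D) : G)) h⟩
    rw [e, Subgroup.mem_bot] at hmem
    have : z = 1 := Subtype.ext (Subtype.ext hmem)
    rw [this, orderOf_one] at hz
    omega
  have hND : normalizer (D : Set G) ≤ normalizer (V : Set G) := by
    refine CfsgLib.Components.le_normalizer_of_conj_mem fun n hn x hx => ?_
    obtain ⟨hxD, hxc, hx2⟩ := hx
    refine ⟨(mem_normalizer_iff.1 hn x).1 hxD, fun y hy => ?_, ?_⟩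
    · have hy' : n⁻¹ * y * n ∈ D := by
        have := (mem_normalizer_iff.1 (inv_mem hn) y).1 hy
        simpa using this
      calc n * x * n⁻¹ * y = n * (x * (n⁻¹ * y * n)) * n⁻¹ := by group
        _ = n * (n⁻¹ * y * n * x) * n⁻¹ := by rw [hxc _ hy']
        _ = y * (n * x * n⁻¹) := by group
    · calc n * x * n⁻¹ * (n * x * n⁻¹) = n * (x * x) * n⁻¹ := by group
        _ = 1 := by rw [hx2]; group
  have hVH : V ≤ H := fun x hx => hDH hx.1
  obtain ⟨h, hh, hhV⟩ := CfsgLib.Transfer.exists_conj_le_of_isPGroup S.2 hSH hmax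
    (hD2.to_le (show V ≤ D from fun x hx => hx.1)) hVH
  refine hND.trans fun n hn => ?_
  set V' := V.map (MulAut.conj h⁻¹).toMonoidHom
  have hV'S : V' ≤ (S : Subgroup G) := by
    rintro _ ⟨x, hx, rfl⟩
    simpa using hhV x hx
  have hn' : h⁻¹ * n * h ∈ normalizer (V' : Set G) := by
    have := le_normalizer_map (H := V) (MulAut.conj h⁻¹).toMonoidHom ⟨n, hn, rfl⟩
    simpa [V'] using this
  have := helem V' hV'S (by
    rintro _ ⟨x, hx, rfl⟩
    rw [← map_mul, hx.2.2, map_one]) (by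
    rw [Ne, map_eq_bot_iff_of_injective _ (MulEquiv.injective _)]; exact hV1) hn'
  simpa [mul_assoc] using mul_mem (mul_mem hh this) (inv_mem hh)

end CoresAux

end CfsgLib.L34Sylow
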