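import Cfsg.Agent.Lib.L34Sylow.KleinOrder
import Cfsg.Agent.Lib.CentFour.Tools
import Cfsg.Agent.Lib.Coprime.Basic

/-!
# Piece 5: groups with a Klein four Sylow subgroup

A proper subgroup `K` containing `N(P)` and all `C(v)` with `K = O(K) N(P)` has `|K : C(x)| = 3r²`,
and `P` fixes only one point on its cosets; the counting formula leaves index five.
-/

set_option autoImplicit false
set_option linter.style.haveILetI false
set_option linter.unusedSectionVars false

namespace CfsgLib.L34Sylow.Klein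

open Cfsg Subgroup CfsgLib.Base

universe u

variable {M : Type u} [Group M] [Finite M] {P : Subgroup M} (h : KHyp P) {x : M}

include h

theorem eq_one_of_mem_odd_P {Q : Subgroup M} (hQ : Odd (Nat.card Q)) {q : M} (hq : q ∈ Q)
    (hP : q ∈ P) : q = 1 :=
  eq_one_of_odd_of_sq (odd_orderOf hQ hq) (sq_one h hP)

/-- The index of the centralizer in a local subgroup. -/
theorem relIndex_local (hx : x ∈ P) (hx1 : x ≠ 1) {K Q : Subgroup M}
    (hNK : normalizer (P : Set M) ≤ K) (hCK : ∀ v ∈ P, v ≠ 1 → cz v ≤ K) (hQK : Q ≤ K)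
    (hQo : Odd (Nat.card Q)) (hKQ : K ≤ normalizer (Q : Set M))
    (hmax : ∀ R : Subgroup M, R ≤ K → K ≤ normalizer (R : Set M) → Odd (Nat.card R) → R ≤ Q)
    (hKQP : K ≤ normalizer ((Q ⊔ P : Subgroup M) : Set M)) :
    (cz x).relIndex K = 3 * rr P x ^ 2 := by
  classical
  haveI := Fintype.ofFinite M
  have hPK : P ≤ K := le_normalizer.trans hNK
  have hQnP : P ≤ normalizer (Q : Set M) := hPK.trans hKQ
  -- Frattini
  have hdec : ∀ k ∈ K, ∃ q ∈ Q, ∃ n ∈ normalizer (P : Set M), k = q * n := by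
    intro k hk
    have hA : P.map (MulAut.conj k).toMonoidHom ≤ Q ⊔ P := by
      rintro _ ⟨p, hp, rfl⟩
      exact (mem_normalizer_iff.1 (hKQP hk) p).1 (mem_sup_right hp)
    obtain ⟨r, hr, hrP⟩ := conj_into h (le_sup_right : P ≤ Q ⊔ P) ((isPGroup_P h).map _) hA
    have hn : r * k ∈ normalizer (P : Set M) := by
      rw [mem_normalizer_iff_map_conj_eq]
      refine eq_of_le_of_card_ge ?_
        (Subgroup.card_map_of_injective (MulAut.conj (r * k)).injective).ge
      rintro _ ⟨p, hp, rfl⟩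
      show r * k * p * (r * k)⁻¹ ∈ P
      rw [show r * k * p * (r * k)⁻¹ = r * (k * p * k⁻¹) * r⁻¹ by group]
      exact hrP _ ⟨p, hp, rfl⟩
    rw [← SetLike.mem_coe, coe_mul_of_right_le_normalizer_left Q P hQnP] at hr
    obtain ⟨q, hq, p, hp, rfl⟩ := Set.mem_mul.1 hr
    have hpn : p ∈ normalizer (P : Set M) := le_normalizer hp
    refine ⟨p⁻¹ * q⁻¹ * p, ?_, p⁻¹ * (q * p * k), mul_mem (inv_mem hpn) hn, by group⟩
    have := (mem_normalizer_iff.1 (hQnP (inv_mem hp)) q⁻¹).1 (inv_mem hq)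
    rwa [inv_inv] at this
  -- `C_W(P) ≤ Q`
  set c := core x ⊓ centralizer (P : Set M) with hc
  have hcK : c ≤ K := inf_le_left.trans ((core_le x).trans (hCK x hx hx1))
  have hco : Odd (Nat.card c) := (odd_core x).of_dvd_nat (card_dvd_of_le inf_le_left)
  have hcn : ∀ n ∈ normalizer (P : Set M), ∀ g ∈ c, n * g * n⁻¹ ∈ c := by
    intro n hn g hg
    have hcen : n * g * n⁻¹ ∈ centralizer (P : Set M) := by
      refine mem_centralizer_iff.2 fun v hv => ?_
      have hv' : n⁻¹ * v * n ∈ P := by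
        have := (mem_normalizer_iff.1 (inv_mem hn) v).1 hv
        rwa [inv_inv] at this
      have e := mem_centralizer_iff.1 hg.2 _ hv'
      calc v * (n * g * n⁻¹) = n * ((n⁻¹ * v * n) * g) * n⁻¹ := by group
        _ = n * (g * (n⁻¹ * v * n)) * n⁻¹ := by rw [e]
        _ = _ := by group
    refine ⟨mem_core_of_odd h hx hx1 ?_ ?_, hcen⟩
    · exact centralizer_le (Set.singleton_subset_iff.2 hx) hcen
    · rw [← MulAut.conj_apply, MulEquiv.orderOf_eq]
      exact odd_orderOf (odd_core x) hg.1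
  have hcQ : c ≤ Q := by
    refine le_sup_right.trans (hmax (Q ⊔ c) (sup_le hQK hcK) ?_
      ((hco.mul hQo).of_dvd_nat (by
        rw [sup_comm]; exact CfsgLib.Coprime.card_sup_dvd (hcK.trans hKQ))))
    intro k hk
    obtain ⟨q, hq, n, hn, rfl⟩ := hdec k hk
    refine mul_mem (le_normalizer (mem_sup_left hq)) ?_
    rw [mem_normalizer_iff_map_conj_eq]
    refine eq_of_le_of_card_ge ?_ (Subgroup.card_map_of_injective (MulAut.conj n).injective).ge
    rw [Subgroup.map_sup]
    refine sup_le ?_ ?_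
    · rintro _ ⟨g, hg, rfl⟩
      exact mem_sup_left ((mem_normalizer_iff.1 (hKQ (hNK hn)) g).1 hg)
    · rintro _ ⟨g, hg, rfl⟩
      exact mem_sup_right (hcn n hn g hg)
  -- the cores lie in `Q`
  have hcoreQ : ∀ v ∈ P, v ≠ 1 → core v ⊓ centralizer (P : Set M) ≤ Q → core v ≤ Q := by
    intro v hv hv1 hvQ w hw
    obtain ⟨q, hq, n, hn, hqn⟩ := hdec w (hCK v hv hv1 (core_le v hw))
    have hnv : n * v * n⁻¹ = v := by
      have e : w * v * w⁻¹ = v := by
        rw [mem_centralizer_singleton_iff.1 (core_le v hw), mul_inv_cancel_right]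
      have hv' : n * v * n⁻¹ ∈ P := (mem_normalizer_iff.1 hn v).1 hv
      have h1 : v * (n * v * n⁻¹)⁻¹ ∈ Q := by
        rw [show v * (n * v * n⁻¹)⁻¹ = q * ((n * v * n⁻¹) * q⁻¹ * (n * v * n⁻¹)⁻¹) by
          calc v * (n * v * n⁻¹)⁻¹ = w * v * w⁻¹ * (n * v * n⁻¹)⁻¹ := by rw [e]
            _ = _ := by rw [hqn]; group]
        exact mul_mem hq ((mem_normalizer_iff.1 (hQnP hv') q⁻¹).1 (inv_mem hq))
      exact (mul_inv_eq_one.1 (eq_one_of_mem_odd_P h hQo h1 (mul_mem hv (inv_mem hv')))).symm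
    obtain ⟨d, hd, p, hp, rfl⟩ := cent_P_cases h hv hv1 (norm_fix_cent h hv hv1 hn hnv)
    have hqd : q * d ∈ Q := mul_mem hq (hvQ hd)
    have hp1 : p = 1 := by
      obtain ⟨k, hk⟩ := odd_orderOf (odd_core v) hw
      have hsq : w * w ∈ Q := by
        rw [show w * w = (q * d) * (p * (q * d) * p⁻¹) * (p * p) by rw [hqn]; group,
          sq_one h hp, mul_one]
        exact mul_mem hqd ((mem_normalizer_iff.1 (hQnP hp) _).1 hqd)
      have h1 := pow_orderOf_eq_one w
      rw [hk, pow_add, pow_mul, sq, pow_one] at h1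
      have hwQ : w ∈ Q := by rw [eq_inv_of_mul_eq_one_right h1]; exact inv_mem (pow_mem hsq k)
      refine eq_one_of_mem_odd_P h hQo ?_ hp
      rw [show p = (q * d)⁻¹ * w by rw [hqn]; group]
      exact mul_mem (inv_mem hqd) hwQ
    rw [hqn, hp1, mul_one]
    exact hqd
  have hcx : ∀ v ∈ P, v ≠ 1 → core v ⊓ centralizer (P : Set M) = c := by
    have key : ∀ v w : M, v ∈ P → v ≠ 1 → w ∈ P → w ≠ 1 →
        core v ⊓ centralizer (P : Set M) ≤ core w ⊓ centralizer (P : Set M) :=
      fun v w _ _ hw hw1 g hg => ⟨mem_core_of_odd h hw hw1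
        (centralizer_le (Set.singleton_subset_iff.2 hw) hg.2) (odd_orderOf (odd_core v) hg.1), hg.2⟩
    exact fun v hv hv1 => le_antisymm (key v x hv hv1 hx hx1) (key x v hx hx1 hv hv1)
  have hQv : ∀ v ∈ P, v ≠ 1 → Q ⊓ cz v = core v := by
    intro v hv hv1
    refine le_antisymm (le_core inf_le_right ?_ (hQo.of_dvd_nat (card_dvd_of_le inf_le_left)))
      (le_inf (hcoreQ v hv hv1 (hcx v hv hv1 ▸ hcQ)) (core_le v))
    intro g hg
    rw [mem_normalizer_iff_map_conj_eq]
    refine eq_of_le_of_card_ge ?_ (Subgroup.card_map_of_injective (MulAut.conj g).injective).ge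
    rintro _ ⟨q, ⟨hq, hqv⟩, rfl⟩
    have hmem : g * q * g⁻¹ ∈ cz v := mul_mem (mul_mem hg hqv) (inv_mem hg)
    exact ⟨(mem_normalizer_iff.1 (hKQ (hCK v hv hv1 hg)) q).1 hq, hmem⟩
  -- the order of `Q`
  obtain ⟨v, hv, hv1, hvx⟩ : ∃ v ∈ P, v ≠ 1 ∧ v ≠ x := by
    by_contra hno
    push Not at hno
    have := card_other_two h hx hx1
    have hemp : IsEmpty {v : M // v ∈ P ∧ v ≠ 1 ∧ v ≠ x} := ⟨fun v => v.2.2.2 (hno v v.2.1 v.2.2.1)⟩
    rw [@Nat.card_of_isEmpty _ hemp] at this
    omega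
  have hxv : x * v ∈ P := mul_mem hx hv
  have hxv1 : x * v ≠ 1 := fun e => hvx (by rw [eq_inv_of_mul_eq_one_right e, inv_self h hx])
  have four := CentFour.four_formula_subgroup Q hQo (sq_one h hx) (sq_one h hv) (comm_mem h hx hv)
    (fun q hq => (mem_normalizer_iff.1 (hQnP hx) q).1 hq)
    (fun q hq => (mem_normalizer_iff.1 (hQnP hv) q).1 hq)
  have hQc : Q ⊓ centralizer ({x, v} : Set M) = c := by
    rw [← cz_P_eq h hx hx1 hv hv1 hvx]
    refine le_antisymm ?_ (le_inf hcQ inf_le_right)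
    rintro g ⟨hgQ, hgP⟩
    exact ⟨mem_core_of_odd h hx hx1 (centralizer_le (Set.singleton_subset_iff.2 hx) hgP)
      (odd_orderOf hQo hgQ), hgP⟩
  rw [hQc, hQv x hx hx1, hQv v hv hv1, hQv _ hxv hxv1, card_core_eq h hx hx1 hv hv1,
    card_core_eq h hx hx1 hxv hxv1] at four
  have hWr : Nat.card c * rr P x = Nat.card (core x) := by
    rw [hc, rr, ← inf_relIndex_right, inf_comm, ← relIndex_bot_left,
      relIndex_mul_relIndex _ _ _ bot_le inf_le_right, relIndex_bot_left]
  have hQcard : Nat.card Q = Nat.card (core x) * rr P x ^ 2 := by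
    refine Nat.eq_of_mul_eq_mul_right (pow_pos (Nat.card_pos (α := c)) 2) ?_
    rw [four, ← hWr]; ring
  -- each involution of `P` has `r²` conjugates under `Q`
  have hone : ∀ v ∈ P, v ≠ 1 → (cz v).relIndex Q = rr P x ^ 2 := by
    intro v hv hv1
    have e : Nat.card (core v) * (cz v).relIndex Q = Nat.card Q := by
      rw [← hQv v hv hv1, ← inf_relIndex_right (cz v), inf_comm, ← relIndex_bot_left,
        relIndex_mul_relIndex _ _ _ bot_le inf_le_right, relIndex_bot_left]
    rw [card_core_eq h hx hx1 hv hv1, hQcard] at e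
    exact Nat.eq_of_mul_eq_mul_left Nat.card_pos e
  -- count the conjugates of `x` under `K`
  let f : K ⧸ (cz x).subgroupOf K → {y : M // ∃ k ∈ K, k * x * k⁻¹ = y} := fun q =>
    ⟨(q.out : M) * x * (q.out : M)⁻¹, q.out, q.out.2, rfl⟩
  have hf : Function.Bijective f := by
    constructor
    · intro p q e
      have e' : (p.out : M) * x * (p.out : M)⁻¹ = (q.out : M) * x * (q.out : M)⁻¹ :=
        congrArg Subtype.val e
      rw [← QuotientGroup.out_eq' p, ← QuotientGroup.out_eq' q]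
      refine QuotientGroup.eq.2 (mem_centralizer_singleton_iff.2 ?_)
      show (p.out : M)⁻¹ * (q.out : M) * x = x * ((p.out : M)⁻¹ * (q.out : M))
      calc (p.out : M)⁻¹ * (q.out : M) * x
          = (p.out : M)⁻¹ * ((q.out : M) * x * (q.out : M)⁻¹) * (q.out : M) := by group
        _ = _ := by rw [← e']; group
    · rintro ⟨_, k, hk, rfl⟩
      refine ⟨((⟨k, hk⟩ : K) : K ⧸ _), Subtype.ext ?_⟩
      obtain ⟨d, hd⟩ := QuotientGroup.mk_out_eq_mul ((cz x).subgroupOf K) (⟨k, hk⟩ : K)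
      show ((_ : K) : M) * x * ((_ : K) : M)⁻¹ = k * x * k⁻¹
      rw [hd]
      have hdx : ((d : K) : M) * x = x * ((d : K) : M) := mem_centralizer_singleton_iff.1 d.2
      calc k * ((d : K) : M) * x * (k * ((d : K) : M))⁻¹
          = k * (((d : K) : M) * x * ((d : K) : M)⁻¹) * k⁻¹ := by group
        _ = _ := by rw [hdx, mul_inv_cancel_right]
  let g : (Σ v : {v : M // v ∈ P ∧ v ≠ 1}, Q ⧸ (cz (v : M)).subgroupOf Q) →
      {y : M // ∃ k ∈ K, k * x * k⁻¹ = y} := fun s =>
    ⟨(s.2.out : M) * s.1.1 * (s.2.out : M)⁻¹, by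
      obtain ⟨n, hn, e⟩ := norm_trans h hx hx1 s.1.2.1 s.1.2.2
      refine ⟨(s.2.out : M) * n, mul_mem (hQK s.2.out.2) (hNK hn), ?_⟩
      calc (s.2.out : M) * n * x * ((s.2.out : M) * n)⁻¹
          = (s.2.out : M) * (n * x * n⁻¹) * (s.2.out : M)⁻¹ := by group
        _ = _ := congrArg (fun z => (s.2.out : M) * z * (s.2.out : M)⁻¹) e⟩
  have hg : Function.Bijective g := by
    constructor
    · rintro ⟨⟨v, hv, hv1⟩, p⟩ ⟨⟨w, hw, hw1⟩, q⟩ e
      have e' : (p.out : M) * v * (p.out : M)⁻¹ = (q.out : M) * w * (q.out : M)⁻¹ :=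
        congrArg Subtype.val e
      set d := (q.out : M)⁻¹ * (p.out : M) with hd
      have hdQ : d ∈ Q := mul_mem (inv_mem q.out.2) p.out.2
      have e2 : d * v * d⁻¹ = w := by
        calc d * v * d⁻¹ = (q.out : M)⁻¹ * ((p.out : M) * v * (p.out : M)⁻¹) * (q.out : M) := by
              rw [hd]; group
          _ = _ := by rw [e']; group
      have h1 : w * v⁻¹ ∈ Q := by
        rw [← e2, show d * v * d⁻¹ * v⁻¹ = d * (v * d⁻¹ * v⁻¹) by group]
        exact mul_mem hdQ ((mem_normalizer_iff.1 (hQnP hv) d⁻¹).1 (inv_mem hdQ))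
      obtain rfl : w = v :=
        mul_inv_eq_one.1 (eq_one_of_mem_odd_P h hQo h1 (mul_mem hw (inv_mem hv)))
      have hpq : q = p := by
        rw [← QuotientGroup.out_eq' p, ← QuotientGroup.out_eq' q]
        exact QuotientGroup.eq.2
          (mem_centralizer_singleton_iff.2 (mul_inv_eq_iff_eq_mul.1 e2))
      rw [hpq]
    · rintro ⟨_, k, hk, rfl⟩
      obtain ⟨q, hq, n, hn, rfl⟩ := hdec k hk
      set v := n * x * n⁻¹ with hv
      have hvP : v ∈ P := (mem_normalizer_iff.1 hn x).1 hx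
      have hv1 : v ≠ 1 := fun e => hx1 (conj_eq_one_iff.1 e)
      refine ⟨⟨⟨v, hvP, hv1⟩, ((⟨q, hq⟩ : Q) : Q ⧸ _)⟩, Subtype.ext ?_⟩
      obtain ⟨d, hd⟩ := QuotientGroup.mk_out_eq_mul ((cz v).subgroupOf Q) (⟨q, hq⟩ : Q)
      show ((_ : Q) : M) * v * ((_ : Q) : M)⁻¹ = q * n * x * (q * n)⁻¹
      rw [hd]
      have hdv : ((d : Q) : M) * v = v * ((d : Q) : M) := mem_centralizer_singleton_iff.1 d.2
      calc q * ((d : Q) : M) * v * (q * ((d : Q) : M))⁻¹
          = q * (((d : Q) : M) * v * ((d : Q) : M)⁻¹) * q⁻¹ := by group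
        _ = q * v * q⁻¹ := by rw [hdv, mul_inv_cancel_right]
        _ = _ := by rw [hv]; group
  have hthree : Nat.card {v : M // v ∈ P ∧ v ≠ 1} = 3 := by
    have e : Nat.card {v : M // v ∈ P ∧ v ≠ 1} = ((P : Set M) \ {1}).ncard := by
      rw [← Nat.card_coe_set_eq]
      exact Nat.card_congr (Equiv.subtypeEquivRight fun v => by simp)
    rw [e, Set.ncard_diff (Set.singleton_subset_iff.2 (one_mem P)), Set.ncard_singleton]
    show Nat.card P - 1 = 3
    rw [card_P h]
  rw [relIndex, index_eq_card, Nat.card_eq_of_bijective f hf, ← Nat.card_eq_of_bijective g hg,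
    Nat.card_sigma, Finset.sum_congr rfl fun (v : {v : M // v ∈ P ∧ v ≠ 1}) _ =>
      (index_eq_card _).symm.trans (hone v v.2.1 v.2.2), Finset.sum_const, Finset.card_univ,
    ← Nat.card_eq_fintype_card, hthree, smul_eq_mul]

/-- A proper strongly embedded local subgroup has index five. -/
theorem local_order (hx : x ∈ P) (hx1 : x ≠ 1) {K O : Subgroup M}
    (hNK : normalizer (P : Set M) ≤ K) (hCK : ∀ v ∈ P, v ≠ 1 → cz v ≤ K) (hOK : O ≤ K)
    (hOo : Odd (Nat.card O)) (hKO : K ≤ normalizer (O : Set M))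
    (hKOP : K ≤ normalizer ((O ⊔ P : Subgroup M) : Set M)) :
    (Nat.card M = 12 ∨ Nat.card M = 60) ∧ ∀ v : M, orderOf v = 2 → Nat.card (cz v) = 4 := by
  classical
  by_cases htop : K = ⊤
  · subst htop
    haveI : O.Normal := normalizer_eq_top_iff.1 (top_le_iff.1 hKO)
    have hO : O = ⊥ := by
      rw [← le_bot_iff, ← h.core_bot]
      exact CfsgLib.Base.le_oddCore hOo
    have hn : ∀ g : M, g ∈ normalizer (P : Set M) := fun g => by
      have := hKOP (mem_top g)
      rwa [hO, bot_sup_eq] at this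
    exact ⟨Or.inl (normal_case h hx hx1 hn).1, (normal_case h hx hx1 hn).2⟩
  have hPK : P ≤ K := le_normalizer.trans hNK
  set Q := (pPrimeCore 2 K).map K.subtype with hQ
  have hQK : Q ≤ K := map_subtype_le _
  have hQo : Odd (Nat.card Q) := Nat.coprime_two_right.1 (coprime_card_map_pPrimeCore _)
  have hKQ : K ≤ normalizer (Q : Set M) := le_normalizer_map_pPrimeCore _
  have hmax : ∀ R : Subgroup M, R ≤ K → K ≤ normalizer (R : Set M) → Odd (Nat.card R) → R ≤ Q :=
    fun R h1 h2 h3 => le_map_pPrimeCore h1 h2 (Nat.coprime_two_right.2 h3)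
  have hKQP : K ≤ normalizer ((Q ⊔ P : Subgroup M) : Set M) := by
    intro k hk
    rw [mem_normalizer_iff_map_conj_eq]
    refine eq_of_le_of_card_ge ?_ (Subgroup.card_map_of_injective (MulAut.conj k).injective).ge
    rw [Subgroup.map_sup]
    refine sup_le ?_ ?_
    · rintro _ ⟨q, hq, rfl⟩
      exact mem_sup_left ((mem_normalizer_iff.1 (hKQ hk) q).1 hq)
    · rintro _ ⟨p, hp, rfl⟩
      exact sup_le_sup_right (hmax O hOK hKO hOo) P
        ((mem_normalizer_iff.1 (hKOP hk) p).1 (mem_sup_right hp))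
  have hrel := relIndex_local h hx hx1 hNK hCK hQK hQo hKQ hmax hKQP
  have hxK : cz x ≤ K := hCK x hx hx1
  have hJ : (cz x).index = K.index * (3 * rr P x ^ 2) := by
    rw [← relIndex_mul_index hxK, hrel, mul_comm]
  have hn8 := (bound h hx hx1).2 K.index hJ
  -- `P` fixes only the trivial coset
  set o : M ⧸ K := ((1 : M) : M ⧸ K) with ho
  have hfree : ∀ p ∈ P, p ≠ 1 → ∀ q : M ⧸ K, p • q = q → q = o := by
    intro p hp hp1 q e
    induction q using QuotientGroup.induction_on with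
    | H g =>
      have h1 : g⁻¹ * p * g ∈ K := by
        have h0 := (QuotientGroup.eq (a := p * g) (b := g)).1 e
        rw [← inv_mem_iff, show ((p * g)⁻¹ * g)⁻¹ = g⁻¹ * p * g by group] at h0
        exact h0
      have h2 : orderOf (g⁻¹ * p * g) = 2 := by
        rw [show g⁻¹ * p * g = MulAut.conj g⁻¹ p by simp, MulEquiv.orderOf_eq, ord_two h hp hp1]
      obtain ⟨k, hk, hkP, hk1⟩ := conj_invol_into h hPK h1 h2
      obtain ⟨n, hn, hne⟩ := norm_trans h hkP hk1 hp hp1
      have h3 : n * k * g⁻¹ ∈ cz p := by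
        refine mem_centralizer_singleton_iff.2 ?_
        calc n * k * g⁻¹ * p = n * (k * (g⁻¹ * p * g) * k⁻¹) * n⁻¹ * (n * k * g⁻¹) := by group
          _ = p * (n * k * g⁻¹) := by rw [hne]
      have h4 : g⁻¹ ∈ K := by
        have := mul_mem (inv_mem (mul_mem (hNK hn) hk)) (hCK p hp hp1 h3)
        rwa [show (n * k)⁻¹ * (n * k * g⁻¹) = g⁻¹ by group] at this
      refine (QuotientGroup.eq (a := g) (b := (1 : M))).2 ?_
      rwa [mul_one]
  have hPo : ∀ p : P, (p : M) • o = o := fun p => by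
    show (((p : M) * 1 : M) : M ⧸ K) = o
    refine (QuotientGroup.eq (a := (p : M) * 1) (b := (1 : M))).2 ?_
    simpa using hPK p.2
  have horb : ∀ q : M ⧸ K, q ≠ o → ∀ p p' : P, (p : M) • q = (p' : M) • q → p = p' := by
    intro q hq p p' e
    by_contra hne
    refine hq (hfree ((p' : M)⁻¹ * p) (mul_mem (inv_mem p'.2) p.2) ?_ q ?_)
    · exact fun e1 => hne (Subtype.ext (inv_mul_eq_one.1 e1).symm)
    · rw [mul_smul, e, inv_smul_smul]
  have hne_o : ∀ q : M ⧸ K, q ≠ o → ∀ p : P, (p : M) • q ≠ o := fun q hq p e =>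
    hq (by rw [← inv_smul_smul (p : M) q, e]; exact hPo p⁻¹)
  obtain ⟨q, hq⟩ : ∃ q : M ⧸ K, q ≠ o := by
    by_contra hno
    push Not at hno
    refine htop (eq_top_iff.2 fun g _ => ?_)
    have := (QuotientGroup.eq (a := (1 : M)) (b := g)).1 (hno (g : M ⧸ K)).symm
    rwa [inv_one, one_mul] at this
  let O1 : Set (M ⧸ K) := insert o (Set.range fun p : P => (p : M) • q)
  have hO1 : O1.ncard = 5 := by
    rw [Set.ncard_insert_of_notMem (s := Set.range fun p : P => (p : M) • q)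
        (fun ⟨p, hp⟩ => hne_o q hq p hp) (Set.toFinite _),
      Set.ncard_range_of_injective (horb q hq), card_P h]
  have hn5 : K.index = 5 := by
    rw [index_eq_card] at hn8 ⊢
    refine le_antisymm ?_ ?_
    · by_contra hgt
      push Not at hgt
      have hsub : O1 ≠ Set.univ := fun e => by
        rw [e, Set.ncard_univ] at hO1
        omega
      obtain ⟨q', hq'⟩ := (Set.ne_univ_iff_exists_notMem _).1 hsub
      have hq'o : q' ≠ o := fun e => hq' (e ▸ Set.mem_insert _ _)
      have hdis : Disjoint O1 (Set.range fun p : P => (p : M) • q') := by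
        rw [Set.disjoint_left]
        rintro a (rfl | ⟨p, rfl⟩) ⟨p', hp'⟩
        · exact hne_o q' hq'o p' hp'
        · refine hq' (Set.mem_insert_of_mem _ ⟨p'⁻¹ * p, ?_⟩)
          show (((p'⁻¹ * p : P)) : M) • q = q'
          rw [Subgroup.coe_mul, Subgroup.coe_inv, mul_smul]
          rw [show (p : M) • q = (p' : M) • q' from hp'.symm, inv_smul_smul]
      have := Set.ncard_le_card (O1 ∪ Set.range fun p : P => (p : M) • q')
      rw [Set.ncard_union_eq hdis, hO1, Set.ncard_range_of_injective (horb q' hq'o),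
        card_P h] at this
      omega
    · rw [← hO1]
      exact Set.ncard_le_card O1
  -- the action on the five cosets is faithful
  have hcore : K.normalCore = ⊥ := by
    rw [← le_bot_iff, ← h.core_bot]
    refine CfsgLib.Base.le_oddCore ?_
    by_contra hev
    rw [Nat.not_odd_iff_even, even_iff_two_dvd] at hev
    haveI : Fact (Nat.Prime 2) := ⟨Nat.prime_two⟩
    obtain ⟨i, hi⟩ := exists_prime_orderOf_dvd_card' (G := K.normalCore) 2 hev
    obtain ⟨g, hg⟩ := isConj_iff.1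
      (h.one (i : M) x (by rw [orderOf_coe, hi]) (ord_two h hx hx1))
    have hxm : x ∈ K.normalCore := hg ▸ (normalCore_normal K).conj_mem _ i.2 g
    rw [normalCore_eq_ker, MonoidHom.mem_ker] at hxm
    have := Equiv.ext_iff.1 hxm q
    exact hq (hfree x hx hx1 q (by simpa using this))
  have hinj : Function.Injective (MulAction.toPermHom M (M ⧸ K)) :=
    (MonoidHom.ker_eq_bot_iff _).1 (by rw [← normalCore_eq_ker]; exact hcore)
  have hdvd : Nat.card M ∣ 120 := by
    have h1 := card_dvd_of_injective _ hinj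
    rw [Nat.card_perm, ← index_eq_card, hn5] at h1
    exact h1
  have hM : Nat.card M = 60 * (Nat.card (core x) * rr P x ^ 2) := by
    rw [← Subgroup.index_mul_card (cz x), card_cz h hx hx1, hJ, hn5]
    ring
  have hWodd : Odd (Nat.card (core x)) := odd_core x
  have hrodd : Odd (rr P x) := hWodd.of_dvd_nat (by
    rw [rr, relIndex]
    exact index_dvd_card _)
  rw [hM] at hdvd ⊢
  have h2 : Nat.card (core x) * rr P x ^ 2 ≤ 2 := by
    have := Nat.le_of_dvd (by norm_num) hdvd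
    omega
  have h3 : Nat.card (core x) * rr P x ^ 2 = 1 := by
    obtain ⟨k, hk⟩ := hWodd.mul (hrodd.pow (n := 2))
    omega
  have hW1 : Nat.card (core x) = 1 := Nat.eq_one_of_mul_eq_one_right h3
  exact ⟨Or.inr (by rw [h3]), fun v hv => by rw [card_cz_eq h hx hx1 hv, card_cz h hx hx1, hW1]⟩

end CfsgLib.L34Sylow.Klein

namespace CfsgLib.L34Sylow

open Cfsg Subgroup

universe u

/-- Piece 5. -/
theorem klein : StmtKlein.{u} := fun _ _ _ _ h _ hx hx1 =>
  ⟨Klein.core_sup h hx hx1, (Klein.bound h hx hx1).1, Klein.equality h hx hx1,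
    fun _ _ hNK hCK hOK hOo hKO hKOP => Klein.local_order h hx hx1 hNK hCK hOK hOo hKO hKOP⟩

end CfsgLib.L34Sylow
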