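import Mathlib
import Cfsg.Prelude.Def_Local
import Cfsg.Prelude.Def_Involutions
import Cfsg.Agent.Lib.Spor.FourField
import Cfsg.Agent.Lib.Recog.CIT.Defs

/-!
# Groups whose Sylow two-subgroups are of type `PSL₃(4)` (statement S3198): interface

`S` has coordinates `(a, b, c)` over the field of four elements; `A = {b = 0}`, `B = {a = 0}`,
`Z = {a = b = 0}`.  The plan is in `tools/S3198_plan.md`.
-/

set_option autoImplicit false
set_option linter.style.haveILetI false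

namespace CfsgLib.L34Sylow

open Cfsg Subgroup

universe u

/-- The field of four elements. -/
abbrev F4 : Type := CfsgLib.Spor.QField

/-- The target group. -/
abbrev PGL34 : Type := GL (Fin 3) F4 ⧸ Subgroup.center (GL (Fin 3) F4)

variable {G : Type u} [Group G]

/-- The conjugate `g x g⁻¹`. -/
abbrev cj (g x : G) : G := g * x * g⁻¹

/-- The centraliser of an element. -/
abbrev cz (g : G) : Subgroup G := centralizer ({g} : Set G)

/-- The largest normal subgroup of odd order of the centraliser of an element. -/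
abbrev core (g : G) : Subgroup G := centralizerPPrimeCore 2 g

/-- The coordinates on the Sylow two-subgroup. -/
structure Setup (S : Sylow 2 G) (φ : F4 → F4 → F4 → G) : Prop where
  mem : ∀ a b c, φ a b c ∈ S
  surj : ∀ g ∈ S, ∃ a b c, φ a b c = g
  inj : ∀ a b c a' b' c', φ a b c = φ a' b' c' → a = a' ∧ b = b' ∧ c = c'
  mul : ∀ a b c a' b' c', φ a b c * φ a' b' c' = φ (a + a') (b + b') (c + c' + a * b')
  core_bot : oddCore G = ⊥

/-- Exchanging the two elementary subgroups. -/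
def swap (φ : F4 → F4 → F4 → G) : F4 → F4 → F4 → G := fun a b c => φ b a (c + a * b)

theorem f4_char (a : F4) : a + a = 0 := by revert a; decide

theorem Setup.swap {S : Sylow 2 G} {φ : F4 → F4 → F4 → G} (h : Setup S φ) :
    Setup S (L34Sylow.swap φ) where
  mem a b c := h.mem ..
  surj g hg := by
    obtain ⟨a, b, c, rfl⟩ := h.surj g hg
    refine ⟨b, a, c + a * b, ?_⟩
    simp only [L34Sylow.swap]
    congr 1
    rw [mul_comm b a, add_assoc, f4_char, add_zero]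
  inj a b c a' b' c' e := by
    obtain ⟨h1, h2, h3⟩ := h.inj _ _ _ _ _ _ e
    exact ⟨h2, h1, add_right_cancel (h1 ▸ h2 ▸ h3)⟩
  mul a b c a' b' c' := by
    simp only [L34Sylow.swap, h.mul]
    congr 1
    have key : ∀ a b c a' b' c' : F4,
        c + a * b + (c' + a' * b') + b * a' = c + c' + a * b' + (a + a') * (b + b') := by
      intro a b c a' b' c'
      linear_combination (-1 : F4) * f4_char (a * b')
    exact key ..
  core_bot := h.core_bot

/-- The first elementary subgroup of order 16. -/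
def SA (φ : F4 → F4 → F4 → G) : Subgroup G := closure {g | ∃ a c, φ a 0 c = g}

/-- The second elementary subgroup of order 16. -/
def SB (φ : F4 → F4 → F4 → G) : Subgroup G := closure {g | ∃ b c, φ 0 b c = g}

/-- The centre. -/
def SZ (φ : F4 → F4 → F4 → G) : Subgroup G := closure {g | ∃ c, φ 0 0 c = g}

/-- The normaliser of the first elementary subgroup fixes the centre. -/
def Small (φ : F4 → F4 → F4 → G) : Prop :=
  normalizer (SA φ : Set G) ≤ normalizer (SZ φ : Set G)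

/-- The same for the second one. -/
def SmallB (φ : F4 → F4 → F4 → G) : Prop :=
  normalizer (SB φ : Set G) ≤ normalizer (SZ φ : Set G)

/-- Conjugate to an involution of the centre. -/
def ZType (φ : F4 → F4 → F4 → G) (g : G) : Prop := ∃ c, c ≠ 0 ∧ IsConj (φ 0 0 c) g

/-- `h` acts on the coordinates by the scalars `l`, `m`. -/
def Scal (φ : F4 → F4 → F4 → G) (h : G) (l m : F4) : Prop :=
  l ≠ 0 ∧ m ≠ 0 ∧ (∀ a b, ∃ c, cj h (φ a b 0) = φ (l * a) (m * b) c) ∧
    ∀ c, cj h (φ 0 0 c) = φ 0 0 (l * m * c)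

/-- Some element fixes the first quotient and moves the second one. -/
def HasMu (S : Sylow 2 G) (φ : F4 → F4 → F4 → G) : Prop :=
  ∃ h ∈ normalizer (S : Set G), ∃ m, m ≠ 1 ∧ Scal φ h 1 m

/-- Some element fixes the second quotient and moves the first one. -/
def HasLam (S : Sylow 2 G) (φ : F4 → F4 → F4 → G) : Prop :=
  ∃ h ∈ normalizer (S : Set G), ∃ l, l ≠ 1 ∧ Scal φ h l 1

/-- Some element acts by one non-trivial scalar on both quotients. -/
def HasDiag (S : Sylow 2 G) (φ : F4 → F4 → F4 → G) : Prop :=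
  ∃ h ∈ normalizer (S : Set G), ∃ l, l ≠ 1 ∧ Scal φ h l l

/-- Elementary facts about the Sylow subgroup and its fusion. -/
structure Facts (S : Sylow 2 G) (φ : F4 → F4 → F4 → G) : Prop where
  mem_A : ∀ g, g ∈ SA φ ↔ ∃ a c, φ a 0 c = g
  mem_B : ∀ g, g ∈ SB φ ↔ ∃ b c, φ 0 b c = g
  mem_Z : ∀ g, g ∈ SZ φ ↔ ∃ c, φ 0 0 c = g
  le_A : SA φ ≤ S
  le_B : SB φ ≤ S
  Z_le_A : SZ φ ≤ SA φ
  Z_le_B : SZ φ ≤ SB φ
  card_S : Nat.card S = 64
  card_A : Nat.card (SA φ) = 16
  card_B : Nat.card (SB φ) = 16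
  card_Z : Nat.card (SZ φ) = 4
  elem_A : IsElementaryAbelian 2 (SA φ)
  elem_B : IsElementaryAbelian 2 (SB φ)
  center : (S : Subgroup G) ⊓ centralizer (S : Set G) = SZ φ
  invol : ∀ g ∈ S, g * g = 1 → g ∈ SA φ ∨ g ∈ SB φ
  cent_A : ∀ t ∈ SA φ, t ∉ SZ φ → (S : Subgroup G) ⊓ cz t = SA φ
  cent_B : ∀ t ∈ SB φ, t ∉ SZ φ → (S : Subgroup G) ⊓ cz t = SB φ
  norm_A : normalizer (S : Set G) ≤ normalizer (SA φ : Set G)
  norm_B : normalizer (S : Set G) ≤ normalizer (SB φ : Set G)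
  norm_Z : normalizer (S : Set G) ≤ normalizer (SZ φ : Set G)
  weak_A : ∀ g : G, (SA φ).map (MulAut.conj g).toMonoidHom ≤ S →
    (SA φ).map (MulAut.conj g).toMonoidHom = SA φ
  weak_B : ∀ g : G, (SB φ).map (MulAut.conj g).toMonoidHom ≤ S →
    (SB φ).map (MulAut.conj g).toMonoidHom = SB φ
  fus_A : ∀ x ∈ SA φ, ∀ g : G, cj g x ∈ SA φ →
    ∃ n ∈ normalizer (SA φ : Set G), cj n x = cj g x
  fus_B : ∀ x ∈ SB φ, ∀ g : G, cj g x ∈ SB φ →
    ∃ n ∈ normalizer (SB φ : Set G), cj n x = cj g x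
  fus_Z : ∀ x ∈ SZ φ, ∀ g : G, cj g x ∈ SZ φ →
    ∃ n ∈ normalizer (S : Set G), cj n x = cj g x
  exists_conj : ∀ g : G, orderOf g = 2 → ∃ x, (x ∈ SA φ ∨ x ∈ SB φ) ∧ IsConj x g
  scal : ∀ h ∈ normalizer (S : Set G), ∃ l m, Scal φ h l m
  not_ztype_A : Small φ → ∀ t ∈ SA φ, t ∉ SZ φ → ¬ ZType φ t
  not_ztype_B : SmallB φ → ∀ t ∈ SB φ, t ∉ SZ φ → ¬ ZType φ t
  two_part_A : ∀ t ∈ SA φ, t ∉ SZ φ → ¬ ZType φ t → ¬ 32 ∣ Nat.card (cz t)
  two_part_B : ∀ t ∈ SB φ, t ∉ SZ φ → ¬ ZType φ t → ¬ 32 ∣ Nat.card (cz t)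
  not_conj_AB : ∀ a ∈ SA φ, a ∉ SZ φ → ∀ b ∈ SB φ, b ∉ SZ φ → ¬ ZType φ a → ¬ IsConj a b
  quot : ∀ H : Subgroup G, (hS : (S : Subgroup G) ≤ H) →
    ∃ (S' : Sylow 2 (↥H ⧸ oddCore ↥H)) (φ' : F4 → F4 → F4 → ↥H ⧸ oddCore ↥H), Setup S' φ' ∧
      (∀ a b c, ∀ hm : φ a b c ∈ H, φ' a b c = QuotientGroup.mk ⟨φ a b c, hm⟩) ∧
      (Small φ → Small φ') ∧ (SmallB φ → SmallB φ') ∧
      (normalizer (SA φ : Set G) ≤ H → ¬ Small φ → ¬ Small φ') ∧
      (normalizer (SB φ : Set G) ≤ H → ¬ SmallB φ → ¬ SmallB φ')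

/-- A group with a Klein four Sylow two-subgroup, one class of involutions and trivial odd core. -/
structure KHyp {M : Type u} [Group M] (P : Subgroup M) : Prop where
  klein : IsKleinFour P
  sylow : ∀ Q : Subgroup M, IsPGroup 2 Q → P ≤ Q → Q = P
  one : ∀ s t : M, orderOf s = 2 → orderOf t = 2 → IsConj s t
  core_bot : oddCore M = ⊥

/-- The centraliser of the involution `t` of the first elementary subgroup: modulo its odd core it
is `A₀ × M`, with `A₀` of order four and `M` as in `KHyp`; `L` is the preimage of `M`. -/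
structure TData (S : Sylow 2 G) (φ : F4 → F4 → F4 → G) (t : G) (A₀ L : Subgroup G)
    {M : Type u} [Group M] (π : ↥L →* M) : Prop where
  le₀ : A₀ ≤ SA φ
  card₀ : Nat.card A₀ = 4
  inf₀ : A₀ ⊓ SZ φ = ⊥
  mem₀ : t ∈ A₀
  le : L ≤ cz t
  Z_le : SZ φ ≤ L
  core_le : core t ≤ L
  normal : cz t ≤ normalizer (L : Set G)
  sup : L ⊔ A₀ = cz t
  inf : L ⊓ A₀ = ⊥
  central : ∀ a ∈ A₀, ∀ g ∈ cz t, a * g * a⁻¹ * g⁻¹ ∈ core t
  surj : Function.Surjective π
  ker : π.ker = (core t).subgroupOf L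
  khyp : KHyp (((SZ φ).subgroupOf L).map π)
  mu : ∃ h ∈ L, h ∈ normalizer (S : Set G) ∧ ∃ m, m ≠ 1 ∧ Scal φ h 1 m

/-- What is wanted of the centraliser of an involution `t ∈ A ∖ Z`: it is `O(C(t)) A`, or the
quotient `M` is `A₄`, or it is `A₅` and the second elementary subgroup is not small. -/
def TGood (S : Sylow 2 G) (φ : F4 → F4 → F4 → G) (t : G) : Prop :=
  cz t = core t ⊔ SA φ ∨
    ∃ (A₀ L : Subgroup G) (M : Type u) (_ : Group M) (_ : Finite M) (π : ↥L →* M),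
      TData S φ t A₀ L π ∧ (Nat.card M = 12 ∨ (Nat.card M = 60 ∧ ¬ SmallB φ)) ∧
        ∀ v : M, orderOf v = 2 → Nat.card (cz v) = 4

/-- Both sides are good wherever they are small. -/
def AllGood (S : Sylow 2 G) (φ : F4 → F4 → F4 → G) : Prop :=
  (Small φ → ∀ t ∈ SA φ, t ∉ SZ φ → TGood S φ t) ∧
  (SmallB φ → ∀ t ∈ SB φ, t ∉ SZ φ → TGood S (swap φ) t)

/-- All odd cores of involution centralisers are trivial. -/
def CoresTrivial (G : Type u) [Group G] : Prop := ∀ g : G, orderOf g = 2 → core g = ⊥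

/-- The three outcomes. -/
structure Out (S : Sylow 2 G) (φ : F4 → F4 → F4 → G) : Prop where
  ss : Small φ → SmallB φ → (S : Subgroup G).Normal
  bs : Small φ → ¬ SmallB φ → (SB φ).Normal
  sb : ¬ Small φ → SmallB φ → (SA φ).Normal
  ll : ¬ Small φ → ¬ SmallB φ → ∃ L : Subgroup G, L.Normal ∧ Recog.CIT.IsL34 L ∧ L.index ∣ 3 ∧
    centralizer (L : Set G) = ⊥

/-- The induction hypothesis. -/
def IH (n : ℕ) : Prop := ∀ (H : Type u) [Group H] [Finite H], Nat.card H < n →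
  ∀ (S : Sylow 2 H) (φ : F4 → F4 → F4 → H), Setup S φ → Out S φ

/-! ## The pieces -/

/-- Piece 0: the coordinates. -/
def StmtStart : Prop := ∀ (G : Type u) [Group G] [Finite G],
  oddCore G = ⊥ → ∀ (S : Sylow 2 G)
    (P : Sylow 2 (Matrix.ProjectiveSpecialLinearGroup (Fin 3) F4)),
    Nonempty (↥(S : Subgroup G) ≃* ↥(P : Subgroup (Matrix.ProjectiveSpecialLinearGroup (Fin 3) F4))) →
    ∃ φ : F4 → F4 → F4 → G, Setup S φ

/-- Piece 1: elementary facts. -/
def StmtFacts : Prop := ∀ (G : Type u) [Group G] [Finite G] (S : Sylow 2 G)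
  (φ : F4 → F4 → F4 → G), Setup S φ → Facts S φ

/-- Piece 2: a first subgroup which is not small is the natural module of `SL₂(4) ≤ N(A)/C(A) ≤
GL₂(4)`, with the centre as a line. -/
def StmtBig : Prop := StmtFacts.{u} → ∀ (G : Type u) [Group G] [Finite G] (S : Sylow 2 G)
  (φ : F4 → F4 → F4 → G), Setup S φ → ¬ Small φ →
    ∃ ψ : F4 → F4 → G,
      (∀ a b a' b', ψ a b * ψ a' b' = ψ (a + a') (b + b')) ∧
      (∀ a b a' b', ψ a b = ψ a' b' → a = a' ∧ b = b') ∧
      (∀ g, g ∈ SA φ ↔ ∃ a b, ψ a b = g) ∧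
      (∀ g, g ∈ SZ φ ↔ ∃ a, ψ a 0 = g) ∧
      (∀ n ∈ normalizer (SA φ : Set G), ∃ p q r s : F4, p * s + q * r ≠ 0 ∧
        ∀ a b, cj n (ψ a b) = ψ (p * a + q * b) (r * a + s * b)) ∧
      (∀ p q r s : F4, p * s + q * r = 1 → ∃ n ∈ normalizer (SA φ : Set G),
        ∀ a b, cj n (ψ a b) = ψ (p * a + q * b) (r * a + s * b)) ∧
      (∀ x ∈ SA φ, x ≠ 1 → ZType φ x) ∧ HasDiag S φ

/-- Piece 3a: an abelian Sylow subgroup of order 16 whose automiser has order dividing three and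
is fixed-point free. -/
def StmtAb : Prop := ∀ (M : Type u) [Group M] [Finite M] (T : Sylow 2 M),
  IsElementaryAbelian 2 (T : Subgroup M) → Nat.card T = 16 → oddCore M = ⊥ →
    (centralizer (T : Set M)).relIndex (normalizer (T : Set M)) ∣ 3 →
    (∀ n ∈ normalizer (T : Set M), n ∉ centralizer (T : Set M) →
      ∀ x ∈ T, n * x * n⁻¹ = x → x = 1) →
    (T : Subgroup M).Normal

/-- Piece 3: the centralisers of the involutions of the centre. -/
def StmtCentZ : Prop := StmtFacts.{u} → ∀ (G : Type u) [Group G] [Finite G] (S : Sylow 2 G)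
  (φ : F4 → F4 → F4 → G), Setup S φ → ∀ z ∈ SZ φ, z ≠ 1 → ∀ g ∈ cz z,
    ∃ x ∈ core z, ∃ n ∈ normalizer (S : Set G), n ∈ cz z ∧ g = x * n

/-- Piece 4: the centralisers of the other involutions of a small side. -/
def StmtCentT : Prop := StmtFacts.{u} → ∀ (G : Type u) [Group G] [Finite G] (S : Sylow 2 G)
  (φ : F4 → F4 → F4 → G), Setup S φ → Small φ → ∀ t ∈ SA φ, t ∉ SZ φ →
    (¬ HasMu S φ ∧ cz t = core t ⊔ SA φ) ∨
      ∃ (A₀ L : Subgroup G) (M : Type u) (_ : Group M) (_ : Finite M) (π : ↥L →* M),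
        TData S φ t A₀ L π

/-- Piece 5: the lemma on groups with a Klein four Sylow subgroup. -/
def StmtKlein : Prop := ∀ (M : Type u) [Group M] [Finite M] (P : Subgroup M), KHyp P →
  ∀ x ∈ P, x ≠ 1 →
    core x ⊔ P = cz x ∧
    3 * ((centralizer (P : Set M)).relIndex (core x)) ^ 2 ≤ (cz x).index ∧
    (3 * ((centralizer (P : Set M)).relIndex (core x)) ^ 2 = (cz x).index →
      Nat.card M = 12 ∧ ∀ v : M, orderOf v = 2 → Nat.card (cz v) = 4) ∧
    ∀ K O : Subgroup M, normalizer (P : Set M) ≤ K → (∀ v ∈ P, v ≠ 1 → cz v ≤ K) →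
      O ≤ K → Odd (Nat.card O) → K ≤ normalizer (O : Set M) →
      K ≤ normalizer ((O ⊔ P : Subgroup M) : Set M) →
        (Nat.card M = 12 ∨ Nat.card M = 60) ∧ ∀ v : M, orderOf v = 2 → Nat.card (cz v) = 4

/-- Piece 6a: both sides small and the full group of scalars. -/
def StmtSSFull : Prop := StmtFacts.{u} → StmtCentZ.{u} → StmtCentT.{u} → StmtKlein.{u} →
  ∀ (G : Type u) [Group G] [Finite G] (S : Sylow 2 G) (φ : F4 → F4 → F4 → G),
  Setup S φ → Small φ → SmallB φ → HasLam S φ → HasMu S φ → AllGood S φ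

/-- Piece 6b: both sides small and only the second quotient is moved. -/
def StmtIndexFour : Prop := StmtFacts.{u} → StmtAb.{u} →
  ∀ (G : Type u) [Group G] [Finite G] (S : Sylow 2 G) (φ : F4 → F4 → F4 → G),
  Setup S φ → Small φ → SmallB φ → HasMu S φ → ¬ HasLam S φ → (S : Subgroup G).Normal

/-- Piece 6c: the second side is not small. -/
def StmtBSKill : Prop := StmtFacts.{u} → StmtBig.{u} → StmtCentZ.{u} → StmtCentT.{u} →
  StmtKlein.{u} → ∀ (G : Type u) [Group G] [Finite G] (S : Sylow 2 G) (φ : F4 → F4 → F4 → G),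
  Setup S φ → IH.{u} (Nat.card G) → Small φ → ¬ SmallB φ → AllGood S φ

/-- Piece 7: the signalizer functor is trivial. -/
def StmtCores : Prop := StmtFacts.{u} → StmtBig.{u} → StmtCentZ.{u} →
  ∀ (G : Type u) [Group G] [Finite G] (S : Sylow 2 G) (φ : F4 → F4 → F4 → G),
  Setup S φ → IH.{u} (Nat.card G) → AllGood S φ → CoresTrivial G

/-- Piece 8a: both sides small. -/
def StmtEndSS : Prop := StmtFacts.{u} → StmtCentZ.{u} →
  ∀ (G : Type u) [Group G] [Finite G] (S : Sylow 2 G) (φ : F4 → F4 → F4 → G),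
  Setup S φ → Small φ → SmallB φ → AllGood S φ → CoresTrivial G → (S : Subgroup G).Normal

/-- Piece 8b: one side small. -/
def StmtEndBS : Prop := StmtFacts.{u} → StmtBig.{u} → StmtCentZ.{u} →
  ∀ (G : Type u) [Group G] [Finite G] (S : Sylow 2 G) (φ : F4 → F4 → F4 → G),
  Setup S φ → Small φ → ¬ SmallB φ → AllGood S φ → CoresTrivial G → (SB φ).Normal

/-- Piece 8c: no side small. -/
def StmtEndLL : Prop := StmtFacts.{u} → StmtBig.{u} → StmtCentZ.{u} →
  ∀ (G : Type u) [Group G] [Finite G] (S : Sylow 2 G) (φ : F4 → F4 → F4 → G),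
  Setup S φ → IH.{u} (Nat.card G) → ¬ Small φ → ¬ SmallB φ → CoresTrivial G →
    ∃ L : Subgroup G, L.Normal ∧ Recog.CIT.IsL34 L ∧ L.index ∣ 3 ∧ centralizer (L : Set G) = ⊥

/-- Piece 9: the three embeddings. -/
def StmtEmbed : Prop := StmtFacts.{u} → StmtBig.{u} →
  ∀ (G : Type u) [Group G] [Finite G] (S : Sylow 2 G) (φ : F4 → F4 → F4 → G),
  Setup S φ → Out S φ → ∃ f : G →* PGL34, Function.Injective f

end CfsgLib.L34Sylow
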