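import Cfsg.Agent.Lib.L34Sylow.Swap
import Cfsg.Agent.Lib.StrongTwoClasses.Tools

/-!
# The cores of the centralisers of commuting involutions: balance
-/

set_option autoImplicit false
set_option linter.style.haveILetI false

namespace CfsgLib.L34Sylow

open Cfsg Subgroup CfsgLib.StrongTwoClasses

set_option linter.unusedSectionVars false

universe u

namespace CoresAux

variable {G : Type u} [Group G] [Finite G]

theorem core_le (b : G) : core b ≤ cz b := centralizerPPrimeCore_le b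

theorem norm_core (b : G) : cz b ≤ normalizer (core b : Set G) := centralizer_le_normalizer_core b

theorem odd_core (b : G) : Odd (Nat.card (core b)) := odd_card_core b

theorem conj_cz {g b x : G} (h : x ∈ cz b) : g * x * g⁻¹ ∈ cz (g * b * g⁻¹) := by
  rw [mem_centralizer_singleton_iff] at h ⊢
  calc g * x * g⁻¹ * (g * b * g⁻¹) = g * (x * b) * g⁻¹ := by group
    _ = g * (b * x) * g⁻¹ := by rw [h]
    _ = g * b * g⁻¹ * (g * x * g⁻¹) := by group

/-- Balance at an involution. -/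
def Bal (v : G) : Prop := ∀ u : G, orderOf u = 2 → u ∈ cz v → core u ⊓ cz v ≤ core v

theorem Bal.conj {v : G} (h : Bal v) (g : G) : Bal (g * v * g⁻¹) := by
  intro u hu huv x hx
  have e : ∀ y : G, g * (g⁻¹ * y * g⁻¹⁻¹) * g⁻¹ = y := fun y => by group
  have e' : g⁻¹ * (g * v * g⁻¹) * g⁻¹⁻¹ = v := by group
  have hu' : orderOf (g⁻¹ * u * g⁻¹⁻¹) = 2 := by
    rw [← hu]; exact orderOf_injective (MulAut.conj g⁻¹).toMonoidHom (MulEquiv.injective _) u
  have huv' : g⁻¹ * u * g⁻¹⁻¹ ∈ cz v := e' ▸ conj_cz (g := g⁻¹) huv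
  have h1 := conj_mem_core (g := g⁻¹) hx.1
  have h2 : g⁻¹ * x * g⁻¹⁻¹ ∈ cz v := e' ▸ conj_cz (g := g⁻¹) hx.2
  have h3 := conj_mem_core (g := g) (h _ hu' huv' ⟨h1, h2⟩)
  rwa [e] at h3

theorem Bal.of_isConj {v w : G} (h : Bal v) (hc : IsConj v w) : Bal w := by
  obtain ⟨g, rfl⟩ := isConj_iff.1 hc
  exact h.conj g

/-- Balance may be checked on a set meeting every class of involutions of the centraliser. -/
theorem bal_of_reps {v : G} (P : G → Prop)
    (hP : ∀ u, orderOf u = 2 → u ∈ cz v → ∃ c ∈ cz v, P (c * u * c⁻¹))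
    (h : ∀ u, orderOf u = 2 → u ∈ cz v → P u → core u ⊓ cz v ≤ core v) : Bal v := by
  intro u hu huv x hx
  obtain ⟨c, hc, hcu⟩ := hP u hu huv
  have hu' : orderOf (c * u * c⁻¹) = 2 := by
    rw [← hu]; exact orderOf_injective (MulAut.conj c).toMonoidHom (MulEquiv.injective _) u
  have hmem : ∀ y ∈ cz v, c * y * c⁻¹ ∈ cz v := fun y hy => mul_mem (mul_mem hc hy) (inv_mem hc)
  have h3 := h _ hu' (hmem u huv) hcu ⟨conj_mem_core (g := c) hx.1, hmem x hx.2⟩
  exact (mem_normalizer_iff.1 (norm_core v hc) x).2 h3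

theorem odd_order_mem {b x : G} (hx : x ∈ core b) : Odd (orderOf x) :=
  Signalizer2.odd_orderOf (odd_core b) hx

variable {S : Sylow 2 G} {φ : F4 → F4 → F4 → G}

theorem mem_cz_comm {H : Subgroup G} (h : IsElementaryAbelian 2 H) {a b : G} (ha : a ∈ H)
    (hb : b ∈ H) : a ∈ cz b := by
  haveI := h.1
  exact mem_centralizer_singleton_iff.2 (setLike_mul_comm ha hb)

theorem A_le_cz (hF : Facts S φ) {t : G} (ht : t ∈ SA φ) : SA φ ≤ cz t := fun _ ha =>
  mem_cz_comm hF.elem_A ha ht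

theorem S_le_cz_Z (hS : Setup S φ) (hF : Facts S φ) {z : G} (hz : z ∈ SZ φ) :
    (S : Subgroup G) ≤ cz z := by
  intro g hg
  obtain ⟨a, b, c, rfl⟩ := hS.surj g hg
  obtain ⟨d, rfl⟩ := (hF.mem_Z z).1 hz
  rw [mem_centralizer_singleton_iff, hS.mul, hS.mul]
  simp [add_comm]

theorem sq_of_invol {g : G} (h : orderOf g = 2) : g * g = 1 := by
  rw [← sq, ← h, pow_orderOf_eq_one]

theorem sq_A (hF : Facts S φ) {a : G} (ha : a ∈ SA φ) : a * a = 1 := by
  rw [← sq]; exact hF.elem_A.2 a ha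

theorem not_dvd_relIndex_A (hF : Facts S φ) {t : G} (ht : t ∈ SA φ) (htZ : t ∉ SZ φ)
    (hnz : ¬ ZType φ t) : ¬ 2 ∣ (SA φ).relIndex (cz t) := by
  intro h2
  refine hF.two_part_A t ht htZ hnz ?_
  have h1 : (SA φ).relIndex (cz t) * Nat.card (SA φ) = Nat.card (cz t) := by
    rw [mul_comm, ← relIndex_bot_left, ← relIndex_bot_left,
      relIndex_mul_relIndex _ _ _ bot_le (A_le_cz hF ht)]
  rw [← h1, hF.card_A]
  exact mul_dvd_mul h2 (dvd_refl 16)

theorem isPGroup_A (hF : Facts S φ) : IsPGroup 2 (SA φ) :=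
  S.2.to_le hF.le_A

/-- Balance at the involutions of the first subgroup outside the centre, when they are good. -/
theorem bal_t (hF : Facts S φ) (hsm : Small φ) {t : G} (ht : t ∈ SA φ) (htZ : t ∉ SZ φ)
    (hg : TGood S φ t) : Bal t := by
  haveI : Fact (Nat.Prime 2) := ⟨Nat.prime_two⟩
  refine bal_of_reps (fun u => u ∈ SA φ) (fun u hu huv => ?_) (fun u _ _ huA x hx => ?_)
  · obtain ⟨k, hk, hku⟩ := CfsgLib.Transfer.exists_conj_le_of_isPGroup (isPGroup_A hF)
      (A_le_cz hF ht) (not_dvd_relIndex_A hF ht htZ (hF.not_ztype_A hsm t ht htZ))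
      (V := zpowers u) (IsPGroup.of_card (n := 1) (by rw [Nat.card_zpowers, hu, pow_one]))
      (zpowers_le.2 huv)
    exact ⟨k⁻¹, inv_mem hk, by simpa using hku u (mem_zpowers u)⟩
  have hxo : Odd (orderOf x) := odd_order_mem hx.1
  rcases hg with hg | ⟨A₀, L, M, _, _, π, hT, -, hM⟩
  · have hxm := hx.2
    rw [hg] at hxm
    have hn : SA φ ≤ normalizer (core t : Set G) := (A_le_cz hF ht).trans (norm_core t)
    rw [sup_comm] at hxm
    obtain ⟨a, ha, o, ho, rfl⟩ := (CfsgLib.Coprime.mem_sup_iff_of_le_normalizer hn).1 hxm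
    have e : a * o = a * o * a⁻¹ * a := by group
    rw [e] at hxo ⊢
    have ho' : a * o * a⁻¹ ∈ core t := (mem_normalizer_iff.1 (hn ha) o).1 ho
    have h1 := eq_one_of_odd_mul (odd_core t) ho' (sq_A hF ha) (hn ha) hxo
    rw [h1] at ho' ⊢
    simpa using ho
  -- the odd elements of the centraliser lie in `L`
  have hodd : ∀ y ∈ cz t, Odd (orderOf y) → y ∈ L := by
    intro y hy hyo
    have hnA : A₀ ≤ normalizer (L : Set G) := fun a ha =>
      hT.normal (A_le_cz hF ht (hT.le₀ ha))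
    have hym := hy
    rw [← hT.sup, sup_comm] at hym
    obtain ⟨a, ha, l, hl, rfl⟩ := (CfsgLib.Coprime.mem_sup_iff_of_le_normalizer hnA).1 hym
    refine Signalizer2.mem_of_sq_mem hyo ?_
    have h2 : a * a = 1 := sq_A hF (hT.le₀ ha)
    have e : (a * l) ^ 2 = a * l * a⁻¹ * l := by
      rw [inv_eq_of_mul_eq_one_right h2, sq]; group
    rw [e]
    exact mul_mem ((mem_normalizer_iff.1 (hnA ha) l).1 hl) hl
  set U : Subgroup G := core u ⊓ cz t with hU
  have hUo : Odd (Nat.card U) := (odd_core u).of_dvd_nat (card_dvd_of_le inf_le_left)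
  have hUL : U ≤ L := fun y hy => hodd y hy.2 (Signalizer2.odd_orderOf hUo hy)
  set P : Subgroup M := ((SZ φ).subgroupOf L).map π with hP
  set Ū : Subgroup M := (U.subgroupOf L).map π with hŪ
  have hŪo : Odd (Nat.card Ū) := by
    refine hUo.of_dvd_nat ((card_map_dvd _ _).trans ?_)
    rw [Nat.card_congr (subgroupOfEquivOfLe hUL).toEquiv]
  haveI := hT.khyp.klein
  haveI : IsMulCommutative P := ⟨⟨fun a b => mul_comm_of_exponent_two
    (IsKleinFour.exponent_two (G := P)) a b⟩⟩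
  have hnorm : P ≤ normalizer (Ū : Set M) := by
    rintro _ ⟨z, hz, rfl⟩
    refine le_normalizer_map π ⟨z, ?_, rfl⟩
    refine mem_normalizer_iff.2 fun y => ?_
    simp only [mem_subgroupOf, Subgroup.coe_mul, Subgroup.coe_inv]
    have hzA : (z : G) ∈ SA φ := hF.Z_le_A (mem_subgroupOf.1 hz)
    exact mem_normalizer_iff.1 (inf_normalizer_le_normalizer_inf
      ⟨norm_core u (A_le_cz hF huA hzA), le_normalizer (A_le_cz hF ht hzA)⟩) (y : G)
  have hbot : Ū ≤ ⊥ := by
    refine CfsgLib.Coprime.le_of_centralizer_le_of_not_isCyclic (A := P) ?_ hnorm ?_ ?_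
    · exact IsKleinFour.not_isCyclic
    · rw [IsKleinFour.card_four (G := P)]
      exact ((Nat.coprime_two_left.2 hŪo).pow_left 2)
    · intro v hv hv1
      have hv2 : orderOf v = 2 := by
        refine orderOf_eq_prime ?_ hv1
        have := Monoid.pow_exponent_eq_one (⟨v, hv⟩ : P)
        rw [IsKleinFour.exponent_two] at this
        exact congrArg Subtype.val this
      refine le_of_eq (eq_bot_of_card_eq _ ?_)
      have h4 : Nat.card ↥(Ū ⊓ centralizer ({v} : Set M)) ∣ 2 ^ 2 := by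
        have := card_dvd_of_le (inf_le_right : Ū ⊓ centralizer ({v} : Set M) ≤ _)
        rwa [show Nat.card (centralizer ({v} : Set M)) = 2 ^ 2 from hM v hv2] at this
      have hco : Nat.Coprime (Nat.card ↥(Ū ⊓ centralizer ({v} : Set M))) (2 ^ 2) :=
        (Nat.coprime_two_right.2 (hŪo.of_dvd_nat (card_dvd_of_le inf_le_left))).pow_right 2
      exact hco.eq_one_of_dvd h4
  have hxU : x ∈ U := hx
  have : π ⟨x, hUL hxU⟩ = 1 := Subgroup.mem_bot.1 (hbot ⟨⟨x, hUL hxU⟩, hxU, rfl⟩)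
  have hk : (⟨x, hUL hxU⟩ : L) ∈ π.ker := this
  rw [hT.ker] at hk
  exact hk

/-- The centraliser of the Sylow subgroup is `O × Z`. -/
theorem exists_complement_S (_hS : Setup S φ) (hF : Facts S φ) :
    ∃ O : Subgroup G, O ≤ centralizer (S : Set G) ∧ Odd (Nat.card O) ∧
      normalizer (S : Set G) ≤ normalizer (O : Set G) ∧
      ∀ g ∈ centralizer (S : Set G), ∃ w ∈ O, ∃ f ∈ SZ φ, g = w * f := by
  haveI : Fact (Nat.Prime 2) := ⟨Nat.prime_two⟩
  set C := centralizer (S : Set G) with hC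
  have hZC : SZ φ ≤ C := hF.center ▸ inf_le_right
  obtain ⟨U, hZU, hUC, hU2, hUmax⟩ :=
    exists_twoGroup_ge (S.2.to_le (hF.Z_le_A.trans hF.le_A)) hZC
  have hUZ : U ≤ SZ φ := by
    have hn : U ≤ normalizer ((S : Subgroup G) : Set G) :=
      hUC.trans (centralizer_le_normalizer _)
    have hsup : IsPGroup 2 ↥(U ⊔ (S : Subgroup G)) := hU2.to_sup_of_normal_right' S.2 hn
    have hUS : U ≤ S := le_sup_left.trans (S.3 hsup le_sup_right).le
    exact hF.center ▸ le_inf hUS hUC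
  obtain rfl : U = SZ φ := le_antisymm hUZ hZU
  let P : Sylow 2 C := (hU2.comap_subtype (K := C)).toSylow hUmax
  have hcen : normalizer ((P : Subgroup C) : Set C) ≤ centralizer ((P : Subgroup C) : Set C) :=
    fun x _ => mem_centralizer_iff.2 fun p hp => by
      have hpS : (p : G) ∈ (S : Subgroup G) := hF.Z_le_A.trans hF.le_A (mem_subgroupOf.1 hp)
      exact Subtype.ext (mem_centralizer_iff.1 x.2 p hpS)
  let N := (MonoidHom.transferSylow P hcen).ker
  have hN : N.IsComplement' (P : Subgroup C) :=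
    MonoidHom.ker_transferSylow_isComplement' P hcen
  have hNodd : Odd (Nat.card N) := by
    rw [← hN.index_eq_card, ← Nat.not_even_iff_odd, even_iff_two_dvd]
    exact P.not_dvd_index
  have hNle : N ≤ oddCore C := CfsgLib.Base.le_oddCore hNodd
  refine ⟨(oddCore C).map C.subtype, map_subtype_le _,
    Nat.coprime_two_right.1 (CfsgLib.Base.coprime_card_map_pPrimeCore C), ?_, fun g hg => ?_⟩
  · refine le_trans ?_ (CfsgLib.Base.normalizer_le_normalizer_map_subtype C _)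
    exact CfsgLib.Coprime.le_normalizer_centralizer le_rfl
  · obtain ⟨⟨⟨w, hw⟩, ⟨f, hf⟩⟩, he⟩ := hN.2 ⟨g, hg⟩
    exact ⟨w, ⟨w, hNle hw, rfl⟩, f, mem_subgroupOf.1 hf, (congrArg Subtype.val he).symm⟩

theorem scal_trivial {h : G} {l m : F4} (hs : Scal φ h l m) (hS : Setup S φ)
    (hA : ∀ a ∈ SA φ, h * a * h⁻¹ = a) : l = 1 ∧ m = 1 := by
  obtain ⟨-, -, h1, h2⟩ := hs
  have hA' : ∀ a c, h * φ a 0 c * h⁻¹ = φ a 0 c := fun a c => hA _ (subset_closure ⟨a, c, rfl⟩)
  obtain ⟨c, hc⟩ := h1 1 0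
  have el := (hS.inj _ _ _ _ _ _ ((hA' 1 0).symm.trans hc)).1
  rw [mul_one] at el
  have em := (hS.inj _ _ _ _ _ _ ((hA' 0 1).symm.trans (h2 1))).2.2
  rw [← el, one_mul, mul_one] at em
  exact ⟨el.symm, em.symm⟩

/-- An element of `N(S)` centralising the first subgroup has its square in `C(S)`. -/
theorem sq_mem_centralizer (hS : Setup S φ) (hF : Facts S φ) {n : G}
    (hn : n ∈ normalizer (S : Set G)) (hA : ∀ a ∈ SA φ, n * a * n⁻¹ = a) :
    n * n ∈ centralizer (S : Set G) := by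
  obtain ⟨l, m, hs⟩ := hF.scal n hn
  obtain ⟨rfl, rfl⟩ := scal_trivial hs hS hA
  have hz : ∀ c, n * φ 0 0 c * n⁻¹ = φ 0 0 c := fun c => by
    have := hs.2.2.2 c
    simpa using this
  refine mem_centralizer_iff.2 fun g hg => ?_
  obtain ⟨a, b, c, rfl⟩ := hS.surj g hg
  obtain ⟨d, hd⟩ := hs.2.2.1 a b
  rw [one_mul, one_mul] at hd
  have hsplit : ∀ e, φ a b e = φ a b 0 * φ 0 0 e := fun e => by rw [hS.mul]; simp
  have h1 : ∀ e, n * φ a b e * n⁻¹ = φ a b (d + e) := fun e => by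
    rw [hsplit e, hsplit (d + e), show n * (φ a b 0 * φ 0 0 e) * n⁻¹ =
      n * φ a b 0 * n⁻¹ * (n * φ 0 0 e * n⁻¹) by group, hz,
      show n * φ a b 0 * n⁻¹ = φ a b d from hd, hS.mul, hS.mul]
    simp
  have h2 : n * n * φ a b c * (n * n)⁻¹ = φ a b c := by
    rw [show n * n * φ a b c * (n * n)⁻¹ = n * (n * φ a b c * n⁻¹) * n⁻¹ by group, h1, h1,
      ← add_assoc, f4_char, zero_add]
  exact (mul_inv_eq_iff_eq_mul.1 h2).symm

/-- Balance at the involutions of the centre. -/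
theorem bal_z (hS : Setup S φ) (hF : Facts S φ) (hF' : Facts S (swap φ)) {z : G} (hz : z ∈ SZ φ)
    (hC : ∀ g ∈ cz z, ∃ x ∈ core z, ∃ n ∈ normalizer (S : Set G), n ∈ cz z ∧ g = x * n) :
    Bal z := by
  haveI : Fact (Nat.Prime 2) := ⟨Nat.prime_two⟩
  obtain ⟨O, hOC, hOodd, hON, hOdec⟩ := exists_complement_S hS hF
  have hSz := S_le_cz_Z hS hF hz
  have hOz : O ≤ cz z := hOC.trans (centralizer_le (Set.singleton_subset_iff.2
    (hF.Z_le_A.trans hF.le_A hz)))
  have hOcore : O ≤ core z := by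
    refine le_sup_left.trans (le_core (sup_le hOz (core_le z)) ?_ ?_)
    · intro g hg
      obtain ⟨o', ho', n', hn', hn'z, rfl⟩ := hC g hg
      refine mul_mem (le_normalizer (mem_sup_right ho')) ?_
      exact (CfsgLib.Coprime.le_normalizer_sup_sup (A := zpowers n')
        (zpowers_le.2 (hON hn'))
        (zpowers_le.2 (norm_core z hn'z))) (mem_zpowers n')
    · exact (hOodd.mul (odd_core z)).of_dvd_nat
        (CfsgLib.Coprime.card_sup_dvd (hOz.trans (norm_core z)))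
  refine bal_of_reps (fun u => u ∈ (S : Subgroup G)) (fun u hu huv => ?_) (fun u hu _ huS x hx => ?_)
  · obtain ⟨k, hk, hku⟩ := CfsgLib.Transfer.exists_conj_le_of_isPGroup S.2 hSz
      (fun h => S.not_dvd_index (h.trans (Dvd.intro _ (relIndex_mul_index hSz))))
      (V := zpowers u) (IsPGroup.of_card (n := 1) (by rw [Nat.card_zpowers, hu, pow_one]))
      (zpowers_le.2 huv)
    exact ⟨k⁻¹, inv_mem hk, by simpa using hku u (mem_zpowers u)⟩
  have main : ∀ ψ : F4 → F4 → F4 → G, Setup S ψ → Facts S ψ → u ∈ SA ψ → z ∈ SA ψ →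
      SZ ψ = SZ φ → x ∈ core z := by
    intro ψ hψS hψ huψ hzψ hZ
    obtain ⟨o, ho, n, hnS, hnz, rfl⟩ := hC x hx.2
    have hAz : SA ψ ≤ cz z := A_le_cz hψ hzψ
    have hnA : ∀ e ∈ SA ψ, n * e * n⁻¹ = e := by
      intro e he
      set f := n * e * n⁻¹ with hfd
      have hf : f ∈ SA ψ := (mem_normalizer_iff.1 (hψ.norm_A hnS) e).1 he
      have h1 : (o * n) * e * (o * n)⁻¹ * e⁻¹ ∈ core u := by
        have := mul_mem hx.1 ((mem_normalizer_iff.1
          (norm_core u (A_le_cz hψ huψ he)) _).1 (inv_mem hx.1))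
        simpa [mul_assoc] using this
      have hfn : ∀ y ∈ SA ψ, y ∈ normalizer (core z : Set G) := fun y hy => norm_core z (hAz hy)
      have h2 : (o * n) * e * (o * n)⁻¹ * e⁻¹ = o * (f * o⁻¹ * f⁻¹) * (f * e) := by
        rw [hfd, inv_eq_of_mul_eq_one_right (sq_A hψ he), mul_inv_rev]; group
      have h3 := eq_one_of_odd_mul (odd_core z)
        (mul_mem ho ((mem_normalizer_iff.1 (hfn f hf) _).1 (inv_mem ho)))
        (sq_A hψ (mul_mem hf he)) (hfn _ (mul_mem hf he)) (h2 ▸ odd_order_mem h1)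
      rw [eq_inv_of_mul_eq_one_left h3]
      exact inv_eq_of_mul_eq_one_right (sq_A hψ he)
    obtain ⟨w, hw, f, hf, hwf⟩ := hOdec _ (sq_mem_centralizer hψS hψ hnS hnA)
    have hxo := odd_order_mem hx.1
    refine Signalizer2.mem_of_sq_mem hxo ?_
    have e : (o * n) ^ 2 = o * (n * o * n⁻¹) * (n * n) := by rw [sq]; group
    have h4 : o * (n * o * n⁻¹) * w ∈ core z :=
      mul_mem (mul_mem ho ((mem_normalizer_iff.1 (norm_core z hnz) o).1 ho)) (hOcore hw)
    have hfA : f ∈ SA φ := hF.Z_le_A hf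
    have e2 : (o * n) ^ 2 = o * (n * o * n⁻¹) * w * f := by rw [e, hwf]; group
    have h5 := eq_one_of_odd_mul (odd_core z) h4 (sq_A hF hfA)
      (norm_core z (hSz (hF.le_A hfA))) (e2 ▸ hxo.of_dvd_nat (orderOf_pow_dvd 2))
    rw [e2, h5, mul_one]
    exact h4
  rcases hF.invol u huS (sq_of_invol hu) with huA | huB
  · exact main φ hS hF huA (hF.Z_le_A hz) rfl
  · refine main (swap φ) hS.swap hF' ?_ ?_ (SZ_swap φ)
    · rwa [SA_swap]
    · rw [SA_swap]; exact hF.Z_le_B hz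

end CoresAux

end CfsgLib.L34Sylow
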