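import Cfsg.Agent.Lib.L34Sylow.BSKillKlein

/-!
# The second side is not small: the centralisers on the small side are good (piece 6c)
-/

set_option autoImplicit false
set_option linter.style.haveILetI false

open scoped Pointwise

namespace CfsgLib.L34Sylow

open Cfsg Subgroup

universe u

variable {G : Type u} [Group G] [Finite G] {S : Sylow 2 G} {φ : F4 → F4 → F4 → G}

namespace BSKill

/-- A two-subgroup containing `B` is moved into `S` by an element fixing `B`. -/
theorem exists_move (hF : Facts S φ) {P : Subgroup G} (hP : IsPGroup 2 P) (hBP : SB φ ≤ P) :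
    ∃ g ∈ normalizer (SB φ : Set G), ∀ x ∈ P, g * x * g⁻¹ ∈ S := by
  haveI : Fact (Nat.Prime 2) := ⟨Nat.prime_two⟩
  obtain ⟨T, hT⟩ := hP.exists_le_sylow
  obtain ⟨g, hg⟩ := MulAction.exists_smul_eq G T S
  have hin : ∀ x ∈ P, g * x * g⁻¹ ∈ S := fun x hx => by
    show g * x * g⁻¹ ∈ (S : Subgroup G)
    rw [← hg, CfsgLib.Transfer.mem_coe_smul_sylow_iff]
    rw [show g⁻¹ * (g * x * g⁻¹) * g = x by group]
    exact hT hx
  have he := hF.weak_B g (by
    rintro y ⟨x, hx, rfl⟩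
    exact hin x (hBP hx))
  refine ⟨g, ?_, hin⟩
  refine mem_normalizer_iff.2 fun x => ⟨fun hx => he.le ⟨x, hx, rfl⟩, fun hx => ?_⟩
  obtain ⟨y, hy, hy'⟩ := he.ge hx
  rwa [show x = y from (MulAut.conj g).injective hy'.symm]

theorem ztype_B (hFs : StmtFacts.{u}) (hB : StmtBig.{u}) (hS : Setup S φ) (hsB : ¬ SmallB φ) :
    ∀ b ∈ SB φ, b ≠ 1 → ZType φ b := by
  intro b hb hb1
  obtain ⟨ψ, -, -, -, -, -, -, hz, -⟩ := hB hFs G S (swap φ) hS.swap
    (fun h => hsB ((small_swap φ).1 h))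
  exact (ztype_swap φ b).1 (hz b (by rwa [SA_swap]) hb1)

/-- The hypotheses of the lemma on strongly closed subgroups. -/
theorem strongHyp (hFs : StmtFacts.{u}) (hB : StmtBig.{u}) (hCZ : StmtCentZ.{u}) (hS : Setup S φ)
    (hsA : Small φ) (hsB : ¬ SmallB φ) : StrongTwoClasses.Hyp (SB φ) := by
  haveI : Fact (Nat.Prime 2) := ⟨Nat.prime_two⟩
  have hF := hFs G S φ hS
  have hZt := ztype_B hFs hB hS hsB
  refine ⟨hF.elem_B, ?_, ?_, ?_⟩
  · intro P hP hBP e he g hgP
    by_cases he1 : e = 1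
    · subst he1
      simp
    obtain ⟨k, hk, hin⟩ := exists_move hF hP hBP
    set x := k * (g * e * g⁻¹) * k⁻¹ with hx
    have hxS : x ∈ S := hin _ hgP
    have hee : e * e = 1 := by rw [← sq]; exact hF.elem_B.2 e he
    have hxx : x * x = 1 := by
      calc x * x = k * (g * (e * e) * g⁻¹) * k⁻¹ := by rw [hx]; group
        _ = 1 := by rw [hee]; group
    have hxB : x ∈ SB φ := by
      rcases hF.invol x hxS hxx with hA | hB'
      · by_contra hnB
        refine hF.not_ztype_A hsA x hA (fun hZ => hnB (hF.Z_le_B hZ)) ?_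
        obtain ⟨c, hc, hcc⟩ := hZt e he he1
        exact ⟨c, hc, hcc.trans (isConj_iff.2 ⟨k * g, by rw [hx]; group⟩)⟩
      · exact hB'
    have h := ((mem_normalizer_iff.1 (inv_mem hk)) x).1 hxB
    rwa [show k⁻¹ * x * k⁻¹⁻¹ = g * e * g⁻¹ by rw [hx]; group] at h
  · -- `B` is a Sylow subgroup of its centraliser
    intro hd
    have hBC : SB φ ≤ centralizer (SB φ : Set G) := fun b hb => mem_centralizer_iff.2 fun c hc => by
      haveI := hF.elem_B.1
      exact congrArg Subtype.val (mul_comm' (⟨c, hc⟩ : SB φ) ⟨b, hb⟩)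
    have hBp : IsPGroup 2 (SB φ) := IsPGroup.of_card (n := 4) (by rw [hF.card_B]; norm_num)
    obtain ⟨U, hBU, hUC, hU2, hUmax⟩ := StrongTwoClasses.exists_twoGroup_ge hBp hBC
    obtain ⟨g, hg, hin⟩ := exists_move hF hU2 hBU
    obtain ⟨b, hb, hbZ⟩ := SetLike.not_le_iff_exists.1 (fun h : SB φ ≤ SZ φ => by
      have := Nat.le_of_dvd Nat.card_pos (card_dvd_of_le h)
      rw [hF.card_B, hF.card_Z] at this
      omega)
    have hUB : U ≤ SB φ := by
      intro x hx
      have h1 : g * x * g⁻¹ ∈ (S : Subgroup G) ⊓ cz b := by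
        refine ⟨hin x hx, mem_centralizer_singleton_iff.2 ?_⟩
        have h2 : g⁻¹ * b * g ∈ SB φ := by
          have := ((mem_normalizer_iff.1 (inv_mem hg)) b).1 hb
          rwa [inv_inv] at this
        have h3 := mem_centralizer_iff.1 (hUC hx) _ h2
        calc g * x * g⁻¹ * b = g * (x * (g⁻¹ * b * g)) * g⁻¹ := by group
          _ = g * (g⁻¹ * b * g * x) * g⁻¹ := by rw [h3]
          _ = b * (g * x * g⁻¹) := by group
      rw [hF.cent_B b hb hbZ] at h1
      have := ((mem_normalizer_iff.1 hg) x).2 h1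
      exact this
    exact hUmax (le_antisymm hUB hBU ▸ hd)
  · -- the centralisers
    intro b hb hb1 g hg
    obtain ⟨c, hc0, hcc⟩ := hZt b hb hb1
    obtain ⟨k, hk⟩ := isConj_iff.1 hcc
    set z := φ 0 0 c with hz
    have hzZ : z ∈ SZ φ := (hF.mem_Z z).2 ⟨c, rfl⟩
    obtain ⟨n, hn, hnz⟩ := hF.fus_B z (hF.Z_le_B hzZ) k (by rw [cj, hk]; exact hb)
    simp only [cj] at hnz
    rw [hk] at hnz
    have hz1 : z ≠ 1 := by
      intro h
      apply hb1
      rw [← hk, h]
      group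
    have hg' : n⁻¹ * g * n ∈ cz z := by
      refine mem_centralizer_singleton_iff.2 ?_
      calc n⁻¹ * g * n * z = n⁻¹ * (g * (n * z * n⁻¹)) * n := by group
        _ = n⁻¹ * (n * z * n⁻¹ * g) * n := by rw [hnz, mem_centralizer_singleton_iff.1 hg]
        _ = z * (n⁻¹ * g * n) := by group
    obtain ⟨x, hx, m, hm, hmz, hgm⟩ := hCZ hFs G S φ hS z hzZ hz1 _ hg'
    refine ⟨n * x * n⁻¹, ?_, n * m * n⁻¹,
      (mem_inf.2 ⟨mul_mem (mul_mem hn (hF.norm_B hm)) (inv_mem hn), mem_centralizer_singleton_iff.2 ?_⟩), ?_⟩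
    · have := StrongTwoClasses.conj_mem_core (g := n) hx
      rwa [hnz] at this
    · rw [← hnz]
      calc n * m * n⁻¹ * (n * z * n⁻¹) = n * (m * z) * n⁻¹ := by group
        _ = n * (z * m) * n⁻¹ := by rw [mem_centralizer_singleton_iff.1 hmz]
        _ = n * z * n⁻¹ * (n * m * n⁻¹) := by group
    · calc g = n * (n⁻¹ * g * n) * n⁻¹ := by group
        _ = n * x * n⁻¹ * (n * m * n⁻¹) := by rw [hgm]; group

end BSKill

open BSKill in
/-- Piece 6c. -/
theorem bsKill : StmtBSKill.{u} := by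
  intro hFs hB hCZ hCT hK G _ _ S φ hS hIH hsA hsB
  refine ⟨fun _ t htA htZ => ?_, fun h => absurd h hsB⟩
  rcases hCT hFs G S φ hS hsA t htA htZ with ⟨-, h⟩ | ⟨A₀, L, M, _, _, π, hT⟩
  · exact Or.inl h
  haveI : Fact (Nat.Prime 2) := ⟨Nat.prime_two⟩
  have hF := hFs G S φ hS
  suffices hres : (Nat.card M = 12 ∨ Nat.card M = 60) ∧
      ∀ v : M, orderOf v = 2 → Nat.card (cz v) = 4 by
    exact Or.inr ⟨A₀, L, M, _, inferInstance, π, hT, hres.1.imp id fun h => ⟨h, hsB⟩, hres.2⟩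
  obtain ⟨W, hWodd, hWcore, hWN⟩ :=
    (strongHyp hFs hB hCZ hS hsA hsB).exists_odd_closure (by rw [hF.card_B]; norm_num)
  set H := normalizer (W : Set G) with hH
  obtain ⟨h, hhL, hhS, m, hm1, hsc⟩ := hT.mu
  have hhB : h ∈ normalizer (SB φ : Set G) := hF.norm_B hhS
  by_cases hlt : H = ⊤
  · -- the cores are trivial
    haveI : W.Normal := normalizer_eq_top_iff.1 hlt
    have hW : W = ⊥ := le_bot_iff.1 (hS.core_bot ▸ Base.le_oddCore hWodd)
    refine klein_apply hS hF hK hT (L ⊓ normalizer (SZ φ : Set G)) ⊥ inf_le_left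
      (fun z hz hz1 g hg => ⟨hg.1, ?_⟩) ⟨h, ⟨hhL, hF.norm_Z hhS⟩, m, hm1, hsc⟩ bot_le
      (by simp) ?_ ?_
    · obtain ⟨x, hx, n, hn, -, rfl⟩ := hCZ hFs G S φ hS z hz hz1 g hg.2
      have := hWcore z (hF.Z_le_B hz) hz1 hx
      rw [hW, mem_bot] at this
      rw [this, one_mul]
      exact hF.norm_Z hn
    · intro g _
      refine mem_normalizer_iff.2 fun x => ?_
      simp [mem_bot]
    · rw [bot_sup_eq]
      exact inf_le_right
  -- a proper subgroup: induction
  have hBH : normalizer (SB φ : Set G) ≤ H := hWN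
  have hSH : (S : Subgroup G) ≤ H := (Subgroup.le_normalizer.trans hF.norm_B).trans hBH
  obtain ⟨S', φ', hS', hval, hsA', -, -, hsB'⟩ := hF.quot H hSH
  have hlt' : Nat.card (↥H ⧸ oddCore ↥H) < Nat.card G := by
    refine lt_of_le_of_lt (Nat.le_of_dvd Nat.card_pos (card_quotient_dvd_card _)) ?_
    exact (Subgroup.card_le_card_group _).lt_of_ne fun h => hlt (Subgroup.eq_top_of_card_eq H h)
  have hnorm : (SB φ').Normal :=
    (hIH _ hlt' S' φ' hS').bs (hsA' hsA) (hsB' hBH hsB)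
  have hF' := hFs _ S' φ' hS'
  set f := QuotientGroup.mk' (oddCore ↥H) with hf
  set OH := (oddCore ↥H).map H.subtype with hOH
  set BH := ((SB φ').comap f).map H.subtype with hBHdef
  haveI hBn : ((SB φ').comap f).Normal := hnorm.comap f
  have hOHn : H ≤ normalizer (OH : Set G) := Base.le_normalizer_map_pPrimeCore H
  have hBHn : H ≤ normalizer (BH : Set G) := by
    refine CfsgLib.Components.le_normalizer_of_conj_mem fun a ha x hx => ?_
    obtain ⟨y, hy, rfl⟩ := hx
    exact ⟨⟨a, ha⟩ * y * ⟨a, ha⟩⁻¹, hBn.conj_mem y hy ⟨a, ha⟩, rfl⟩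
  have hZH : SZ φ ≤ H := hF.Z_le_B.trans (hF.le_B.trans hSH)
  have hZBH : SZ φ ≤ BH := by
    intro z hz
    obtain ⟨c, hc⟩ := (hF.mem_Z z).1 hz
    refine ⟨⟨z, hZH hz⟩, ?_, rfl⟩
    rw [SetLike.mem_coe, mem_comap, hF'.mem_B]
    refine ⟨0, c, ?_⟩
    rw [hval 0 0 c (hc ▸ hZH hz)]
    subst hc
    rfl
  set O' := L ⊓ OH with hO'
  set Y := L ⊓ BH with hY
  have hO'Y : O' ≤ Y := inf_le_inf_left L (map_mono (by
    intro x hx
    rw [mem_comap, hf, QuotientGroup.mk'_apply, (QuotientGroup.eq_one_iff x).2 hx]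
    exact one_mem _))
  have hZY : SZ φ ≤ Y := le_inf hT.Z_le hZBH
  have hOodd : Odd (Nat.card OH) := by
    rw [hOH, card_map_of_injective H.subtype_injective]
    exact Base.odd_card_oddCore _
  have hO'odd : Odd (Nat.card O') := hOodd.of_dvd_nat (card_dvd_of_le inf_le_right)
  -- the two-part of `L` is four
  have h8 : ¬ 8 ∣ Nat.card L := by
    intro h8
    have hA₀L : A₀ ≤ cz t := hT.sup ▸ le_sup_right
    haveI : (L.subgroupOf (cz t)).Normal := (normal_subgroupOf_iff_le_normalizer hT.le).2 hT.normal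
    have h4 : 4 ∣ (L.subgroupOf (cz t)).index := by
      have hinj : Function.Injective
          ((QuotientGroup.mk' (L.subgroupOf (cz t))).comp (inclusion hA₀L)) := by
        rw [injective_iff_map_eq_one]
        intro x hx
        rw [MonoidHom.comp_apply, QuotientGroup.mk'_apply, QuotientGroup.eq_one_iff,
          mem_subgroupOf] at hx
        have : (x : G) ∈ L ⊓ A₀ := ⟨hx, x.2⟩
        rw [hT.inf, mem_bot] at this
        exact Subtype.ext this
      rw [← hT.card₀, index_eq_card]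
      exact card_dvd_of_injective _ hinj
    refine hF.two_part_A t htA htZ (hF.not_ztype_A hsA t htA htZ) ?_
    have e := (L.subgroupOf (cz t)).card_mul_index
    rw [Nat.card_congr (subgroupOfEquivOfLe hT.le).toEquiv] at e
    rw [← e]
    exact (show 32 = 8 * 4 by rfl) ▸ mul_dvd_mul h8 h4
  have hYle : Y = O' ⊔ SZ φ := by
    refine (eq_of_le_of_card_ge (sup_le hO'Y hZY) ?_).symm
    have hYH : Y ≤ H := inf_le_right.trans (map_subtype_le _)
    -- the index of `O'` in `Y` divides sixteen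
    have hd16 : (oddCore ↥H).relIndex (Y.subgroupOf H) ∣ 16 := by
      rw [← QuotientGroup.ker_mk' (oddCore ↥H), relIndex_ker, ← hF'.card_B]
      refine card_dvd_of_le ?_
      rintro _ ⟨x, hx, rfl⟩
      rw [SetLike.mem_coe, mem_subgroupOf] at hx
      obtain ⟨y, hy, hyx⟩ := hx.2
      rw [← show y = x from Subtype.ext hyx]
      exact hy
    have hinf : Nat.card (oddCore ↥H ⊓ Y.subgroupOf H : Subgroup ↥H) = Nat.card O' := by
      rw [← card_map_of_injective H.subtype_injective (K := oddCore ↥H ⊓ Y.subgroupOf H)]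
      congr 1
      have e : (oddCore ↥H ⊓ Y.subgroupOf H).map H.subtype = O' := by
        ext g
        constructor
        · rintro ⟨x, ⟨hx1, hx2⟩, rfl⟩
          exact ⟨(mem_subgroupOf.1 hx2).1, x, hx1, rfl⟩
        · intro hg
          obtain ⟨x, hx, rfl⟩ := hg.2
          exact ⟨x, ⟨hx, mem_subgroupOf.2 (hO'Y hg)⟩, rfl⟩
      rw [e]
    have hcard : Nat.card Y = Nat.card O' * (oddCore ↥H).relIndex (Y.subgroupOf H) := by
      rw [← Nat.card_congr (subgroupOfEquivOfLe hYH).toEquiv, ← hinf, ← inf_relIndex_right,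
        Subgroup.relIndex]
      have e := ((oddCore ↥H ⊓ Y.subgroupOf H).subgroupOf (Y.subgroupOf H)).card_mul_index
      rw [Nat.card_congr (subgroupOfEquivOfLe inf_le_right).toEquiv] at e
      exact e.symm
    obtain ⟨k, -, hk⟩ := (Nat.dvd_prime_pow Nat.prime_two).1
      (show (oddCore ↥H).relIndex (Y.subgroupOf H) ∣ 2 ^ 4 from hd16)
    have hk2 : k ≤ 2 := by
      by_contra hk3
      refine h8 ?_
      have h1 : Nat.card Y ∣ Nat.card L := card_dvd_of_le inf_le_left
      rw [hcard, hk] at h1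
      exact (((pow_dvd_pow 2 (show 3 ≤ k by omega)).trans (dvd_mul_left _ _)).trans h1)
    have hlow : Nat.card O' * 4 ≤ Nat.card (O' ⊔ SZ φ : Subgroup G) := by
      refine Nat.le_of_dvd Nat.card_pos (Nat.Coprime.mul_dvd_of_dvd_of_dvd ?_
        (card_dvd_of_le le_sup_left) (hF.card_Z ▸ card_dvd_of_le le_sup_right))
      exact (show 4 = 2 ^ 2 by rfl) ▸ Nat.Coprime.pow_right 2 (Nat.coprime_two_right.2 hO'odd)
    rw [hcard, hk]
    refine le_trans ?_ hlow
    gcongr
    calc 2 ^ k ≤ 2 ^ 2 := Nat.pow_le_pow_right (by norm_num) hk2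
      _ = 4 := by norm_num
  refine klein_apply hS hF hK hT (L ⊓ H) O' inf_le_left (fun z hz hz1 g hg => ⟨hg.1, ?_⟩)
    ⟨h, ⟨hhL, hBH hhB⟩, m, hm1, hsc⟩ (inf_le_inf_left L (map_subtype_le _)) hO'odd ?_ ?_
  · obtain ⟨x, hx, n, hn, -, rfl⟩ := hCZ hFs G S φ hS z hz hz1 g hg.2
    exact mul_mem (Subgroup.le_normalizer (hWcore z (hF.Z_le_B hz) hz1 hx)) (hBH (hF.norm_B hn))
  · exact (inf_le_inf Subgroup.le_normalizer hOHn).trans inf_normalizer_le_normalizer_inf
  · rw [← hYle]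
    exact (inf_le_inf Subgroup.le_normalizer hBHn).trans inf_normalizer_le_normalizer_inf

end CfsgLib.L34Sylow
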