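import Cfsg.Agent.Lib.L34Sylow.Swap
import Cfsg.Agent.Lib.StrongTwoClasses.Main

/-!
# The quotient `M` of the centraliser of an involution from a subgroup containing local subgroups
-/

set_option autoImplicit false
set_option linter.style.haveILetI false

namespace CfsgLib.L34Sylow.BSKill

open Cfsg Subgroup

universe u

theorem f4_pow_cases (m c : F4) (hm0 : m ≠ 0) (hm1 : m ≠ 1) (hc : c ≠ 0) :
    c = 1 ∨ c = m ∨ c = m * m := by
  revert m c; decide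

/-- Two involutions whose product has odd order are conjugate under the group it generates. -/
theorem exists_conj_zpowers {G : Type*} [Group G] {a q : G} (ha : a * a = 1) (hq : q * q = 1)
    (hodd : Odd (orderOf (a * q))) : ∃ y ∈ zpowers (a * q), y * a * y⁻¹ = q := by
  obtain ⟨k, hk⟩ := hodd
  have hai : a⁻¹ = a := inv_eq_of_mul_eq_one_right ha
  have hqi : q⁻¹ = q := inv_eq_of_mul_eq_one_right hq
  set r := a * q with hr
  have hrn : r ^ (2 * k + 1) = 1 := hk ▸ pow_orderOf_eq_one r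
  have hinv : a * r * a = r⁻¹ := by
    rw [hr, mul_inv_rev, hai, hqi, ← mul_assoc, ha, one_mul]
  have hpow : ∀ j : ℕ, a * r ^ j * a = (r ^ j)⁻¹ := by
    intro j
    induction j with
    | zero => simpa using ha
    | succ j ih =>
      calc a * r ^ (j + 1) * a = (a * r ^ j * a) * (a * r * a) := by
            rw [pow_succ]
            calc a * (r ^ j * r) * a = a * r ^ j * (a * a) * r * a := by rw [ha, mul_one]; group
              _ = _ := by group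
        _ = (r ^ (j + 1))⁻¹ := by rw [ih, hinv, ← mul_inv_rev, ← pow_succ']
  refine ⟨r ^ k, pow_mem (mem_zpowers r) k, ?_⟩
  have h1 : r ^ k * a = a * (r ^ k)⁻¹ := by
    rw [← hpow k, ← mul_assoc, ← mul_assoc, ha, one_mul]
  calc r ^ k * a * (r ^ k)⁻¹ = a * (r ^ (2 * k))⁻¹ := by rw [h1, two_mul, pow_add]; group
    _ = a * r := by
      rw [inv_eq_of_mul_eq_one_right (show r ^ (2 * k) * r = 1 by rw [← pow_succ]; exact hrn)]
    _ = q := by rw [hr, ← mul_assoc, ha, one_mul]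

variable {G : Type u} [Group G]

/-- Images of subgroups normalised by an element. -/
theorem map_mem_normalizer {L : Subgroup G} {M : Type*} [Group M] (π : ↥L →* M) {X : Subgroup G}
    {g : G} (hgL : g ∈ L) (hg : g ∈ normalizer (X : Set G)) :
    π ⟨g, hgL⟩ ∈ normalizer (((X.subgroupOf L).map π : Subgroup M) : Set M) := by
  have key : ∀ g : G, ∀ hgL : g ∈ L, g ∈ normalizer (X : Set G) → ∀ w ∈ (X.subgroupOf L).map π,
      π ⟨g, hgL⟩ * w * (π ⟨g, hgL⟩)⁻¹ ∈ (X.subgroupOf L).map π := by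
    rintro g hgL hg w ⟨x, hx, rfl⟩
    refine ⟨⟨g, hgL⟩ * x * ⟨g, hgL⟩⁻¹, ?_, by rw [map_mul, map_mul, map_inv]⟩
    rw [SetLike.mem_coe, mem_subgroupOf] at hx ⊢
    exact (mem_normalizer_iff.1 hg _).1 hx
  refine mem_normalizer_iff.2 fun w => ⟨key g hgL hg w, fun hw => ?_⟩
  have h := key g⁻¹ (inv_mem hgL) (inv_mem hg) _ hw
  have e : π ⟨g⁻¹, inv_mem hgL⟩ = (π ⟨g, hgL⟩)⁻¹ := by rw [← map_inv]; rfl
  rw [e, inv_inv] at h
  rwa [show (π ⟨g, hgL⟩)⁻¹ * (π ⟨g, hgL⟩ * w * (π ⟨g, hgL⟩)⁻¹) * π ⟨g, hgL⟩ = w by group] at h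

variable [Finite G] {S : Sylow 2 G} {φ : F4 → F4 → F4 → G} {t : G} {A₀ L : Subgroup G}
  {M : Type u} [Group M] [Finite M] {π : ↥L →* M}

theorem klein_apply (hS : Setup S φ) (hF : Facts S φ) (hK : StmtKlein.{u})
    (hT : TData S φ t A₀ L π) (R O' : Subgroup G) (hRL : R ≤ L)
    (hcent : ∀ z ∈ SZ φ, z ≠ 1 → L ⊓ cz z ≤ R)
    (hmu : ∃ h ∈ R, ∃ m, m ≠ 1 ∧ Scal φ h 1 m)
    (hO'R : O' ≤ R) (hodd : Odd (Nat.card O'))
    (hn₁ : R ≤ normalizer (O' : Set G))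
    (hn₂ : R ≤ normalizer ((O' ⊔ SZ φ : Subgroup G) : Set G)) :
    (Nat.card M = 12 ∨ Nat.card M = 60) ∧ ∀ v : M, orderOf v = 2 → Nat.card (cz v) = 4 := by
  set P := ((SZ φ).subgroupOf L).map π with hPdef
  set K := (R.subgroupOf L).map π with hKdef
  set O := (O'.subgroupOf L).map π with hOdef
  have hsq : ∀ z ∈ SZ φ, z * z = 1 := fun z hz => by
    rw [← sq]; exact hF.elem_A.2 z (hF.Z_le_A hz)
  have hcoreodd : Odd (Nat.card (core t)) := StrongTwoClasses.odd_card_core t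
  have hlift : ∀ z ∈ SZ φ, z ≠ 1 → ∀ hzL : z ∈ L, ∀ x : M,
      x * π ⟨z, hzL⟩ * x⁻¹ = π ⟨z, hzL⟩ → x ∈ K := by
    intro z hz hz1 hzL x hx
    obtain ⟨g, rfl⟩ := hT.surj x
    set q := (g : G) * z * (g : G)⁻¹ with hq
    have hzi : z⁻¹ = z := inv_eq_of_mul_eq_one_right (hsq z hz)
    have hzq : z * q ∈ core t := by
      have h1 : (⟨z, hzL⟩ : ↥L)⁻¹ * (g * ⟨z, hzL⟩ * g⁻¹) ∈ π.ker := by
        rw [MonoidHom.mem_ker, map_mul, map_inv, map_mul, map_mul, map_inv, hx, inv_mul_cancel]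
      rw [hT.ker, mem_subgroupOf] at h1
      simpa [hzi, hq] using h1
    have hqq : q * q = 1 := by
      calc q * q = (g : G) * (z * z) * (g : G)⁻¹ := by rw [hq]; group
        _ = 1 := by rw [hsq z hz]; group
    obtain ⟨y, hy, hye⟩ := exists_conj_zpowers (hsq z hz) hqq
      (Signalizer2.odd_orderOf hcoreodd hzq)
    have hyt : y ∈ core t := zpowers_le.2 hzq hy
    have hyL : y ∈ L := hT.core_le hyt
    have hmem : y⁻¹ * (g : G) ∈ R := by
      refine hcent z hz hz1 (mem_inf.2 ⟨mul_mem (inv_mem hyL) g.2, mem_centralizer_singleton_iff.2 ?_⟩)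
      calc y⁻¹ * (g : G) * z = y⁻¹ * q * (g : G) := by rw [hq]; group
        _ = y⁻¹ * (y * z * y⁻¹) * (g : G) := by rw [hye]
        _ = z * (y⁻¹ * (g : G)) := by group
    refine ⟨(⟨y, hyL⟩ : ↥L)⁻¹ * g, by simpa [mem_subgroupOf] using hmem, ?_⟩
    have hy1 : π ⟨y, hyL⟩ = 1 := by
      rw [← MonoidHom.mem_ker, hT.ker, mem_subgroupOf]; exact hyt
    rw [map_mul, map_inv, hy1, inv_one, one_mul]
  have hcentK : ∀ v ∈ P, v ≠ 1 → cz v ≤ K := by
    rintro v ⟨⟨z, hzL⟩, hz, rfl⟩ hv x hx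
    rw [SetLike.mem_coe, mem_subgroupOf] at hz
    refine hlift z hz (fun h => hv ?_) hzL x ?_
    · subst h; exact map_one π
    · rw [mem_centralizer_singleton_iff.1 hx, mul_inv_cancel_right]
  have hNK : normalizer (P : Set M) ≤ K := by
    intro x hx
    set z₀ := φ 0 0 1 with hz₀
    have hz₀Z : z₀ ∈ SZ φ := (hF.mem_Z _).2 ⟨1, rfl⟩
    have hone : φ 0 0 0 = 1 := by
      have h := hS.mul 0 0 0 0 0 0
      simpa using h
    have hz₀1 : z₀ ≠ 1 := by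
      rw [← hone]
      intro h
      exact one_ne_zero ((hS.inj _ _ _ _ _ _ h).2.2)
    have hL₀ : z₀ ∈ L := hT.Z_le hz₀Z
    set v₀ := π ⟨z₀, hL₀⟩ with hv₀
    have hv₀1 : v₀ ≠ 1 := by
      intro h
      rw [hv₀, ← MonoidHom.mem_ker, hT.ker, mem_subgroupOf] at h
      have h2 := Subgroup.orderOf_dvd_natCard _ h
      have ho : orderOf z₀ = 2 := orderOf_eq_prime (by rw [sq]; exact hsq z₀ hz₀Z) hz₀1
      rw [ho] at h2
      exact (Nat.not_even_iff_odd.2 hcoreodd) (even_iff_two_dvd.2 h2)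
    obtain ⟨⟨z', hz'L⟩, hz', hx'⟩ :=
      (mem_normalizer_iff.1 hx v₀).1 ⟨⟨z₀, hL₀⟩, mem_subgroupOf.2 hz₀Z, rfl⟩
    rw [SetLike.mem_coe, mem_subgroupOf] at hz'
    obtain ⟨c, hc⟩ := (hF.mem_Z z').1 hz'
    have hc0 : c ≠ 0 := by
      rintro rfl
      apply hv₀1
      have : (⟨z', hz'L⟩ : ↥L) = 1 := Subtype.ext (hc.symm.trans hone)
      rw [this, map_one] at hx'
      exact conj_eq_one_iff.1 hx'.symm
    obtain ⟨h, hhR, m, hm1, -, hm0, -, hh⟩ := hmu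
    have hh' : ∀ c, h * φ 0 0 c * h⁻¹ = φ 0 0 (m * c) := fun c => by
      have e := hh c
      simp only [cj, one_mul] at e
      exact e
    obtain ⟨r, hr, hrc⟩ : ∃ r ∈ R, r * z₀ * r⁻¹ = z' := by
      rcases f4_pow_cases m c hm0 hm1 hc0 with h1 | h1 | h1
      · exact ⟨1, one_mem R, by rw [← hc, h1, hz₀]; group⟩
      · exact ⟨h, hhR, by rw [← hc, h1, hz₀, hh', mul_one]⟩
      · refine ⟨h * h, mul_mem hhR hhR, ?_⟩
        rw [show h * h * z₀ * (h * h)⁻¹ = h * (h * z₀ * h⁻¹) * h⁻¹ by group, hz₀, hh', hh', mul_one,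
          ← hc, h1]
    have hfix : (π ⟨r, hRL hr⟩)⁻¹ * x ∈ K := by
      refine hlift z₀ hz₀Z hz₀1 hL₀ _ ?_
      have e : π ⟨z', hz'L⟩ = π ⟨r, hRL hr⟩ * v₀ * (π ⟨r, hRL hr⟩)⁻¹ := by
        rw [hv₀, ← map_inv, ← map_mul, ← map_mul]
        exact congrArg π (Subtype.ext hrc.symm)
      rw [e] at hx'
      calc (π ⟨r, hRL hr⟩)⁻¹ * x * v₀ * ((π ⟨r, hRL hr⟩)⁻¹ * x)⁻¹
          = (π ⟨r, hRL hr⟩)⁻¹ * (x * v₀ * x⁻¹) * π ⟨r, hRL hr⟩ := by group
        _ = v₀ := by rw [← hx']; group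
    have hrK : π ⟨r, hRL hr⟩ ∈ K := ⟨⟨r, hRL hr⟩, mem_subgroupOf.2 hr, rfl⟩
    simpa using mul_mem hrK hfix
  have hOK : O ≤ K := map_mono fun x hx => hO'R hx
  have hOodd : Odd (Nat.card O) := by
    refine hodd.of_dvd_nat ((card_map_dvd _ π).trans ?_)
    rw [Nat.card_congr (subgroupOfEquivOfLe (hO'R.trans hRL)).toEquiv]
  have hOn : K ≤ normalizer (O : Set M) := by
    rintro _ ⟨g, hg, rfl⟩
    exact map_mem_normalizer π g.2 (hn₁ (mem_subgroupOf.1 hg))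
  have hOPn : K ≤ normalizer ((O ⊔ P : Subgroup M) : Set M) := by
    have e : O ⊔ P = ((O' ⊔ SZ φ).subgroupOf L).map π := by
      rw [subgroupOf_sup (hO'R.trans hRL) hT.Z_le, Subgroup.map_sup]
    rw [e]
    rintro _ ⟨g, hg, rfl⟩
    exact map_mem_normalizer π g.2 (hn₂ (mem_subgroupOf.1 hg))
  obtain ⟨v, hv, hv1⟩ : ∃ v ∈ P, v ≠ 1 := by
    have h4 : Nat.card P = 4 := hT.khyp.klein.card_four
    exact (Subgroup.bot_or_exists_ne_one P).resolve_left fun h => by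
      rw [h, card_bot] at h4
      omega
  exact (hK M P hT.khyp v hv hv1).2.2.2 K O hNK hcentK hOK hOodd hOn hOPn

end CfsgLib.L34Sylow.BSKill
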