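import Cfsg.Agent.Lib.L34Sylow.BigFrame

/-!
# Piece 2: a first subgroup which is not small
-/

set_option autoImplicit false
set_option maxRecDepth 100000
set_option linter.style.haveILetI false

namespace CfsgLib.L34Sylow

open Cfsg Subgroup BigPerm

universe u

theorem big : StmtBig.{u} := by
  intro hFacts G _ _ S φ hS hns
  haveI : Fact (Nat.Prime 2) := ⟨Nat.prime_two⟩
  have F := hFacts G S φ hS
  set α : V2 → G := fun v => φ v.1 0 v.2 with hα
  have αadd : ∀ u v, α (u + v) = α u * α v := fun u v => by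
    simp only [hα]
    rw [hS.mul]
    simp
  have αinj : Function.Injective α := fun u v e =>
    Prod.ext (hS.inj _ _ _ _ _ _ e).1 (hS.inj _ _ _ _ _ _ e).2.2
  have αmem : ∀ v, α v ∈ SA φ := fun v => (F.mem_A _).2 ⟨v.1, v.2, rfl⟩
  set N := normalizer (SA φ : Set G) with hN
  have ex : ∀ (n : ↥N) (v : V2), ∃ w, α w = (n : G) * α v * (n : G)⁻¹ := fun n v => by
    obtain ⟨a, c, e⟩ := (F.mem_A _).1 ((mem_normalizer_iff.1 n.2 _).1 (αmem v))
    exact ⟨(a, c), e⟩
  choose act hact using ex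
  have act_mul : ∀ n n' v, act (n * n') v = act n (act n' v) := fun n n' v => αinj (by
    rw [hact, hact, hact, coe_mul, mul_inv_rev]
    simp only [mul_assoc])
  have act_one : ∀ v, act 1 v = v := fun v => αinj (by rw [hact]; simp)
  let perm : ↥N → Equiv.Perm V2 := fun n =>
    { toFun := act n
      invFun := act n⁻¹
      left_inv := fun v => by rw [← act_mul, inv_mul_cancel, act_one]
      right_inv := fun v => by rw [← act_mul, mul_inv_cancel, act_one] }
  let ρ : ↥N →* Equiv.Perm V2 := MonoidHom.mk' perm fun n n' => Equiv.ext fun v => act_mul n n' v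
  have hρ : ∀ (n : ↥N) v, α (ρ n v) = (n : G) * α v * (n : G)⁻¹ := fun n v => hact n v
  have hSN : (S : Subgroup G) ≤ N := le_normalizer.trans F.norm_A
  -- the Sylow subgroup acts by transvections
  have hρS : ∀ (a b c : F4) (hm : φ a b c ∈ N), ρ ⟨φ a b c, hm⟩ = tau b := fun a b c hm =>
    Equiv.ext fun v => αinj (by
      rw [hρ]
      show φ a b c * φ v.1 0 v.2 * (φ a b c)⁻¹ = φ v.1 0 (v.2 + v.1 * b)
      rw [mul_inv_eq_iff_eq_mul, hS.mul, hS.mul]
      congr 1
      · rw [add_comm]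
      · rw [add_comm]
      · linear_combination (-1 : F4) * f4_char (v.1 * b))
  set VV := ((S : Subgroup G).subgroupOf N).map ρ with hVV
  have hVmem : ∀ π, π ∈ VV ↔ ∃ m, π = tau m := fun π => by
    constructor
    · rintro ⟨⟨g, hgN⟩, hgS, rfl⟩
      obtain ⟨a, b, c, rfl⟩ := hS.surj g hgS
      exact ⟨b, hρS a b c hgN⟩
    · rintro ⟨m, rfl⟩
      exact ⟨⟨φ 0 m 0, hSN (hS.mem 0 m 0)⟩, hS.mem 0 m 0, hρS _ _ _ _⟩
  have hAut : Aut ρ.range := by
    refine ⟨?_, fun m => ?_, ?_, ?_⟩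
    · rintro _ ⟨n, rfl⟩ u v
      apply αinj
      rw [αadd, hρ, hρ, hρ, αadd, conj_mul]
    · exact map_le_range ρ _ ((hVmem _).2 ⟨m, rfl⟩)
    · intro W hW hW2 htau π hπ
      refine (hVmem π).1 ?_
      have hVW : VV ≤ W := fun σ hσ => by obtain ⟨m, rfl⟩ := (hVmem σ).1 hσ; exact htau m
      have hodd : ¬ 2 ∣ VV.relIndex ρ.range := fun hd => by
        rw [← index_comap] at hd
        have h1 := (S.subtype hSN).not_dvd_index
        rw [Sylow.coe_subtype] at h1
        exact h1 (hd.trans (index_dvd_of_le (le_comap_map ρ _)))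
      have h1 : VV.relIndex W = 1 := by
        have hd : VV.relIndex W ∣ VV.relIndex ρ.range :=
          Dvd.intro _ (relIndex_mul_relIndex VV W ρ.range hVW hW)
        obtain ⟨k, hk⟩ := hW2.index (VV.subgroupOf W)
        have hk' : VV.relIndex W = 2 ^ k := hk
        cases k with
        | zero => exact hk'
        | succ k => exact absurd ((dvd_pow_self 2 (Nat.succ_ne_zero k)).trans (hk' ▸ hd)) hodd
      exact relIndex_eq_one.1 h1 hπ
    · by_contra hall
      push Not at hall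
      refine hns fun n hn => mem_normalizer_fintype fun x hx => ?_
      obtain ⟨c, rfl⟩ := (F.mem_Z _).1 hx
      refine (F.mem_Z _).2 ⟨(ρ ⟨n, hn⟩ (0, c)).2, ?_⟩
      have h1 := hρ ⟨n, hn⟩ (0, c)
      simp only [hα] at h1
      rw [hall _ ⟨⟨n, hn⟩, rfl⟩ c] at h1
      exact h1
  obtain ⟨f, fadd, flin, fSL, forb⟩ := hAut.frame
  have f0 : f 0 = 0 := by
    have e0 := fadd 0 0
    rw [add_zero] at e0
    exact left_eq_add.1 e0
  set ψ : F4 → F4 → G := fun a b => α (lin f (a, b)) with hψ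
  have hcj : ∀ (n : ↥N) a b, cj (n : G) (ψ a b) = α (lin f (co f (ρ n) (a, b))) := fun n a b => by
    rw [co, lin_inv, hρ]
  have hψ0 : ∀ a, ψ a 0 = φ 0 0 a := fun a => by simp [hψ, hα, lin, f0]
  have hlinadd : ∀ u v, lin f (u + v) = lin f u + lin f v := fun u v =>
    Prod.ext rfl (by simp [lin, fadd]; ring)
  refine ⟨ψ, fun a b a' b' => ?_, fun a b a' b' e => ?_, fun g => ?_, fun g => ?_, ?_, ?_, ?_, ?_⟩
  · simp only [hψ]
    rw [← αadd, ← hlinadd]
    rfl
  · have h := congrArg (linInv f) (αinj e)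
    rw [inv_lin, inv_lin] at h
    exact Prod.ext_iff.1 h
  · rw [F.mem_A]
    constructor
    · rintro ⟨a, c, rfl⟩
      exact ⟨(linInv f (a, c)).1, (linInv f (a, c)).2, by
        show α (lin f (linInv f (a, c))) = φ a 0 c
        rw [lin_inv]⟩
    · rintro ⟨a, b, rfl⟩
      exact ⟨_, _, rfl⟩
  · rw [F.mem_Z]
    exact exists_congr fun a => by rw [hψ0]
  · intro n hn
    obtain ⟨p, q, r, s, hd, h⟩ := flin (ρ ⟨n, hn⟩) ⟨⟨n, hn⟩, rfl⟩
    exact ⟨p, q, r, s, hd, fun a b => by rw [hcj ⟨n, hn⟩, h]⟩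
  · intro p q r s hd
    obtain ⟨_, ⟨n, rfl⟩, h⟩ := fSL p q r s hd
    exact ⟨n, n.2, fun a b => by rw [hcj n, h]⟩
  · intro x hx hx1
    obtain ⟨a, c, rfl⟩ := (F.mem_A _).1 hx
    have h00 : φ 0 0 0 = 1 := by
      have e := hS.mul 0 0 0 0 0 0
      simp only [add_zero, mul_zero] at e
      exact mul_eq_left.1 e
    have hv : linInv f (a, c) ≠ 0 := fun h0 => hx1 (by
      have h1 := congrArg (lin f) h0
      rw [lin_inv] at h1
      simp [lin, f0] at h1
      obtain ⟨rfl, rfl⟩ := h1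
      exact h00)
    obtain ⟨_, ⟨n, rfl⟩, c', hc', h⟩ := forb _ hv
    refine ⟨c', hc', isConj_iff.2 ⟨n, ?_⟩⟩
    rw [← hψ0]
    show cj (n : G) (ψ c' 0) = _
    rw [hcj n, h, lin_inv]
  · -- a diagonal element normalising the Sylow subgroup
    obtain ⟨_, ⟨n, rfl⟩, hn⟩ := fSL om 0 0 (om * om)
      (by rw [mul_zero, add_zero]; exact om_facts.2.2.2.1)
    have hcotau : ∀ m a b, co f (tau m) (a, b) = (a + b * m, b) := fun m a b => by
      refine Prod.ext ?_ rfl
      show a + f b + b * m + f b = a + b * m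
      linear_combination f4_char (f b)
    have hnV : ∀ m, ρ n * tau m * (ρ n)⁻¹ = tau (om * om * m) := fun m => by
      rw [mul_inv_eq_iff_eq_mul]
      refine co_ext f fun ⟨a, b⟩ => ?_
      rw [co_mul, co_mul, hn, hcotau, hn, hcotau]
      refine Prod.ext ?_ (by simp)
      linear_combination (-(b * m)) * om_facts.2.2.2.2.2
    set K := VV.comap ρ with hK
    set S' := S.subtype hSN with hS'
    have hSK : (S' : Subgroup ↥N) ≤ K := by
      rw [hS', Sylow.coe_subtype]
      exact le_comap_map ρ _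
    have hnSK : ((n • S' : Sylow 2 ↥N) : Subgroup ↥N) ≤ K := by
      rintro _ ⟨s, hs, rfl⟩
      obtain ⟨m, hm⟩ := (hVmem _).1 (hSK hs)
      show ρ (n * s * n⁻¹) ∈ VV
      rw [map_mul, map_mul, map_inv, hm, hnV]
      exact (hVmem _).2 ⟨_, rfl⟩
    obtain ⟨k, hk⟩ := MulAction.exists_smul_eq ↥K ((n • S').subtype hnSK) (S'.subtype hSK)
    set h : ↥N := (k : ↥N) * n with hh
    have hhS : ∀ g ∈ S, (h : G) * g * (h : G)⁻¹ ∈ (S : Subgroup G) := by
      intro g hg
      have hs : (⟨g, hSN hg⟩ : ↥N) ∈ (S' : Subgroup ↥N) := by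
        rw [hS', Sylow.coe_subtype]; exact hg
      have h1 : n * ⟨g, hSN hg⟩ * n⁻¹ ∈ ((n • S' : Sylow 2 ↥N) : Subgroup ↥N) := ⟨_, hs, rfl⟩
      have h2 : k * ⟨_, hnSK h1⟩ * k⁻¹ ∈ ((S'.subtype hSK : Sylow 2 ↥K) : Subgroup ↥K) := by
        rw [← hk]
        exact ⟨_, by rw [Sylow.coe_subtype]; exact h1, rfl⟩
      rw [Sylow.coe_subtype, mem_subgroupOf, hS', Sylow.coe_subtype, mem_subgroupOf] at h2
      simpa [hh, mul_assoc] using h2
    have hhN : (h : G) ∈ normalizer (S : Set G) := mem_normalizer_fintype hhS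
    obtain ⟨l, m, hlm⟩ := F.scal (h : G) hhN
    obtain ⟨m₀, hm₀⟩ := (hVmem _).1 k.2
    have hρh : ρ h = tau m₀ * ρ n := by rw [hh, map_mul, hm₀]
    have hl : l = om * om := by
      obtain ⟨c, hc⟩ := hlm.2.2.1 1 0
      have h1 : lin f (f 1, 1) = ((1, 0) : V2) := Prod.ext rfl (f4_char _)
      have h2 : cj (h : G) (φ 1 0 0) = α (lin f (co f (ρ h) (f 1, 1))) := by
        rw [← hcj]; simp only [hψ]; rw [h1]
      rw [hc, hρh, co_mul, hn, hcotau] at h2
      have := (hS.inj _ _ _ _ _ _ h2).1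
      simpa [lin] using this
    have hm : m = om * om := by
      have h2 := hcj h 1 0
      rw [hψ0, hlm.2.2.2 1, hρh, co_mul, hn, hcotau] at h2
      have h3 := (hS.inj _ _ _ _ _ _ h2).2.2
      simp [lin, f0] at h3
      rw [hl] at h3
      have key : ∀ m : F4, om * om * m = om → m = om * om := by decide +kernel
      exact key m h3
    refine ⟨(h : G), hhN, l, hl ▸ om_facts.2.2.2.2.1, ?_⟩
    rwa [hm, ← hl] at hlm

end CfsgLib.L34Sylow
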