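import Cfsg.Agent.Lib.L34Sylow.BigPerm

/-!
# Coordinates in which the automiser lies between `SL₂(4)` and `GL₂(4)`
-/

set_option autoImplicit false
set_option maxRecDepth 100000

namespace CfsgLib.L34Sylow.BigPerm

open Subgroup

/-- The coordinates attached to a complement of the centre given as a graph. -/
def lin (f : F4 → F4) (v : V2) : V2 := (v.2, v.1 + f v.2)

/-- Their inverse. -/
def linInv (f : F4 → F4) (v : V2) : V2 := (v.2 + f v.1, v.1)

theorem lin_inv (f : F4 → F4) (v : V2) : lin f (linInv f v) = v :=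
  Prod.ext rfl (add_self' _ _)

theorem inv_lin (f : F4 → F4) (v : V2) : linInv f (lin f v) = v :=
  Prod.ext (add_self' _ _) rfl

/-- A permutation in the new coordinates. -/
def co (f : F4 → F4) (π : Equiv.Perm V2) (v : V2) : V2 := linInv f (π (lin f v))

theorem co_one (f : F4 → F4) (v : V2) : co f 1 v = v := inv_lin f v

theorem co_mul (f : F4 → F4) (π σ : Equiv.Perm V2) (v : V2) :
    co f (π * σ) v = co f π (co f σ v) := by
  simp only [co, Equiv.Perm.mul_apply, lin_inv]

theorem co_inj (f : F4 → F4) (π : Equiv.Perm V2) : Function.Injective (co f π) := fun u v h => by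
  have h1 := congrArg (lin f) h
  rw [co, co, lin_inv, lin_inv] at h1
  have h2 := congrArg (linInv f) (π.injective h1)
  rwa [inv_lin, inv_lin] at h2

theorem co_ext (f : F4 → F4) {π σ : Equiv.Perm V2} (h : ∀ v, co f π v = co f σ v) : π = σ := by
  refine Equiv.ext fun v => ?_
  have h1 := congrArg (lin f) (h (linInv f v))
  rwa [co, co, lin_inv, lin_inv, lin_inv] at h1

/-- Some element of the group is `(p q; r s)` in the new coordinates. -/
def Real (H : Subgroup (Equiv.Perm V2)) (f : F4 → F4) (p q r s : F4) : Prop :=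
  ∃ π ∈ H, ∀ a b, co f π (a, b) = (p * a + q * b, r * a + s * b)

theorem Real.comp {H : Subgroup (Equiv.Perm V2)} {f : F4 → F4} {p q r s p' q' r' s' : F4}
    (h : Real H f p q r s) (h' : Real H f p' q' r' s') :
    Real H f (p * p' + q * r') (p * q' + q * s') (r * p' + s * r') (r * q' + s * s') := by
  obtain ⟨π, hπ, e⟩ := h
  obtain ⟨σ, hσ, e'⟩ := h'
  refine ⟨π * σ, mul_mem hπ hσ, fun a b => ?_⟩
  rw [co_mul, e', e]
  exact Prod.ext (by ring) (by ring)

theorem Aut.frame {H : Subgroup (Equiv.Perm V2)} (h : Aut H) :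
    ∃ f : F4 → F4, (∀ x y, f (x + y) = f x + f y) ∧
      (∀ π ∈ H, ∃ p q r s : F4, p * s + q * r ≠ 0 ∧
        ∀ a b, co f π (a, b) = (p * a + q * b, r * a + s * b)) ∧
      (∀ p q r s : F4, p * s + q * r = 1 → Real H f p q r s) ∧
      ∀ v : V2, v ≠ 0 → ∃ π ∈ H, ∃ c, c ≠ 0 ∧ co f π (c, 0) = v := by
  obtain ⟨g₀, hg₀, c₀, hc₀⟩ := h.move
  have hc00 : c₀ ≠ 0 := by
    rintro rfl
    exact hc₀ (by rw [show ((0, 0) : V2) = 0 from rfl, h.map_zero hg₀]; rfl)
  set β : F4 → F4 := fun c => (g₀ (0, c)).1 with hβ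
  have βadd : ∀ x y, β (x + y) = β x + β y := fun x y => by
    simp only [hβ]
    rw [show ((0, x + y) : V2) = (0, x) + (0, y) from Prod.ext (by simp) rfl, h.add g₀ hg₀]
    rfl
  have hβ0 : ∀ c, β c = 0 → c = 0 := fun c hc => by
    by_contra hc'
    exact hc₀ (h.fixes hg₀ hc' hc c₀)
  have hβi : Function.Injective β := fun x y hxy =>
    (add_eq_zero' x y).1 (hβ0 _ (by rw [βadd, hxy, f4_char]))
  set e := Equiv.ofBijective β (Finite.injective_iff_bijective.1 hβi) with he
  set f : F4 → F4 := fun x => (g₀ (0, e.symm x)).2 with hf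
  have hes : ∀ x, β (e.symm x) = x := fun x => Equiv.ofBijective_apply_symm_apply β _ x
  have fadd : ∀ x y, f (x + y) = f x + f y := fun x y => by
    have hxy : e.symm (x + y) = e.symm x + e.symm y := hβi (by rw [βadd, hes, hes, hes])
    simp only [hf]
    rw [hxy, show ((0, e.symm x + e.symm y) : V2) = (0, e.symm x) + (0, e.symm y) from
      Prod.ext (by simp) rfl, h.add g₀ hg₀]
    rfl
  have f0 : f 0 = 0 := by
    have e0 := fadd 0 0
    rw [add_zero] at e0
    exact left_eq_add.1 e0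
  have hfβ : ∀ c, f (β c) = (g₀ (0, c)).2 := fun c => by
    have : e.symm (β c) = c := hβi (hes _)
    simp only [hf, this]
  have hlin : ∀ a, lin f (a, 0) = (0, a) := fun a => by simp [lin, f0]
  have hcotau : ∀ m a b, co f (tau m) (a, b) = (a + b * m, b) := fun m a b => by
    refine Prod.ext ?_ rfl
    show a + f b + b * m + f b = a + b * m
    linear_combination f4_char (f b)
  have hcog : ∀ c, co f g₀ (c, 0) = (0, β c) := fun c => by
    rw [co, hlin]
    refine Prod.ext ?_ rfl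
    show (g₀ (0, c)).2 + f (β c) = 0
    rw [hfβ, f4_char]
  have cadd : ∀ π ∈ H, ∀ u v, co f π (u + v) = co f π u + co f π v := fun π hπ u v => by
    have hl : lin f (u + v) = lin f u + lin f v :=
      Prod.ext rfl (by show _ = u.1 + f u.2 + (v.1 + f v.2); simp [lin, fadd]; ring)
    rw [co, hl, h.add π hπ]
    exact Prod.ext (by simp [co, linInv, fadd]; ring) rfl
  have c0 : ∀ π ∈ H, co f π 0 = 0 := fun π hπ => by
    have e0 := cadd π hπ 0 0
    rw [add_zero] at e0
    exact left_eq_add.1 e0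
  -- every line is an image of the centre
  have lines : ∀ v : V2, v ≠ 0 → ∃ σ ∈ H, (∀ c, ∃ l : F4, co f σ (c, 0) = l • v) ∧
      ∀ l : F4, ∃ c, co f σ (c, 0) = l • v := by
    rintro ⟨a, b⟩ hv
    by_cases hb : b = 0
    · subst hb
      have ha : a ≠ 0 := fun ha => hv (by rw [ha]; rfl)
      refine ⟨1, one_mem H, fun c => ⟨c * a⁻¹, ?_⟩, fun l => ⟨l * a, ?_⟩⟩
      · rw [co_one, Prod.smul_mk, smul_eq_mul, smul_zero, mul_assoc, inv_mul_cancel₀ ha, mul_one]
      · rw [co_one, Prod.smul_mk, smul_eq_mul, smul_zero]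
    · refine ⟨tau (a * b⁻¹) * g₀, mul_mem (h.tau_mem _) hg₀, fun c => ⟨β c * b⁻¹, ?_⟩,
        fun l => ⟨e.symm (l * b), ?_⟩⟩
      · rw [co_mul, hcog, hcotau, Prod.smul_mk, smul_eq_mul, smul_eq_mul]
        exact Prod.ext (by ring) (by field_simp)
      · rw [co_mul, hcog, hcotau, hes, Prod.smul_mk, smul_eq_mul, smul_eq_mul]
        exact Prod.ext (by field_simp; ring) rfl
  have orbit : ∀ v : V2, v ≠ 0 → ∃ π ∈ H, ∃ c, c ≠ 0 ∧ co f π (c, 0) = v := fun v hv => by
    obtain ⟨σ, hσ, -, h2⟩ := lines v hv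
    obtain ⟨c, hc⟩ := h2 1
    rw [one_smul] at hc
    refine ⟨σ, hσ, c, ?_, hc⟩
    rintro rfl
    exact hv (hc.symm.trans (c0 σ hσ))
  -- lines go to lines
  have pres : ∀ π ∈ H, ∀ v : V2, ∀ l : F4, ∃ l' : F4, co f π (l • v) = l' • co f π v := by
    intro π hπ v l
    by_cases hv : v = 0
    · exact ⟨1, by rw [hv, smul_zero, c0 π hπ, smul_zero]⟩
    have hw : co f π v ≠ 0 := fun h0 => hv (co_inj f π (h0.trans (c0 π hπ).symm))
    obtain ⟨σ, hσ, -, hσ2⟩ := lines v hv
    obtain ⟨σ', hσ', hσ1', hσ2'⟩ := lines _ hw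
    obtain ⟨c, hc⟩ := hσ2 1
    obtain ⟨d, hd⟩ := hσ2' 1
    rw [one_smul] at hc hd
    have hcne : c ≠ 0 := by rintro rfl; exact hv (hc.symm.trans (c0 σ hσ))
    obtain ⟨x, hx⟩ := hσ2 l
    set ρ := σ'⁻¹ * (π * σ) with hρ
    have hρH : ρ ∈ H := mul_mem (inv_mem hσ') (mul_mem hπ hσ)
    have hρc : co f ρ (c, 0) = (d, 0) := by
      apply co_inj f σ'
      rw [← co_mul, hρ, mul_inv_cancel_left, co_mul, hc, hd]
    have hρ1 : (ρ (0, c)).1 = 0 := by
      have h1 := congrArg (lin f) hρc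
      rw [co, lin_inv, hlin, hlin] at h1
      rw [h1]
    obtain ⟨l', hl'⟩ := hσ1' ((ρ (0, x)).2)
    refine ⟨l', ?_⟩
    rw [← hl', ← hx, ← co_mul]
    have hρx : co f ρ (x, 0) = ((ρ (0, x)).2, 0) := by
      rw [co, hlin, show ρ (0, x) = (0, (ρ (0, x)).2) from Prod.ext (h.fixes hρH hcne hρ1 x) rfl]
      simp [linInv, f0]
    rw [← hρx, ← co_mul, hρ, mul_inv_cancel_left]
  -- semilinearity
  have semi : ∀ π ∈ H, ∃ u w : V2, u.1 * w.2 + u.2 * w.1 ≠ 0 ∧
      ((∀ a b : F4, co f π (a, b) = a • u + b • w) ∨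
        ∀ a b : F4, co f π (a, b) = (a * a) • u + (b * b) • w) := by
    intro π hπ
    have key : ∀ v : V2, v ≠ 0 → ∀ t : F4, ∃ l : F4, co f π (l • v) = t • co f π v := by
      intro v hv
      choose g hg using fun l => pres π hπ v l
      have gi : Function.Injective g := fun a b hab => by
        have e : a • v = b • v := co_inj f π (by rw [hg, hg, hab])
        exact smul_left_injective F4 hv e
      intro t
      obtain ⟨l, rfl⟩ := (Finite.injective_iff_bijective.1 gi).2 t
      exact ⟨l, hg l⟩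
    set u := co f π (1, 0) with hu
    set w := co f π (0, 1) with hw
    have hw0 : w ≠ 0 := fun h0 => by
      have := co_inj f π (h0.trans (c0 π hπ).symm)
      exact one_ne_zero (congrArg Prod.snd this)
    have hdet : u.1 * w.2 + u.2 * w.1 ≠ 0 := by
      refine det_of_indep u w hw0 fun t ht => ?_
      obtain ⟨l, hl⟩ := key (0, 1) (fun h0 => one_ne_zero (congrArg Prod.snd h0)) t
      have := co_inj f π (ht.trans hl.symm)
      exact one_ne_zero ((congrArg Prod.fst this).trans (mul_zero l))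
    refine ⟨u, w, hdet, ?_⟩
    obtain ⟨k, hk⟩ := pres π hπ (1, 0) om
    obtain ⟨k', hk'⟩ := pres π hπ (0, 1) om
    obtain ⟨j, hj⟩ := pres π hπ (1, 1) om
    simp only [Prod.smul_mk, smul_eq_mul, mul_zero, mul_one] at hk hk' hj
    rw [show ((om, om) : V2) = (om, 0) + (0, om) from by simp,
      show ((1, 1) : V2) = (1, 0) + (0, 1) from by simp, cadd π hπ, cadd π hπ, hk, hk', ← hu, ← hw,
      smul_add] at hj
    have hz : (k + j) • u + (k' + j) • w = 0 := by
      rw [add_smul, add_smul, show k • u + j • u + (k' • w + j • w) =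
        (k • u + k' • w) + (j • u + j • w) from add_add_add_comm _ _ _ _, hj]
      exact Prod.ext (f4_char _) (f4_char _)
    obtain ⟨h1, h2⟩ := indep_of_det u.1 u.2 w.1 w.2 hdet (k + j) (k' + j)
      (congrArg Prod.fst hz) (congrArg Prod.snd hz)
    rw [add_eq_zero'] at h1 h2
    rw [h2, ← h1] at hk'
    rw [← hu] at hk
    rw [← hw] at hk'
    have hexp : ∀ a b, co f π (a, b) = co f π (a, 0) + co f π (0, b) := fun a b => by
      rw [← cadd π hπ]; simp
    have hX : co f π (om + 1, 0) = (k + 1) • u := by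
      rw [show ((om + 1, 0) : V2) = (om, 0) + (1, 0) from Prod.ext rfl (by simp), cadd π hπ, hk,
        add_smul, one_smul]
    have hY : co f π (0, om + 1) = (k + 1) • w := by
      rw [show ((0, om + 1) : V2) = (0, om) + (0, 1) from Prod.ext (by simp) rfl, cadd π hπ, hk',
        add_smul, one_smul]
    have h00 := c0 π hπ
    rcases f4_cases k with rfl | rfl | rfl | rfl
    · rw [zero_smul] at hk
      exact absurd (congrArg Prod.fst (co_inj f π (hk.trans h00.symm))) om_facts.1
    · rw [one_smul, hu] at hk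
      exact absurd (congrArg Prod.fst (co_inj f π hk)) om_facts.2.1
    · refine Or.inl fun a b => ?_
      rw [hexp a b]
      congr 1
      · rcases f4_cases a with rfl | rfl | rfl | rfl
        exacts [by rw [zero_smul]; exact h00, by rw [one_smul], hk, hX]
      · rcases f4_cases b with rfl | rfl | rfl | rfl
        exacts [by rw [zero_smul]; exact h00, by rw [one_smul], hk', hY]
    · have ho : om * om = om + 1 := om_facts.2.2.1
      have ho' : (om + 1) * (om + 1) = om + 1 + 1 := by decide +kernel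
      refine Or.inr fun a b => ?_
      rw [hexp a b]
      congr 1
      · rcases f4_cases a with rfl | rfl | rfl | rfl
        exacts [by rw [mul_zero, zero_smul]; exact h00, by rw [one_mul, one_smul],
          by rw [ho]; exact hk, by rw [ho']; exact hX]
      · rcases f4_cases b with rfl | rfl | rfl | rfl
        exacts [by rw [mul_zero, zero_smul]; exact h00, by rw [one_mul, one_smul],
          by rw [ho]; exact hk', by rw [ho']; exact hY]
  -- linearity
  let Lin : Subgroup (Equiv.Perm V2) :=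
    { carrier := {π | π ∈ H ∧ ∀ v : V2, co f π (om • v) = om • co f π v}
      one_mem' := ⟨one_mem H, fun v => by rw [co_one, co_one]⟩
      mul_mem' := fun {a b} ha hb => ⟨mul_mem ha.1 hb.1, fun v => by
        rw [co_mul, hb.2, ha.2, ← co_mul]⟩
      inv_mem' := fun {a} ha => ⟨inv_mem ha.1, fun v => by
        apply co_inj f a
        rw [← co_mul, mul_inv_cancel, co_one, ha.2, ← co_mul, mul_inv_cancel, co_one]⟩ }
  have cases2 : ∀ π ∈ H, π ∈ Lin ∨ ∀ v : V2, co f π (om • v) = (om * om) • co f π v := by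
    intro π hπ
    obtain ⟨u, w, -, hl | hl⟩ := semi π hπ
    · refine Or.inl ⟨hπ, fun ⟨a, b⟩ => ?_⟩
      rw [Prod.smul_mk, hl, hl, smul_eq_mul, smul_eq_mul, smul_add, mul_smul, mul_smul]
    · refine Or.inr fun ⟨a, b⟩ => ?_
      rw [Prod.smul_mk, hl, hl, smul_eq_mul, smul_eq_mul, smul_add, ← mul_smul (om * om) (a * a),
        ← mul_smul (om * om) (b * b), mul_mul_mul_comm om a om a, mul_mul_mul_comm om b om b]
  have allLin : ∀ π ∈ H, π ∈ Lin := by
    intro π₀ hπ₀
    by_contra hn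
    have hs₀ := (cases2 π₀ hπ₀).resolve_left hn
    -- the transvections form a Sylow subgroup
    let T : Subgroup (Equiv.Perm V2) :=
      { carrier := Set.range tau
        one_mem' := ⟨0, Equiv.ext fun v => by simp [tau_apply]⟩
        mul_mem' := by
          rintro _ _ ⟨m, rfl⟩ ⟨m', rfl⟩
          exact ⟨m' + m, Equiv.ext fun v => by simp [tau_apply, mul_add, add_assoc]⟩
        inv_mem' := by
          rintro _ ⟨m, rfl⟩
          exact ⟨m, rfl⟩ }
    have hTc : Nat.card T = 4 := by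
      refine (Nat.card_range_of_injective fun m m' hm => ?_).trans
        (Nat.card_eq_fintype_card.trans CfsgLib.Spor.QField.card_eq)
      have := congrArg (fun σ : Equiv.Perm V2 => (σ (1, 0)).2) hm
      simpa [tau_apply] using this
    have hTH : T ≤ H := by rintro _ ⟨m, rfl⟩; exact h.tau_mem m
    have hTL : T ≤ Lin := by
      rintro _ ⟨m, rfl⟩
      refine ⟨h.tau_mem m, fun ⟨a, b⟩ => ?_⟩
      rw [Prod.smul_mk, hcotau, hcotau, Prod.smul_mk]
      exact Prod.ext (by simp only [smul_eq_mul]; ring) rfl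
    have hidx : (Lin.subgroupOf H).index = 2 := by
      refine index_eq_two_iff.2 ⟨⟨π₀, hπ₀⟩, fun ⟨σ, hσ⟩ => ?_⟩
      by_cases hσL : σ ∈ Lin
      · refine Or.inr ⟨hσL, fun h' => hn ?_⟩
        have := mul_mem (inv_mem hσL) (show σ * π₀ ∈ Lin from h')
        rwa [inv_mul_cancel_left] at this
      · refine Or.inl ⟨⟨mul_mem hσ hπ₀, fun v => ?_⟩, hσL⟩
        have hs := (cases2 σ hσ).resolve_left hσL
        show co f (σ * π₀) (om • v) = om • co f (σ * π₀) v
        rw [co_mul, hs₀, mul_smul, hs, hs, ← mul_smul, om_facts.2.2.2.2.2, ← co_mul]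
    have h8 : 8 ∣ Nat.card H := by
      have h2 := card_mul_index (Lin.subgroupOf H)
      rw [hidx, Nat.card_congr (subgroupOfEquivOfLe (show Lin ≤ H from fun σ hσ => hσ.1)).toEquiv] at h2
      obtain ⟨n, hn⟩ := card_dvd_of_le hTL
      rw [hTc] at hn
      exact ⟨n, by rw [← h2, hn]; ring⟩
    have : Fact (Nat.Prime 2) := ⟨Nat.prime_two⟩
    obtain ⟨W, hW, hTW⟩ := Sylow.exists_subgroup_card_pow_succ (p := 2) (n := 2)
      (G := ↥H) h8 (H := T.subgroupOf H)
      (by rw [Nat.card_congr (subgroupOfEquivOfLe hTH).toEquiv, hTc]; norm_num)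
    have hle : W.map H.subtype ≤ T := fun σ hσ => by
      obtain ⟨m, rfl⟩ := h.sylow (W.map H.subtype) (map_subtype_le W)
        ((IsPGroup.of_card (p := 2) (n := 3) hW).map _)
        (fun m => ⟨⟨tau m, h.tau_mem m⟩, hTW (show tau m ∈ T from ⟨m, rfl⟩), rfl⟩) σ hσ
      exact ⟨m, rfl⟩
    have := card_le_of_le hle
    rw [card_map_of_injective H.subtype_injective, hW, hTc] at this
    norm_num at this
  have linear : ∀ π ∈ H, ∃ p q r s : F4, p * s + q * r ≠ 0 ∧
      ∀ a b, co f π (a, b) = (p * a + q * b, r * a + s * b) := by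
    intro π hπ
    obtain ⟨u, w, hd, hl | hl⟩ := semi π hπ
    · refine ⟨u.1, w.1, u.2, w.2, by rwa [mul_comm w.1], fun a b => ?_⟩
      rw [hl]
      exact Prod.ext (by simp [mul_comm]) (by simp [mul_comm])
    · exfalso
      have h1 := (allLin π hπ).2 (1, 0)
      rw [Prod.smul_mk, smul_eq_mul, smul_zero, mul_one, hl, hl, mul_one, mul_zero, zero_smul,
        add_zero, one_smul, add_zero] at h1
      have h2 : (om * om + om) • u = 0 := by
        rw [add_smul, h1]; exact Prod.ext (f4_char _) (f4_char _)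
      rw [show om * om + om = 1 by decide +kernel, one_smul] at h2
      rw [h2] at hd
      simp at hd
  -- the lower transvections
  obtain ⟨p₀, q, r, s, hd, hg⟩ := linear g₀ hg₀
  obtain ⟨hp, hr⟩ : p₀ = 0 ∧ r ≠ 0 := by
    have h1 := hg 1 0
    rw [hcog, mul_one, mul_one, mul_zero, mul_zero, add_zero, add_zero] at h1
    refine ⟨(congrArg Prod.fst h1).symm, fun hr => ?_⟩
    exact one_ne_zero (hβ0 1 ((congrArg Prod.snd h1).trans hr))
  subst hp
  rw [zero_mul, zero_add] at hd
  obtain ⟨hq, -⟩ := mul_ne_zero_iff.1 hd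
  have hU : ∀ m, Real H f 1 m 0 1 := fun m => ⟨tau m, h.tau_mem m, fun a b => by
    rw [hcotau]; exact Prod.ext (by ring) (by ring)⟩
  have hL : ∀ k, Real H f 1 0 k 1 := fun k => by
    refine ⟨g₀ * tau (k * q * r⁻¹) * g₀⁻¹,
      mul_mem (mul_mem hg₀ (h.tau_mem _)) (inv_mem hg₀), fun a b => ?_⟩
    obtain ⟨⟨x, y⟩, hxy⟩ := Finite.injective_iff_surjective.1 (co_inj f g₀) (a, b)
    rw [co_mul, co_mul, ← hxy, ← co_mul f g₀⁻¹ g₀, inv_mul_cancel, co_one, hcotau, hg]
    obtain ⟨rfl, rfl⟩ := Prod.ext_iff.1 ((hg x y).symm.trans hxy)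
    exact Prod.ext (by ring) (by field_simp; ring)
  have hSL : ∀ p q r s : F4, r ≠ 0 → p * s + q * r = 1 → Real H f p q r s := by
    intro p q r s hr hdet
    have h3 := ((hU ((p + 1) * r⁻¹)).comp (hL r)).comp (hU ((s + 1) * r⁻¹))
    have key : ∀ p q r s : F4, r ≠ 0 → p * s + q * r = 1 →
        (1 * 1 + (p + 1) * r⁻¹ * r) * 1 + (1 * 0 + (p + 1) * r⁻¹ * 1) * 0 = p ∧
        (1 * 1 + (p + 1) * r⁻¹ * r) * ((s + 1) * r⁻¹) + (1 * 0 + (p + 1) * r⁻¹ * 1) * 1 = q ∧
        (0 * 1 + 1 * r) * 1 + (0 * 0 + 1 * 1) * 0 = r ∧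
        (0 * 1 + 1 * r) * ((s + 1) * r⁻¹) + (0 * 0 + 1 * 1) * 1 = s := by decide +kernel
    obtain ⟨e1, e2, e3, e4⟩ := key p q r s hr hdet
    rwa [e1, e2, e3, e4] at h3
  refine ⟨f, fadd, linear, fun p q r s hdet => ?_, orbit⟩
  by_cases hr : r = 0
  · subst hr
    rw [mul_zero, add_zero] at hdet
    have hp : p ≠ 0 := left_ne_zero_of_mul (hdet ▸ one_ne_zero)
    have h4 := (hL 1).comp (hSL p q p (q + s) hp (by linear_combination hdet + f4_char (p * q)))
    simp only [one_mul, zero_mul, add_zero] at h4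
    rwa [f4_char, ← add_assoc, f4_char, zero_add] at h4
  · exact hSL p q r s hr hdet

end CfsgLib.L34Sylow.BigPerm
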