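import Cfsg.Agent.Lib.L34Sylow.Defs

/-!
# A group of additive permutations of `𝔽₄²` with Sylow subgroup the transvections of one line

If such a group moves the line, it lies in `GL₂(4)` and contains `SL₂(4)` in suitable coordinates.
-/

set_option autoImplicit false
set_option maxRecDepth 100000

namespace CfsgLib.L34Sylow.BigPerm

open Subgroup

/-- The coordinates of the elementary subgroup. -/
abbrev V2 : Type := F4 × F4

/-- An element outside the prime field. -/
def om : F4 := ⟨⟨2, by omega⟩⟩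

theorem f4_cases : ∀ a : F4, a = 0 ∨ a = 1 ∨ a = om ∨ a = om + 1 := by decide +kernel

theorem om_facts : om ≠ 0 ∧ om ≠ 1 ∧ om * om = om + 1 ∧ om * (om * om) = 1 ∧ om * om ≠ 1 ∧
    om * om * (om * om) = om := by decide +kernel

theorem add_eq_zero' : ∀ a b : F4, a + b = 0 ↔ a = b := by decide +kernel

theorem add_self' : ∀ a b : F4, a + b + b = a := by decide +kernel

theorem span_Z : ∀ c d x : F4, c ≠ 0 → d ≠ 0 → c ≠ d → x = 0 ∨ x = c ∨ x = d ∨ x = c + d := by
  decide +kernel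

theorem det_of_indep : ∀ u w : V2, w ≠ 0 → (∀ t : F4, u ≠ t • w) →
    u.1 * w.2 + u.2 * w.1 ≠ 0 := by decide +kernel

theorem indep_of_det : ∀ u1 u2 w1 w2 : F4, u1 * w2 + u2 * w1 ≠ 0 → ∀ k k' : F4,
    k * u1 + k' * w1 = 0 → k * u2 + k' * w2 = 0 → k = 0 ∧ k' = 0 := by
  intro u1 u2 w1 w2 hd k k' h1 h2
  have ha : k * (u1 * w2 + u2 * w1) = 0 := by
    linear_combination w2 * h1 + w1 * h2 - f4_char (k' * w1 * w2)
  have hb : k' * (u1 * w2 + u2 * w1) = 0 := by
    linear_combination u2 * h1 + u1 * h2 - f4_char (k * u1 * u2)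
  exact ⟨(mul_eq_zero.1 ha).resolve_right hd, (mul_eq_zero.1 hb).resolve_right hd⟩

/-- The transvections fixing the centre. -/
def tau (m : F4) : Equiv.Perm V2 where
  toFun v := (v.1, v.2 + v.1 * m)
  invFun v := (v.1, v.2 + v.1 * m)
  left_inv v := Prod.ext rfl (add_self' _ _)
  right_inv v := Prod.ext rfl (add_self' _ _)

theorem tau_apply (m : F4) (v : V2) : tau m v = (v.1, v.2 + v.1 * m) := rfl

/-- What the automiser of the elementary subgroup gives. -/
structure Aut (H : Subgroup (Equiv.Perm V2)) : Prop where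
  add : ∀ π ∈ H, ∀ u v, π (u + v) = π u + π v
  tau_mem : ∀ m, tau m ∈ H
  sylow : ∀ W : Subgroup (Equiv.Perm V2), W ≤ H → IsPGroup 2 W → (∀ m, tau m ∈ W) →
    ∀ π ∈ W, ∃ m, π = tau m
  move : ∃ π ∈ H, ∃ c, (π (0, c)).1 ≠ 0

namespace Aut

variable {H : Subgroup (Equiv.Perm V2)} (h : Aut H)
include h

theorem map_zero {π : Equiv.Perm V2} (hπ : π ∈ H) : π 0 = 0 := by
  have e := h.add π hπ 0 0
  rw [add_zero] at e
  exact left_eq_add.1 e

/-- The subgroup fixing `Z` and `A/Z` pointwise. -/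
theorem mem_V {π : Equiv.Perm V2} (hπ : π ∈ H) (hz : ∀ c, π (0, c) = (0, c))
    (hq : ∀ v, (π v).1 = v.1) : ∃ m, π = tau m := by
  let K : Subgroup (Equiv.Perm V2) :=
    { carrier := {σ | σ ∈ H ∧ (∀ c, σ (0, c) = (0, c)) ∧ ∀ v, (σ v).1 = v.1}
      one_mem' := ⟨one_mem H, fun _ => rfl, fun _ => rfl⟩
      mul_mem' := fun {a b} ha hb => ⟨mul_mem ha.1 hb.1,
        fun c => by rw [Equiv.Perm.mul_apply, hb.2.1, ha.2.1],
        fun v => by rw [Equiv.Perm.mul_apply, ha.2.2, hb.2.2]⟩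
      inv_mem' := fun {a} ha => ⟨inv_mem ha.1,
        fun c => Equiv.Perm.inv_eq_iff_eq.2 (ha.2.1 c).symm,
        fun v => by
          have := ha.2.2 (a⁻¹ v)
          rw [Equiv.Perm.coe_inv, Equiv.apply_symm_apply] at this
          rw [Equiv.Perm.coe_inv]
          exact this.symm⟩ }
  refine h.sylow K (fun σ hσ => hσ.1) ?_ (fun m => ⟨h.tau_mem m, fun c => ?_, fun v => rfl⟩) π
    ⟨hπ, hz, hq⟩
  · intro ⟨σ, hσ, hσz, hσq⟩
    refine ⟨1, Subtype.ext (Equiv.ext fun v => ?_)⟩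
    have hv : σ v = v + (0, (σ v).2 + v.2) := by
      refine Prod.ext ?_ ?_
      · rw [hσq]; simp
      · simp only [Prod.snd_add]
        rw [add_comm (σ v).2 v.2, ← add_assoc, f4_char, zero_add]
    show (σ ^ 2 ^ 1) v = v
    generalize hd : ((σ v).2 + v.2) = d at hv
    rw [pow_one, pow_two, Equiv.Perm.mul_apply, hv, h.add σ hσ, hσz, hv, add_assoc]
    refine Prod.ext ?_ ?_ <;> simp [f4_char]
  · simp [tau_apply]

theorem tau_norm {π : Equiv.Perm V2} (hπ : π ∈ H) (hZ : ∀ c, (π (0, c)).1 = 0) (m : F4) :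
    ∃ m', π * tau m * π⁻¹ = tau m' := by
  have hZ' : ∀ c, ∃ d, π (0, d) = (0, c) := by
    have hbij : Function.Bijective fun d : F4 => (π (0, d)).2 := by
      refine (Finite.injective_iff_bijective).1 fun a b hab => ?_
      have e : π (0, a) = π (0, b) := Prod.ext ((hZ a).trans (hZ b).symm) hab
      exact congrArg Prod.snd (π.injective e)
    intro c
    obtain ⟨d, hd⟩ := hbij.2 c
    exact ⟨d, Prod.ext (hZ d) hd⟩
  refine h.mem_V (mul_mem (mul_mem hπ (h.tau_mem m)) (inv_mem hπ)) (fun c => ?_) fun v => ?_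
  · obtain ⟨d, hd⟩ := hZ' c
    rw [← hd, Equiv.Perm.mul_apply, Equiv.Perm.mul_apply, Equiv.Perm.coe_inv,
      Equiv.symm_apply_apply, tau_apply, zero_mul, add_zero]
  · obtain ⟨u, rfl⟩ := π.surjective v
    rw [Equiv.Perm.mul_apply, Equiv.Perm.mul_apply, Equiv.Perm.coe_inv, Equiv.symm_apply_apply,
      tau_apply, show ((u.1, u.2 + u.1 * m) : V2) = u + (0, u.1 * m) from
        Prod.ext (by simp) (by simp), h.add π hπ, Prod.fst_add, hZ, add_zero]

/-- The images of the centre meet it trivially or are equal to it. -/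
theorem fixes {π : Equiv.Perm V2} (hπ : π ∈ H) {c : F4} (hc : c ≠ 0) (h1 : (π (0, c)).1 = 0)
    (d : F4) : (π (0, d)).1 = 0 := by
  by_contra hd
  -- some point of `Z` is not the image of a point of `Z`
  obtain ⟨e, he⟩ : ∃ e, (π⁻¹ (0, e)).1 ≠ 0 := by
    by_contra hall
    push Not at hall
    have hinj : Function.Injective fun e : F4 => (π⁻¹ (0, e)).2 := fun a b hab => by
      have e : π⁻¹ (0, a) = π⁻¹ (0, b) := Prod.ext ((hall a).trans (hall b).symm) hab
      exact congrArg Prod.snd (π⁻¹.injective e)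
    obtain ⟨e, he⟩ := (Finite.injective_iff_bijective.1 hinj).2 d
    have h2 : π⁻¹ (0, e) = (0, d) := Prod.ext (hall e) he
    rw [Equiv.Perm.inv_eq_iff_eq] at h2
    exact hd (by rw [← h2])
  set a := (π⁻¹ (0, e)).1 with ha
  set v' := π * tau (c * a⁻¹) * π⁻¹ with hv'
  have hz' : π (0, c) = (0, (π (0, c)).2) := Prod.ext h1 rfl
  set c' := (π (0, c)).2 with hc'
  have hc0 : c' ≠ 0 := fun h0 => hc (by
    have : π (0, c) = π 0 := by rw [hz', h0, h.map_zero hπ]; rfl
    exact congrArg Prod.snd (π.injective this))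
  have hfc : v' (0, c') = (0, c') := by
    rw [← hz', hv', Equiv.Perm.mul_apply, Equiv.Perm.mul_apply, Equiv.Perm.coe_inv,
      Equiv.symm_apply_apply, tau_apply, zero_mul, add_zero]
  have hfe : v' (0, e) = (0, e + c') := by
    have hsplit : tau (c * a⁻¹) (π⁻¹ (0, e)) = π⁻¹ (0, e) + (0, c) := by
      refine Prod.ext ?_ ?_
      · simp [tau_apply]
      · rw [tau_apply, Prod.snd_add]
        simp only [← ha]
        field_simp
    rw [hv', Equiv.Perm.mul_apply, Equiv.Perm.mul_apply, hsplit, h.add π hπ, hz',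
      Equiv.Perm.coe_inv, Equiv.apply_symm_apply]
    simp
  have hv'H : v' ∈ H := mul_mem (mul_mem hπ (h.tau_mem _)) (inv_mem hπ)
  have he0 : e ≠ 0 := fun h0 => he (by
    rw [ha, h0, show ((0, 0) : V2) = 0 from rfl, h.map_zero (inv_mem hπ)]; rfl)
  have hce : c' ≠ e := fun hce => he (by
    rw [ha, ← hce, ← hz', Equiv.Perm.coe_inv, Equiv.symm_apply_apply])
  have hZv : ∀ x, (v' (0, x)).1 = 0 := by
    intro x
    rcases span_Z c' e x hc0 he0 hce with rfl | rfl | rfl | rfl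
    · rw [show ((0, 0) : V2) = 0 from rfl, h.map_zero hv'H]; rfl
    · rw [hfc]
    · rw [hfe]
    · rw [show ((0, c' + e) : V2) = (0, c') + (0, e) from Prod.ext (by simp) rfl, h.add v' hv'H,
        Prod.fst_add, hfc, hfe, add_zero]
  let T : Subgroup (Equiv.Perm V2) :=
    { carrier := Set.range tau
      one_mem' := ⟨0, Equiv.ext fun v => by simp [tau_apply]⟩
      mul_mem' := by
        rintro _ _ ⟨m, rfl⟩ ⟨m', rfl⟩
        exact ⟨m' + m, Equiv.ext fun v => by simp [tau_apply, mul_add, add_assoc]⟩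
      inv_mem' := by
        rintro _ ⟨m, rfl⟩
        exact ⟨m, rfl⟩ }
  have hT2 : IsPGroup 2 T := by
    intro ⟨_, m, rfl⟩
    refine ⟨1, Subtype.ext ?_⟩
    show tau m ^ 2 ^ 1 = 1
    rw [pow_one, pow_two]
    exact Equiv.ext fun v => by simp [tau_apply, add_self']
  have hv2 : IsPGroup 2 (zpowers v') := by
    have hsq : v' * v' = 1 := by
      rw [hv', conj_mul, show tau (c * a⁻¹) * tau (c * a⁻¹) = 1 from
        Equiv.ext fun v => by simp [tau_apply, add_self'], mul_one, mul_inv_cancel]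
    intro ⟨_, i, rfl⟩
    refine ⟨1, Subtype.ext ?_⟩
    show (v' ^ i) ^ 2 ^ 1 = 1
    rw [pow_one, pow_two, ← (Commute.refl v').mul_zpow, hsq, one_zpow]
  have hnorm : zpowers v' ≤ normalizer (T : Set (Equiv.Perm V2)) := by
    rw [zpowers_le, mem_normalizer_iff]
    have hinv : v'⁻¹ = v' := by
      rw [hv', mul_inv_rev, mul_inv_rev, inv_inv, mul_assoc]; rfl
    intro σ
    constructor
    · rintro ⟨m, rfl⟩
      exact (h.tau_norm hv'H hZv m).imp fun _ hm => hm.symm
    · rintro ⟨m, hm⟩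
      obtain ⟨m', hm'⟩ := h.tau_norm hv'H hZv m
      refine ⟨m', ?_⟩
      rw [← hm', hm, hinv]
      have hvv : v' * v' = 1 := mul_eq_one_iff_inv_eq.2 hinv
      calc v' * (v' * σ * v') * v' = (v' * v') * σ * (v' * v') := by group
        _ = σ := by rw [hvv, one_mul, mul_one]
  have hW := h.sylow (T ⊔ zpowers v')
    (sup_le (by rintro _ ⟨m, rfl⟩; exact h.tau_mem m) (zpowers_le.2 hv'H))
    (hT2.to_sup_of_normal_left' hv2 hnorm) (fun m => mem_sup_left ⟨m, rfl⟩) v'
    (mem_sup_right (mem_zpowers v'))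
  obtain ⟨m, hm⟩ := hW
  rw [hm, tau_apply, zero_mul, add_zero] at hfe
  exact hc0 (by simpa using congrArg Prod.snd hfe)

end Aut

end CfsgLib.L34Sylow.BigPerm
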