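import Cfsg.Agent.Lib.L34Sylow.CentTSylow
import Cfsg.Agent.Lib.Coprime.Gaschutz

/-!
# The centralisers of the involutions of `A ∖ Z`, the side `A` small (piece 4)
-/

set_option autoImplicit false
set_option linter.style.haveILetI false
set_option linter.unusedSectionVars false

namespace CfsgLib.L34Sylow

open Cfsg Subgroup

universe u

variable {G : Type u} [Group G] [Finite G] {S : Sylow 2 G} {φ : F4 → F4 → F4 → G}

namespace CentT

variable (hS : Setup S φ) (hF : Facts S φ)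
include hS hF

/-- The fixed points on `A` of an element of order three. -/
def fixA (φ : F4 → F4 → F4 → G) (k : G) : Subgroup G := SA φ ⊓ cz k

theorem fix_iff {k : G} {m : F4} (hsc : Scal φ k 1 m) (a : F4) :
    ∃ d, ∀ c, φ a 0 c ∈ fixA φ k ↔ d + m * c = c := by
  obtain ⟨d, hd⟩ := scal_apply hS hF hsc a 0
  refine ⟨d, fun c => ⟨fun h => ?_, fun h => ⟨hS.mem_SA.2 ⟨a, c, rfl⟩, ?_⟩⟩⟩
  · have h2 := mem_centralizer_singleton_iff.1 (mem_inf.1 h).2
    have h1 : cj k (φ a 0 c) = φ a 0 c := by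
      simp only [cj]
      rw [← h2]
      group
    have := (hS.inj _ _ _ _ _ _ ((hd c).symm.trans h1)).2.2
    rwa [one_mul] at this
  · have h1 := hd c
    rw [one_mul, one_mul, mul_zero, h] at h1
    refine mem_centralizer_singleton_iff.2 ?_
    conv_lhs => rw [← h1]
    simp only [cj]
    group

theorem exists_fix {k : G} {m : F4} (hm : m ≠ 1) (hsc : Scal φ k 1 m) (a : F4) :
    ∃ c, φ a 0 c ∈ fixA φ k := by
  obtain ⟨d, hd⟩ := fix_iff hS hF hsc a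
  have key : ∀ m d : F4, m ≠ 1 → ∃ c, d + m * c = c := by decide
  obtain ⟨c, hc⟩ := key m d hm
  exact ⟨c, (hd c).2 hc⟩

theorem fix_unique {k : G} {m : F4} (hm : m ≠ 1) (hsc : Scal φ k 1 m) {a c c' : F4}
    (h : φ a 0 c ∈ fixA φ k) (h' : φ a 0 c' ∈ fixA φ k) : c = c' := by
  obtain ⟨d, hd⟩ := fix_iff hS hF hsc a
  have key : ∀ m d c c' : F4, m ≠ 1 → d + m * c = c → d + m * c' = c' → c = c' := by decide
  exact key m d c c' hm ((hd c).1 h) ((hd c').1 h')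

theorem card_fix {k : G} {m : F4} (hm : m ≠ 1) (hsc : Scal φ k 1 m) :
    Nat.card (fixA φ k) = 4 := by
  choose f hf using exists_fix hS hF hm hsc
  let e : F4 → fixA φ k := fun a => ⟨φ a 0 (f a), hf a⟩
  have hb : Function.Bijective e := by
    refine ⟨fun a a' h => (hS.inj _ _ _ _ _ _ (congrArg Subtype.val h)).1, fun x => ?_⟩
    obtain ⟨a, c, hac⟩ := hS.mem_SA.1 (mem_inf.1 x.2).1
    have hx2 : φ a 0 c ∈ fixA φ k := hac ▸ x.2
    refine ⟨a, Subtype.ext ?_⟩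
    show φ a 0 (f a) = x
    rw [← hac, fix_unique hS hF hm hsc (hf a) hx2]
  rw [← Nat.card_congr (Equiv.ofBijective e hb), Nat.card_eq_fintype_card,
    CfsgLib.Spor.QField.card_eq]

theorem fix_inf_Z {k : G} {m : F4} (hm : m ≠ 1) (hsc : Scal φ k 1 m) :
    fixA φ k ⊓ SZ φ = ⊥ := by
  rw [eq_bot_iff]
  rintro x ⟨hx, hz⟩
  obtain ⟨c, rfl⟩ := hS.mem_SZ.1 hz
  have h0 : φ 0 0 0 ∈ fixA φ k := hS.one ▸ one_mem _
  rw [fix_unique hS hF hm hsc hx h0, hS.one]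
  exact one_mem _

theorem sup_Z {k : G} {m : F4} (hm : m ≠ 1) (hsc : Scal φ k 1 m) :
    fixA φ k ⊔ SZ φ = SA φ := by
  refine le_antisymm (sup_le inf_le_left hF.Z_le_A) fun x hx => ?_
  obtain ⟨a, c, rfl⟩ := hS.mem_SA.1 hx
  obtain ⟨c', hc'⟩ := exists_fix hS hF hm hsc a
  have e : φ a 0 c = φ a 0 c' * φ 0 0 (c' + c) := by
    have key : ∀ c c' : F4, c = c' + (c' + c) + a * 0 := by
      intro c c'
      rw [mul_zero, add_zero, ← add_assoc, f4_char, zero_add]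
    rw [hS.mul, add_zero, add_zero, ← key]
  rw [e]
  exact mul_mem (mem_sup_left hc') (mem_sup_right (hS.mem_SZ.2 ⟨_, rfl⟩))

/-- The case of an element of order three. -/
theorem exists_tdata (hsA : Small φ) {t : G} (ht : t ∈ SA φ) (htZ : t ∉ SZ φ) {k : G}
    (hk : k ∈ normalizer (S : Set G)) (hkt : k ∈ cz t) {m : F4} (hm : m ≠ 1)
    (hsc : Scal φ k 1 m) :
    ∃ (A₀ L : Subgroup G) (M : Type u) (_ : Group M) (_ : Finite M) (π : ↥L →* M),
      TData S φ t A₀ L π := by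
  haveI : Fact (Nat.Prime 2) := ⟨Nat.prime_two⟩
  set A₀ := fixA φ k with hA₀
  set C := cz t with hC
  have hAC : SA φ ≤ C := le_cz hS hF ht
  have hA₀A : A₀ ≤ SA φ := inf_le_left
  have hcard₀ : Nat.card A₀ = 4 := card_fix hS hF hm hsc
  have hZC : SZ φ ≤ C := hF.Z_le_A.trans hAC
  let f : ↥C →* ↥C ⧸ oddCore ↥C := QuotientGroup.mk' _
  have hcore : core t = (oddCore ↥C).map C.subtype := rfl
  have hf1 : ∀ x : ↥C, f x = 1 ↔ x ∈ oddCore ↥C := fun x => QuotientGroup.eq_one_iff x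
  have hf1' : ∀ x : ↥C, f x = 1 ↔ (x : G) ∈ core t := fun x => by
    rw [hf1, hcore, mem_map]
    exact ⟨fun h => ⟨x, h, rfl⟩, fun ⟨y, hy, e⟩ => (Subtype.ext e : y = x) ▸ hy⟩
  -- `A₀` is central modulo the core
  have hcent : ∀ a, ∀ ha : a ∈ A₀, ∀ g : ↥C,
      (⟨a, hAC (hA₀A ha)⟩ : ↥C) * g * (⟨a, hAC (hA₀A ha)⟩ : ↥C)⁻¹ * g⁻¹ ∈ oddCore ↥C := by
    intro a ha g
    by_cases ha1 : a = 1
    · subst ha1
      have e : (⟨(1 : G), hAC (hA₀A ha)⟩ : ↥C) = 1 := rfl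
      rw [e, one_mul, inv_one, mul_one, mul_inv_cancel]
      exact one_mem _
    · refine Involutions.ZStar.centralModCore
        (isolated hS hF hsA ht htZ (hA₀A ha) ha1 fun n hn hnt => ?_) g
      refine fix_of_mu hS hF hsA ht htZ hk hkt hm hsc (hA₀A ha) ?_ hn hnt
      rw [← mem_centralizer_singleton_iff.1 (mem_inf.1 ha).2]
      group
  -- the map on `A`
  let ι : ↥(SA φ) →* ↥C ⧸ oddCore ↥C := f.comp (inclusion hAC)
  have hι : Function.Injective ι := by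
    rw [injective_iff_map_eq_one]
    intro x hx
    have h1 : inclusion hAC x ∈ oddCore ↥C := (hf1 _).1 hx
    have h2 : orderOf (inclusion hAC x) ∣ 2 := by
      refine orderOf_dvd_of_pow_eq_one (Subtype.ext ?_)
      simpa using hF.elem_A.2 (x : G) x.2
    have h3 : orderOf (inclusion hAC x) ∣ Nat.card (oddCore ↥C) :=
      orderOf_dvd_natCard _ h1
    have h4 : orderOf (inclusion hAC x) = 1 := by
      have h6 := Nat.coprime_two_left.2 (Base.odd_card_oddCore ↥C)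
      exact Nat.dvd_one.1 (h6 ▸ Nat.dvd_gcd h2 h3)
    have h5 : inclusion hAC x = 1 := orderOf_eq_one_iff.1 h4
    exact inclusion_injective hAC (h5.trans (map_one _).symm)
  set K := (A₀.subgroupOf (SA φ)).map ι with hK
  set V := ((SZ φ).subgroupOf (SA φ)).map ι with hV
  have hKcard : Nat.card K = 4 := by
    rw [hK, card_map_of_injective hι, Nat.card_congr (subgroupOfEquivOfLe hA₀A).toEquiv, hcard₀]
  have hKc : ∀ x ∈ K, ∀ q : ↥C ⧸ oddCore ↥C, x * q = q * x := by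
    rintro _ ⟨a, ha, rfl⟩ q
    obtain ⟨g, rfl⟩ := QuotientGroup.mk_surjective q
    have h := (hf1 _).2 (hcent (a : G) (mem_subgroupOf.1 ha) g)
    rw [map_mul, map_mul, map_mul, map_inv, map_inv, mul_inv_eq_one, mul_inv_eq_iff_eq_mul] at h
    exact h
  haveI : K.Normal := ⟨fun x hx q => by rw [← hKc x hx q, mul_inv_cancel_right]; exact hx⟩
  haveI : IsMulCommutative K := ⟨⟨fun x y => Subtype.ext (hKc x x.2 y)⟩⟩
  have hι_range : Nat.card ι.range = 16 := by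
    rw [← Nat.card_congr (MonoidHom.ofInjective hι).toEquiv, hF.card_A]
  have h32 : ¬ 32 ∣ Nat.card (↥C ⧸ oddCore ↥C) := fun h =>
    hF.two_part_A t ht htZ (hF.not_ztype_A hsA t ht htZ)
      (h.trans (card_quotient_dvd_card _))
  have hcop : (Nat.card K).Coprime ι.range.index := by
    rw [hKcard, show (4 : ℕ) = 2 ^ 2 by rfl]
    refine Nat.Coprime.pow_left 2 ((Nat.prime_two.coprime_iff_not_dvd).2 fun h => h32 ?_)
    rw [← ι.range.card_mul_index, hι_range]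
    exact (show 32 = 16 * 2 by rfl) ▸ Nat.mul_dvd_mul_left 16 h
  have hinf : V ⊓ K = ⊥ := by
    rw [hV, hK, ← Subgroup.map_inf _ _ _ hι, eq_bot_iff]
    rintro _ ⟨x, ⟨hx1, hx2⟩, rfl⟩
    have h : (x : G) ∈ A₀ ⊓ SZ φ := ⟨hx2, hx1⟩
    rw [fix_inf_Z hS hF hm hsc, mem_bot] at h
    rw [show x = 1 from Subtype.ext h, map_one]
    exact one_mem _
  have hsup : K ⊔ V = ι.range := by
    rw [hK, hV, ← Subgroup.map_sup, ← subgroupOf_sup hA₀A hF.Z_le_A, sup_Z hS hF hm hsc,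
      subgroupOf_self, ← MonoidHom.range_eq_map]
  obtain ⟨H, hH⟩ := Coprime.gaschutz_exists K ι.range (MonoidHom.range_eq_map ι ▸ map_mono le_top)
    hcop V (MonoidHom.range_eq_map ι ▸ map_mono le_top) hinf hsup
  have hprod : ∀ q : ↥C ⧸ oddCore ↥C, ∃ x ∈ K, ∃ y ∈ H, q = x * y := fun q => by
    obtain ⟨⟨x, y⟩, hxy⟩ := hH.2 q
    exact ⟨x, x.2, y, y.2, hxy.symm⟩
  have hKH : K ⊓ H = ⊥ := hH.disjoint.eq_bot
  haveI hHn : H.Normal := ⟨fun y hy q => by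
    obtain ⟨x, hx, y', hy', rfl⟩ := hprod q
    have e : x * y' * y * (x * y')⁻¹ = y' * y * y'⁻¹ := by
      have h1 := hKc x hx (y' * y * y'⁻¹)
      calc x * y' * y * (x * y')⁻¹ = x * (y' * y * y'⁻¹) * x⁻¹ := by group
        _ = y' * y * y'⁻¹ * x * x⁻¹ := by rw [h1]
        _ = y' * y * y'⁻¹ := by group
    rw [e]
    exact mul_mem (mul_mem hy' hy) (inv_mem hy')⟩
  have hcomm : ∀ q q' : ↥C ⧸ oddCore ↥C, q * q' * q⁻¹ * q'⁻¹ ∈ H := by
    intro q q'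
    obtain ⟨x, hx, y, hy, rfl⟩ := hprod q
    obtain ⟨x', hx', y', hy', rfl⟩ := hprod q'
    have e : x * y * (x' * y') * (x * y)⁻¹ * (x' * y')⁻¹ = y * y' * y⁻¹ * y'⁻¹ := by
      calc x * y * (x' * y') * (x * y)⁻¹ * (x' * y')⁻¹
          = x * ((y * x') * y' * y⁻¹) * x⁻¹ * (y'⁻¹ * x'⁻¹) := by group
        _ = ((y * x') * y' * y⁻¹) * x * x⁻¹ * (y'⁻¹ * x'⁻¹) := by rw [hKc x hx]
        _ = x' * (y * y' * y⁻¹ * y'⁻¹) * x'⁻¹ := by rw [← hKc x' hx' y]; group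
        _ = (y * y' * y⁻¹ * y'⁻¹) * x' * x'⁻¹ := by rw [hKc x' hx']
        _ = y * y' * y⁻¹ * y'⁻¹ := by group
    rw [e]
    exact mul_mem (mul_mem (mul_mem hy hy') (inv_mem hy)) (inv_mem hy')
  have hZH : ∀ z, ∀ hz : z ∈ SZ φ, f ⟨z, hZC hz⟩ ∈ H := by
    intro z hz
    obtain ⟨c, rfl⟩ := hS.mem_SZ.1 hz
    have key : ∀ m c : F4, m ≠ 1 → ∃ c', m * c' + c' = c := by decide
    obtain ⟨c', hc'⟩ := key m c hm
    have h := hcomm (f ⟨k, hkt⟩) (f ⟨φ 0 0 c', hZC (hS.mem_SZ.2 ⟨c', rfl⟩)⟩)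
    rw [← map_inv, ← map_inv, ← map_mul, ← map_mul, ← map_mul] at h
    convert h using 2
    refine Subtype.ext ?_
    show φ 0 0 c = k * φ 0 0 c' * k⁻¹ * (φ 0 0 c')⁻¹
    have h2 := hsc.2.2.2 c'
    simp only [cj, one_mul] at h2
    rw [h2, hS.inv, hS.mul, ← hc']
    simp
  set L := (H.comap f).map C.subtype with hL
  have hLC : L ≤ C := map_subtype_le _
  have hmemL : ∀ x : ↥C, (x : G) ∈ L ↔ f x ∈ H := fun x =>
    ⟨fun ⟨y, hy, e⟩ => (Subtype.ext e : y = x) ▸ hy, fun h => ⟨x, h, rfl⟩⟩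
  let π : ↥L →* ↥H := (f.comp (inclusion hLC)).codRestrict H fun x => (hmemL _).1 x.2
  have hπv : ∀ x : ↥L, (π x : ↥C ⧸ oddCore ↥C) = f ⟨x, hLC x.2⟩ := fun _ => rfl
  -- the mu element
  obtain ⟨x₀, ⟨a₀, ha₀, hax⟩, y₀, hy₀, hk₀⟩ := hprod (f ⟨k, hkt⟩)
  have ha₀A : (a₀ : G) ∈ A₀ := mem_subgroupOf.1 ha₀
  have hlC : (a₀ : G)⁻¹ * k ∈ C := mul_mem (inv_mem (hAC a₀.2)) hkt
  have hlL : (a₀ : G)⁻¹ * k ∈ L := by
    refine (hmemL ⟨_, hlC⟩).2 ?_
    have e : f ⟨_, hlC⟩ = y₀ := by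
      rw [show (⟨_, hlC⟩ : ↥C) = (⟨(a₀ : G), hAC a₀.2⟩ : ↥C)⁻¹ * ⟨k, hkt⟩ from rfl, map_mul,
        map_inv, hk₀, ← hax]
      exact inv_mul_cancel_left _ _
    rw [e]
    exact hy₀
  have hlsc : Scal φ ((a₀ : G)⁻¹ * k) 1 m := by
    obtain ⟨x, w, hxw⟩ := hS.mem_SA.1 (inv_mem a₀.2)
    have hconj : ∀ a b c, cj (φ x 0 w) (φ a b c) = φ a b (c + x * b) := fun a b c => by
      simp only [cj, hS.conj]
      simp
    refine ⟨one_ne_zero, hsc.2.1, fun a b => ?_, fun c => ?_⟩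
    · obtain ⟨c', hc'⟩ := hsc.2.2.1 a b
      exact ⟨_, by
        rw [← hxw, show cj (φ x 0 w * k) (φ a b 0) = cj (φ x 0 w) (cj k (φ a b 0)) by
          simp only [cj]; group, hc', hconj]⟩
    · rw [← hxw, show cj (φ x 0 w * k) (φ 0 0 c) = cj (φ x 0 w) (cj k (φ 0 0 c)) by
        simp only [cj]; group, hsc.2.2.2 c, hconj]
      simp
  have hlN : (a₀ : G)⁻¹ * k ∈ normalizer (S : Set G) :=
    mul_mem (inv_mem (Subgroup.le_normalizer (hF.le_A a₀.2))) hk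
  have hZL : SZ φ ≤ L := fun z hz => (hmemL ⟨z, hZC hz⟩).2 (hZH z hz)
  let j : ↥(SZ φ) →* ↥H := π.comp (inclusion hZL)
  have hj : Function.Injective j := fun x y e => by
    have h : ι (inclusion hF.Z_le_A x) = ι (inclusion hF.Z_le_A y) := congrArg Subtype.val e
    exact inclusion_injective _ (hι h)
  have hP : ((SZ φ).subgroupOf L).map π = j.range := by
    ext v
    constructor
    · rintro ⟨x, hx, rfl⟩
      exact ⟨⟨x, mem_subgroupOf.1 hx⟩, rfl⟩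
    · rintro ⟨z, rfl⟩
      exact ⟨inclusion hZL z, mem_subgroupOf.2 z.2, rfl⟩
  have hPcard : Nat.card j.range = 4 := by
    rw [← Nat.card_congr (MonoidHom.ofInjective hj).toEquiv, hF.card_Z]
  have hjsq : ∀ v ∈ j.range, v ^ 2 = 1 := by
    rintro _ ⟨z, rfl⟩
    rw [← map_pow, show z ^ 2 = 1 from Subtype.ext (hF.elem_A.2 _ (hF.Z_le_A z.2)), map_one]
  have hM8 : ¬ 8 ∣ Nat.card ↥H := fun h => h32 (by
    rw [← hH.card_mul_card, hKcard]
    exact (show 32 = 4 * 8 by rfl) ▸ Nat.mul_dvd_mul_left 4 h)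
  have hmax : ∀ Q : Subgroup ↥H, IsPGroup 2 Q → j.range ≤ Q → Q = j.range := by
    intro Q hQ hle
    refine (eq_of_le_of_card_ge hle ?_).symm
    rw [hPcard]
    obtain ⟨n, hn⟩ := IsPGroup.iff_card.1 hQ
    rw [hn]
    by_contra hlt
    have h3 : 3 ≤ n := by
      by_contra h
      exact hlt (le_trans (Nat.pow_le_pow_right (by norm_num) (show n ≤ 2 by omega)) (by norm_num))
    exact hM8 ((pow_dvd_pow 2 h3).trans (hn ▸ card_subgroup_dvd_card Q))
  have hone : ∀ s : ↥H, orderOf s = 2 →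
      IsConj (j ⟨φ 0 0 1, hS.mem_SZ.2 ⟨1, rfl⟩⟩) s := by
    intro s hs
    let P : Sylow 2 ↥H := ⟨j.range, IsPGroup.of_card (n := 2) (by rw [hPcard]; norm_num),
      fun hQ hle => hmax _ hQ hle⟩
    obtain ⟨g, hg⟩ := Involutions.exists_conj_mem_sylow_one P hs
    obtain ⟨z, hz⟩ : g * s * g⁻¹ ∈ j.range := hg
    obtain ⟨c, hc⟩ := hS.mem_SZ.1 z.2
    have hz' : z = ⟨φ 0 0 c, hS.mem_SZ.2 ⟨c, rfl⟩⟩ := Subtype.ext hc.symm
    have hc0 : c ≠ 0 := by
      rintro rfl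
      have hz1 : z = 1 := Subtype.ext (hc.symm.trans hS.one)
      rw [hz1, map_one, eq_comm, conj_eq_one_iff] at hz
      rw [hz, orderOf_one] at hs
      exact absurd hs (by norm_num)
    have hstep : ∀ c, IsConj (j ⟨φ 0 0 c, hS.mem_SZ.2 ⟨c, rfl⟩⟩)
        (j ⟨φ 0 0 (m * c), hS.mem_SZ.2 ⟨_, rfl⟩⟩) := fun c => by
      refine isConj_iff.2 ⟨π ⟨_, hlL⟩, ?_⟩
      simp only [j, MonoidHom.comp_apply]
      rw [← map_inv, ← map_mul, ← map_mul]
      congr 1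
      refine Subtype.ext ?_
      have h2 := hlsc.2.2.2 c
      simp only [cj, one_mul] at h2
      simpa using h2
    have key : ∀ m c : F4, m ≠ 0 → m ≠ 1 → c ≠ 0 → c = 1 ∨ c = m * 1 ∨ c = m * (m * 1) := by
      decide
    refine IsConj.trans ?_ (isConj_iff.2 ⟨g, rfl⟩ : IsConj s (g * s * g⁻¹)).symm
    rw [← hz, hz']
    rcases key m c hsc.2.1 hm hc0 with rfl | rfl | rfl
    · exact IsConj.refl _
    · exact hstep 1
    · exact (hstep 1).trans (hstep (m * 1))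
  refine ⟨A₀, L, ↥H, inferInstance, inferInstance, π, ?_⟩
  refine
    { le₀ := hA₀A
      card₀ := hcard₀
      inf₀ := fix_inf_Z hS hF hm hsc
      mem₀ := mem_inf.2 ⟨ht, mem_centralizer_singleton_iff.2
        (mem_centralizer_singleton_iff.1 hkt).symm⟩
      le := hLC
      Z_le := hZL
      core_le := ?_
      normal := ?_
      sup := ?_
      inf := ?_
      central := ?_
      surj := ?_
      ker := ?_
      khyp := ?_
      mu := ⟨_, hlL, hlN, m, hm, hlsc⟩ }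
  · intro x hx
    have hxC : x ∈ C := map_subtype_le _ hx
    refine (hmemL ⟨x, hxC⟩).2 ?_
    rw [(hf1' ⟨x, hxC⟩).2 hx]
    exact one_mem _
  · refine Components.le_normalizer_of_conj_mem fun g hg x hx => ?_
    refine (hmemL ⟨_, mul_mem (mul_mem hg (hLC hx)) (inv_mem hg)⟩).2 ?_
    have := hHn.conj_mem _ ((hmemL ⟨x, hLC hx⟩).1 hx) (f ⟨g, hg⟩)
    rw [← map_inv, ← map_mul, ← map_mul] at this
    exact this
  · refine le_antisymm (sup_le hLC (hA₀A.trans hAC)) fun g hg => ?_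
    obtain ⟨_, ⟨a, ha, rfl⟩, y, hy, he⟩ := hprod (f ⟨g, hg⟩)
    have hag : (a : G)⁻¹ * g ∈ L := by
      refine (hmemL ⟨_, mul_mem (inv_mem (hAC a.2)) hg⟩).2 ?_
      rw [show (⟨_, mul_mem (inv_mem (hAC a.2)) hg⟩ : ↥C) =
        (inclusion hAC a)⁻¹ * ⟨g, hg⟩ from rfl, map_mul, map_inv, he]
      show (ι a)⁻¹ * (ι a * y) ∈ H
      rwa [inv_mul_cancel_left]
    rw [← mul_inv_cancel_left (a : G) g]
    exact mul_mem (mem_sup_right (mem_subgroupOf.1 ha)) (mem_sup_left hag)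
  · rw [eq_bot_iff]
    rintro a ⟨haL, ha⟩
    have h1 : ι ⟨a, hA₀A ha⟩ ∈ K ⊓ H :=
      ⟨⟨⟨a, hA₀A ha⟩, mem_subgroupOf.2 ha, rfl⟩, (hmemL ⟨a, hAC (hA₀A ha)⟩).1 haL⟩
    rw [hKH, mem_bot, ← map_one ι] at h1
    exact mem_bot.2 (congrArg Subtype.val (hι h1))
  · intro a ha g hg
    exact ⟨_, hcent a ha ⟨g, hg⟩, rfl⟩
  · rintro ⟨q, hq⟩
    obtain ⟨x, rfl⟩ := QuotientGroup.mk_surjective q
    exact ⟨⟨x, (hmemL x).2 hq⟩, Subtype.ext rfl⟩
  · ext x
    rw [MonoidHom.mem_ker, mem_subgroupOf, Subtype.ext_iff, hπv, OneMemClass.coe_one, hf1']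
  · rw [hP]
    refine ⟨?_, hmax, fun s s' hs hs' => (hone s hs).symm.trans (hone s' hs'), ?_⟩
    · refine ⟨hPcard, ?_⟩
      haveI : Nontrivial j.range := by
        rw [← Finite.one_lt_card_iff_nontrivial, hPcard]
        norm_num
      refine (Monoid.exponent_eq_prime_iff Nat.prime_two).2 fun v hv => ?_
      exact orderOf_eq_prime (Subtype.ext (by simpa using hjsq v v.2)) hv
    · have h := Base.map_pPrimeCore_eq_inf (p := 2) H
      rw [Base.pPrimeCore_quotient_pPrimeCore, bot_inf_eq, map_eq_bot_iff_of_injective _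
        H.subtype_injective] at h
      exact h

end CentT

open CentT in
/-- Piece 4. -/
theorem centT : StmtCentT.{u} := by
  intro hFs G _ _ S φ hS hsA t ht htZ
  have hF := hFs G S φ hS
  by_cases hmu : ∃ k ∈ normalizer (S : Set G), k ∈ cz t ∧ ∃ m, m ≠ 1 ∧ Scal φ k 1 m
  · obtain ⟨k, hk, hkt, m, hm, hsc⟩ := hmu
    exact Or.inr (exists_tdata hS hF hsA ht htZ hk hkt hm hsc)
  · refine Or.inl ⟨fun h => hmu (exists_mu_cent hS ht htZ hF h),
      eq_core_sup hS hF hsA ht htZ fun n hn hnt => ?_⟩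
    by_contra hnA
    exact hmu (exists_mu_of_normalizer hS hF hsA ht htZ hn hnt hnA)

end CfsgLib.L34Sylow
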