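import Cfsg.Agent.Lib.L34Sylow.Coords
import Cfsg.Agent.Lib.Transfer.Fusion
import Cfsg.Agent.Lib.Components.Bender

/-!
# The automiser of `A` in the centraliser of an involution of `A ∖ Z` (piece 4, first part)
-/

set_option autoImplicit false
set_option linter.style.haveILetI false
set_option linter.unusedSectionVars false

namespace CfsgLib.L34Sylow

open Cfsg Subgroup

universe u

variable {G : Type u} [Group G] [Finite G] {S : Sylow 2 G} {φ : F4 → F4 → F4 → G}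

namespace CentT

/-- The elements of `N(A)` which act trivially on `Z` and on `A / Z`. -/
def stab (φ : F4 → F4 → F4 → G) : Subgroup G where
  carrier := {n | n ∈ normalizer (SA φ : Set G) ∧ (∀ z ∈ SZ φ, n * z * n⁻¹ = z) ∧
    ∀ a ∈ SA φ, n * a * n⁻¹ * a⁻¹ ∈ SZ φ}
  one_mem' := ⟨one_mem _, fun z _ => by simp, fun a _ => by simp⟩
  mul_mem' := by
    rintro n n' ⟨h1, h2, h3⟩ ⟨h1', h2', h3'⟩
    refine ⟨mul_mem h1 h1', fun z hz => ?_, fun a ha => ?_⟩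
    · calc n * n' * z * (n * n')⁻¹ = n * (n' * z * n'⁻¹) * n⁻¹ := by group
        _ = z := by rw [h2' z hz, h2 z hz]
    · have e : n * n' * a * (n * n')⁻¹ * a⁻¹ =
          n * (n' * a * n'⁻¹ * a⁻¹) * n⁻¹ * (n * a * n⁻¹ * a⁻¹) := by group
      rw [e, h2 _ (h3' a ha)]
      exact mul_mem (h3' a ha) (h3 a ha)
  inv_mem' := by
    rintro n ⟨h1, h2, h3⟩
    refine ⟨inv_mem h1, fun z hz => ?_, fun a ha => ?_⟩
    · conv_lhs => rw [← h2 z hz]
      group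
    · have ha' : n⁻¹ * a * n ∈ SA φ := by
        simpa using ((mem_normalizer_iff.1 (inv_mem h1)) a).1 ha
      have h4 : n * (n⁻¹ * a * n) * n⁻¹ * (n⁻¹ * a * n)⁻¹ ∈ SZ φ := h3 _ ha'
      have e : n⁻¹ * a * n⁻¹⁻¹ * a⁻¹ = (n * (n⁻¹ * a * n) * n⁻¹ * (n⁻¹ * a * n)⁻¹)⁻¹ := by group
      rw [e]
      exact inv_mem h4

theorem mem_stab {n : G} : n ∈ stab φ ↔ n ∈ normalizer (SA φ : Set G) ∧
    (∀ z ∈ SZ φ, n * z * n⁻¹ = z) ∧ ∀ a ∈ SA φ, n * a * n⁻¹ * a⁻¹ ∈ SZ φ :=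
  Iff.rfl

omit [Finite G] in
theorem centralizer_le_normalizer' (H : Subgroup G) :
    centralizer (H : Set G) ≤ normalizer (H : Set G) := by
  intro c hc
  refine mem_normalizer_iff.2 fun x => ⟨fun hx => ?_, fun hx => ?_⟩
  · rw [← mem_centralizer_iff.1 hc x hx]
    simpa using hx
  · have h := mem_centralizer_iff.1 hc _ hx
    have e : x = c * x * c⁻¹ := by
      calc x = c⁻¹ * (c * x * c⁻¹ * c) := by group
        _ = c⁻¹ * (c * (c * x * c⁻¹)) := by rw [h]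
        _ = c * x * c⁻¹ := by group
    rwa [e]

variable (hS : Setup S φ) (hF : Facts S φ)
include hS hF

theorem centralizer_le_stab : centralizer (SA φ : Set G) ≤ stab φ := by
  intro c hc
  have hfix : ∀ x ∈ SA φ, c * x * c⁻¹ = x := fun x hx => by
    rw [← mem_centralizer_iff.1 hc x hx]
    group
  refine mem_stab.2 ⟨centralizer_le_normalizer' _ hc, fun z hz => hfix z (hF.Z_le_A hz),
    fun a ha => ?_⟩
  rw [hfix a ha, mul_inv_cancel]
  exact one_mem _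

theorem sylow_le_stab : (S : Subgroup G) ≤ stab φ := by
  intro s hs
  refine mem_stab.2 ⟨hF.norm_A (Subgroup.le_normalizer hs), fun z hz => ?_, fun a ha => ?_⟩
  · obtain ⟨c, rfl⟩ := hS.mem_SZ.1 hz
    obtain ⟨x, y, w, rfl⟩ := hS.surj s hs
    rw [hS.conj]
    simp
  · obtain ⟨p, q, rfl⟩ := hS.mem_SA.1 ha
    obtain ⟨x, y, w, rfl⟩ := hS.surj s hs
    rw [hS.conj, hS.inv, hS.mul]
    exact hS.mem_SZ.2 ⟨_, by simp [f4_char]; rfl⟩

theorem stab_conj (hsA : Small φ) {n : G} (hn : n ∈ normalizer (SA φ : Set G)) {k : G}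
    (hk : k ∈ stab φ) : n * k * n⁻¹ ∈ stab φ := by
  obtain ⟨h1, h2, h3⟩ := mem_stab.1 hk
  have hnZ := hsA hn
  refine mem_stab.2 ⟨mul_mem (mul_mem hn h1) (inv_mem hn), fun z hz => ?_, fun a ha => ?_⟩
  · have hz' : n⁻¹ * z * n ∈ SZ φ := by
      simpa using ((mem_normalizer_iff.1 (inv_mem hnZ)) z).1 hz
    calc n * k * n⁻¹ * z * (n * k * n⁻¹)⁻¹ = n * (k * (n⁻¹ * z * n) * k⁻¹) * n⁻¹ := by group
      _ = z := by rw [h2 _ hz']; group
  · have ha' : n⁻¹ * a * n ∈ SA φ := by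
      simpa using ((mem_normalizer_iff.1 (inv_mem hn)) a).1 ha
    have e : n * k * n⁻¹ * a * (n * k * n⁻¹)⁻¹ * a⁻¹ =
        n * (k * (n⁻¹ * a * n) * k⁻¹ * (n⁻¹ * a * n)⁻¹) * n⁻¹ := by group
    rw [e]
    exact ((mem_normalizer_iff.1 hnZ) _).1 (h3 _ ha')

theorem sq_mem_centralizer {k : G} (hk : k ∈ stab φ) : k * k ∈ centralizer (SA φ : Set G) := by
  obtain ⟨-, h2, h3⟩ := mem_stab.1 hk
  refine mem_centralizer_iff.2 fun a ha => ?_
  set z := k * a * k⁻¹ * a⁻¹ with hz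
  have hzz : z * z = 1 := by
    rw [← sq]
    exact hF.elem_A.2 z (hF.Z_le_A (h3 a ha))
  have e : k * k * a * (k * k)⁻¹ = a := by
    calc k * k * a * (k * k)⁻¹ = (k * z * k⁻¹) * (k * a * k⁻¹ * a⁻¹) * a := by rw [hz]; group
      _ = a := by rw [← hz, h2 z (h3 a ha), hzz, one_mul]
  conv_lhs => rw [← e]
  group

theorem stab_le_sup : stab φ ≤ centralizer (SA φ : Set G) ⊔ (S : Subgroup G) := by
  haveI : Fact (Nat.Prime 2) := ⟨Nat.prime_two⟩
  set C := centralizer (SA φ : Set G) with hC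
  have hCK : C ≤ stab φ := centralizer_le_stab hS hF
  haveI : (C.subgroupOf (stab φ)).Normal := by
    refine (normal_subgroupOf_iff_le_normalizer hCK).2 (Components.le_normalizer_of_conj_mem
      fun n hn c hc => mem_centralizer_iff.2 fun a ha => ?_)
    obtain ⟨h1, -, -⟩ := mem_stab.1 hn
    have ha' : n⁻¹ * a * n ∈ SA φ := by
      simpa using ((mem_normalizer_iff.1 (inv_mem h1)) a).1 ha
    calc a * (n * c * n⁻¹) = n * ((n⁻¹ * a * n) * c) * n⁻¹ := by group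
      _ = n * (c * (n⁻¹ * a * n)) * n⁻¹ := by rw [mem_centralizer_iff.1 hc _ ha']
      _ = n * c * n⁻¹ * a := by group
  have h1 : IsPGroup 2 (↥(stab φ) ⧸ C.subgroupOf (stab φ)) := by
    intro q
    obtain ⟨x, rfl⟩ := QuotientGroup.mk_surjective q
    refine ⟨1, ?_⟩
    rw [pow_one, sq, ← QuotientGroup.mk_mul, QuotientGroup.eq_one_iff, mem_subgroupOf]
    exact sq_mem_centralizer hS hF x.2
  obtain ⟨n, hn⟩ := IsPGroup.iff_card.1 h1
  have hd1 : (C ⊔ (S : Subgroup G)).relIndex (stab φ) ∣ 2 ^ n := by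
    rw [← hn, ← index_eq_card]
    exact relIndex_dvd_of_le_left _ le_sup_left
  have hd2 : (C ⊔ (S : Subgroup G)).relIndex (stab φ) ∣ (S : Subgroup G).index :=
    (relIndex_dvd_of_le_left _ le_sup_right).trans (relIndex_dvd_index_of_le (sylow_le_stab hS hF))
  have hco : Nat.Coprime (2 ^ n) (S : Subgroup G).index :=
    Nat.Coprime.pow_left n ((Nat.prime_two.coprime_iff_not_dvd).2 S.not_dvd_index)
  exact relIndex_eq_one.1 (Nat.dvd_one.1 (hco ▸ Nat.dvd_gcd hd1 hd2))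

theorem exists_decomp (hsA : Small φ) {n : G} (hn : n ∈ normalizer (SA φ : Set G)) :
    ∃ c ∈ centralizer (SA φ : Set G), ∃ k ∈ normalizer (S : Set G), n = c * k := by
  haveI : Fact (Nat.Prime 2) := ⟨Nat.prime_two⟩
  have hnS : ((n • S : Sylow 2 G) : Subgroup G) ≤ stab φ := by
    intro x hx
    rw [Transfer.mem_coe_smul_sylow_iff] at hx
    have := stab_conj hS hF hsA hn (sylow_le_stab hS hF hx)
    rwa [show n * (n⁻¹ * x * n) * n⁻¹ = x by group] at this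
  obtain ⟨j, hj, hjS⟩ := Transfer.exists_smul_eq_of_le (n • S) S hnS (sylow_le_stab hS hF)
  rw [smul_smul] at hjS
  have hk0 : j * n ∈ normalizer (S : Set G) := Sylow.smul_eq_iff_mem_normalizer.1 hjS
  have hSN : (S : Subgroup G) ≤ normalizer (centralizer (SA φ : Set G) : Set G) := by
    refine Components.le_normalizer_of_conj_mem fun s hs c hc => mem_centralizer_iff.2 fun a ha => ?_
    have ha' : s⁻¹ * a * s ∈ SA φ := by
      simpa using ((mem_normalizer_iff.1 (inv_mem (hF.norm_A (Subgroup.le_normalizer hs)))) a).1 ha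
    calc a * (s * c * s⁻¹) = s * ((s⁻¹ * a * s) * c) * s⁻¹ := by group
      _ = s * (c * (s⁻¹ * a * s)) * s⁻¹ := by rw [mem_centralizer_iff.1 hc _ ha']
      _ = s * c * s⁻¹ * a := by group
  have hmem : j⁻¹ ∈ centralizer (SA φ : Set G) ⊔ (S : Subgroup G) :=
    stab_le_sup hS hF (inv_mem hj)
  rw [← SetLike.mem_coe, coe_mul_of_right_le_normalizer_left _ _ hSN, Set.mem_mul] at hmem
  obtain ⟨c, hc, s, hs, hcs⟩ := hmem
  refine ⟨c, hc, s * (j * n), mul_mem (Subgroup.le_normalizer hs) hk0, ?_⟩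
  rw [← mul_assoc, hcs]
  group

theorem scal_apply {k : G} {l m : F4} (hk : Scal φ k l m) (a b : F4) :
    ∃ d, ∀ c, cj k (φ a b c) = φ (l * a) (m * b) (d + l * m * c) := by
  obtain ⟨-, -, h1, h2⟩ := hk
  obtain ⟨d, hd⟩ := h1 a b
  refine ⟨d, fun c => ?_⟩
  have hz := h2 c
  simp only [cj] at hd hz ⊢
  rw [hS.split a b c, show k * (φ a b 0 * φ 0 0 c) * k⁻¹ = k * φ a b 0 * k⁻¹ * (k * φ 0 0 c * k⁻¹) by
    group, hd, hz, hS.mul]
  simp

/-- In `N(A) ∩ C(t)` only `C(A)` fixes a nontrivial element of the centre. -/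
theorem mem_centralizer_of_fix (hsA : Small φ) {t n : G} (ht : t ∈ SA φ) (htZ : t ∉ SZ φ)
    (hn : n ∈ normalizer (SA φ : Set G)) (hnt : n ∈ cz t) (hfix : cj n (φ 0 0 1) = φ 0 0 1) :
    n ∈ centralizer (SA φ : Set G) := by
  obtain ⟨c, hc, k, hk, rfl⟩ := exists_decomp hS hF hsA hn
  have hca : ∀ x ∈ SA φ, c⁻¹ * x * c = x := fun x hx => by
    rw [mul_assoc, mem_centralizer_iff.1 hc x hx]
    group
  have hkA := hF.norm_A hk
  have hkfix : ∀ x ∈ SA φ, cj (c * k) x = x → cj k x = x := by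
    intro x hx e
    calc cj k x = c⁻¹ * cj (c * k) x * c := by simp only [cj]; group
      _ = x := by rw [e]; exact hca x hx
  have hkt : cj k t = t := by
    refine hkfix t ht ?_
    simp only [cj]
    rw [mem_centralizer_singleton_iff.1 hnt]
    group
  have hkz : cj k (φ 0 0 1) = φ 0 0 1 := hkfix _ (hS.mem_SA.2 ⟨0, 1, rfl⟩) hfix
  obtain ⟨l, m, hsc⟩ := hF.scal k hk
  obtain ⟨p, q, rfl⟩ := hS.mem_SA.1 ht
  have hp : p ≠ 0 := fun h => htZ (hS.mem_SZ.2 ⟨q, by rw [h]⟩)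
  obtain ⟨d, hd⟩ := scal_apply hS hF hsc p 0
  have hl : l = 1 := by
    have := (hS.inj _ _ _ _ _ _ ((hd q).symm.trans hkt)).1
    exact (mul_eq_right₀ hp).1 this
  have hm : m = 1 := by
    have h2 := (hsc.2.2.2 1).symm.trans hkz
    have := (hS.inj _ _ _ _ _ _ h2).2.2
    rwa [hl, one_mul, mul_one] at this
  subst hl hm
  have hk' : k ∈ stab φ := by
    refine mem_stab.2 ⟨hkA, fun z hz => ?_, fun a ha => ?_⟩
    · obtain ⟨w, rfl⟩ := hS.mem_SZ.1 hz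
      have := hsc.2.2.2 w
      rwa [one_mul, one_mul] at this
    · obtain ⟨x, w, rfl⟩ := hS.mem_SA.1 ha
      obtain ⟨d', hd'⟩ := scal_apply hS hF hsc x 0
      have := hd' w
      simp only [cj] at this
      rw [this, hS.inv, hS.mul]
      exact hS.mem_SZ.2 ⟨_, by simp [f4_char]; rfl⟩
  have hSN : (S : Subgroup G) ≤ normalizer (centralizer (SA φ : Set G) : Set G) := by
    refine Components.le_normalizer_of_conj_mem fun s hs c hc => mem_centralizer_iff.2 fun a ha => ?_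
    have ha' : s⁻¹ * a * s ∈ SA φ := by
      simpa using ((mem_normalizer_iff.1 (inv_mem (hF.norm_A (Subgroup.le_normalizer hs)))) a).1 ha
    calc a * (s * c * s⁻¹) = s * ((s⁻¹ * a * s) * c) * s⁻¹ := by group
      _ = s * (c * (s⁻¹ * a * s)) * s⁻¹ := by rw [mem_centralizer_iff.1 hc _ ha']
      _ = s * c * s⁻¹ * a := by group
  have hmem := stab_le_sup hS hF hk'
  rw [← SetLike.mem_coe, coe_mul_of_right_le_normalizer_left _ _ hSN, Set.mem_mul] at hmem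
  obtain ⟨c', hc', s, hs, rfl⟩ := hmem
  have hst : s ∈ cz (φ p 0 q) := by
    refine mem_centralizer_singleton_iff.2 ?_
    have hA : φ p 0 q ∈ SA φ := hS.mem_SA.2 ⟨p, q, rfl⟩
    have h1 : s * φ p 0 q * s⁻¹ = φ p 0 q := by
      calc s * φ p 0 q * s⁻¹ = c'⁻¹ * cj (c' * s) (φ p 0 q) * c' := by simp only [cj]; group
        _ = φ p 0 q := by
          rw [hkt, mul_assoc, mem_centralizer_iff.1 hc' _ hA]
          group
    calc s * φ p 0 q = s * φ p 0 q * s⁻¹ * s := by group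
      _ = φ p 0 q * s := by rw [h1]
  have hsA' : s ∈ SA φ := by
    rw [← hF.cent_A _ (hS.mem_SA.2 ⟨p, q, rfl⟩) htZ]
    exact ⟨hs, hst⟩
  refine mul_mem hc (mul_mem hc' (mem_centralizer_iff.2 fun a ha => ?_))
  haveI := hF.elem_A.1
  exact congrArg Subtype.val (mul_comm' (⟨a, ha⟩ : SA φ) ⟨s, hsA'⟩)

omit hF in
/-- A witness of `HasMu` may be chosen fixing `t`. -/
theorem exists_mu_cent {t : G} (ht : t ∈ SA φ) (htZ : t ∉ SZ φ) (hF' : Facts S φ)
    (hmu : HasMu S φ) :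
    ∃ k ∈ normalizer (S : Set G), k ∈ cz t ∧ ∃ m, m ≠ 1 ∧ Scal φ k 1 m := by
  obtain ⟨h, hh, m, hm, hsc⟩ := hmu
  obtain ⟨p, q, rfl⟩ := hS.mem_SA.1 ht
  have hp : p ≠ 0 := fun h0 => htZ (hS.mem_SZ.2 ⟨q, by rw [h0]⟩)
  obtain ⟨d, hd⟩ := scal_apply hS hF' hsc p 0
  have key : ∀ p w q : F4, p ≠ 0 → ∃ y, w + p * y = q := by decide
  obtain ⟨y, hy⟩ := key p (d + 1 * m * q) q hp
  have hcs : ∀ a b c, cj (φ 0 y 0) (φ a b c) = φ a b (c + a * y) := fun a b c => by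
    simp only [cj, hS.conj]
    simp
  refine ⟨φ 0 y 0 * h, mul_mem (Subgroup.le_normalizer (hS.mem ..)) hh, ?_, m, hm,
    one_ne_zero, hsc.2.1, fun a b => ?_, fun c => ?_⟩
  · refine mem_centralizer_singleton_iff.2 ?_
    have e : cj (φ 0 y 0 * h) (φ p 0 q) = φ p 0 q := by
      rw [show cj (φ 0 y 0 * h) (φ p 0 q) = cj (φ 0 y 0) (cj h (φ p 0 q)) by simp only [cj]; group,
        hd q, hcs, one_mul, hy, mul_zero]
    calc φ 0 y 0 * h * φ p 0 q = cj (φ 0 y 0 * h) (φ p 0 q) * (φ 0 y 0 * h) := by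
          simp only [cj]; group
      _ = φ p 0 q * (φ 0 y 0 * h) := by rw [e]
  · obtain ⟨c', hc'⟩ := hsc.2.2.1 a b
    exact ⟨_, by
      rw [show cj (φ 0 y 0 * h) (φ a b 0) = cj (φ 0 y 0) (cj h (φ a b 0)) by simp only [cj]; group,
        hc', hcs]⟩
  · rw [show cj (φ 0 y 0 * h) (φ 0 0 c) = cj (φ 0 y 0) (cj h (φ 0 0 c)) by simp only [cj]; group,
      hsc.2.2.2 c, hcs]
    simp

/-- An element of `N(A) ∩ C(t)` outside `C(A)` gives a witness of `HasMu` in `C(t)`. -/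
theorem exists_mu_of_normalizer (hsA : Small φ) {t n : G} (ht : t ∈ SA φ) (htZ : t ∉ SZ φ)
    (hn : n ∈ normalizer (SA φ : Set G)) (hnt : n ∈ cz t) (hnA : n ∉ centralizer (SA φ : Set G)) :
    ∃ k ∈ normalizer (S : Set G), k ∈ cz t ∧ ∃ m, m ≠ 1 ∧ Scal φ k 1 m := by
  obtain ⟨c, hc, k, hk, rfl⟩ := exists_decomp hS hF hsA hn
  have hct : c ∈ cz t := centralizer_le (Set.singleton_subset_iff.2 ht) hc
  have hkt : k ∈ cz t := by
    have := mul_mem (inv_mem hct) hnt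
    rwa [inv_mul_cancel_left] at this
  obtain ⟨l, m, hsc⟩ := hF.scal k hk
  obtain ⟨p, q, rfl⟩ := hS.mem_SA.1 ht
  have hp : p ≠ 0 := fun h0 => htZ (hS.mem_SZ.2 ⟨q, by rw [h0]⟩)
  obtain ⟨d, hd⟩ := scal_apply hS hF hsc p 0
  have hfix : cj k (φ p 0 q) = φ p 0 q := by
    simp only [cj]
    rw [mem_centralizer_singleton_iff.1 hkt]
    group
  have hl : l = 1 := (mul_eq_right₀ hp).1 (hS.inj _ _ _ _ _ _ ((hd q).symm.trans hfix)).1
  subst hl
  refine ⟨k, hk, hkt, m, fun hm => ?_, hsc⟩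
  subst hm
  refine hnA (mul_mem hc (mem_centralizer_of_fix hS hF hsA ht htZ (hF.norm_A hk) hkt ?_))
  rw [hsc.2.2.2 1, one_mul, one_mul]

/-- An element of order three modulo `C(A)` fixes the same elements of `A` as `N(A) ∩ C(t)`. -/
theorem fix_of_mu (hsA : Small φ) {t k n a : G} (ht : t ∈ SA φ) (htZ : t ∉ SZ φ)
    (hk : k ∈ normalizer (S : Set G)) (hkt : k ∈ cz t) {m : F4} (hm : m ≠ 1)
    (hsc : Scal φ k 1 m) (ha : a ∈ SA φ) (hka : k * a * k⁻¹ = a)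
    (hn : n ∈ normalizer (SA φ : Set G)) (hnt : n ∈ cz t) : n * a * n⁻¹ = a := by
  have hkA := hF.norm_A hk
  have hz1 : φ 0 0 1 ∈ SZ φ := hS.mem_SZ.2 ⟨1, rfl⟩
  obtain ⟨x, hx⟩ := hS.mem_SZ.1 (((mem_normalizer_iff.1 (hsA hn)) _).1 hz1)
  have hx0 : x ≠ 0 := by
    rintro rfl
    rw [hS.one, eq_comm, conj_eq_one_iff, hS.eq_one_iff] at hx
    exact one_ne_zero hx.2.2
  have hkz : ∀ c, k * φ 0 0 c * k⁻¹ = φ 0 0 (m * c) := fun c => by
    have := hsc.2.2.2 c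
    rwa [one_mul] at this
  have hpow : ∃ i : ℕ, k ^ i * φ 0 0 1 * (k ^ i)⁻¹ = φ 0 0 x := by
    have key : ∀ m x : F4, m ≠ 0 → m ≠ 1 → x ≠ 0 → x = 1 ∨ x = m ∨ x = m * m := by decide
    rcases key m x hsc.2.1 hm hx0 with rfl | rfl | rfl
    · exact ⟨0, by simp⟩
    · refine ⟨1, ?_⟩
      rw [pow_one, hkz, mul_one]
    · refine ⟨2, ?_⟩
      calc k ^ 2 * φ 0 0 1 * (k ^ 2)⁻¹ = k * (k * φ 0 0 1 * k⁻¹) * k⁻¹ := by rw [sq]; group
        _ = φ 0 0 (m * m) := by rw [hkz, hkz, mul_one]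
  obtain ⟨i, hi⟩ := hpow
  have hc : (k ^ i)⁻¹ * n ∈ centralizer (SA φ : Set G) := by
    refine mem_centralizer_of_fix hS hF hsA ht htZ (mul_mem (inv_mem (pow_mem hkA i)) hn)
      (mul_mem (inv_mem (pow_mem hkt i)) hnt) ?_
    simp only [cj]
    calc (k ^ i)⁻¹ * n * φ 0 0 1 * ((k ^ i)⁻¹ * n)⁻¹ =
        (k ^ i)⁻¹ * (n * φ 0 0 1 * n⁻¹) * k ^ i := by group
      _ = φ 0 0 1 := by rw [← hx, ← hi]; group
  have hki : Commute (k ^ i) a := Commute.pow_left (by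
    calc k * a = k * a * k⁻¹ * k := by group
      _ = a * k := by rw [hka]) i
  have h1 : (k ^ i)⁻¹ * n * a * ((k ^ i)⁻¹ * n)⁻¹ = a := by
    rw [← mem_centralizer_iff.1 hc a ha]
    group
  calc n * a * n⁻¹ = k ^ i * ((k ^ i)⁻¹ * n * a * ((k ^ i)⁻¹ * n)⁻¹) * (k ^ i)⁻¹ := by group
    _ = a := by rw [h1, hki.eq]; group

end CentT

end CfsgLib.L34Sylow
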