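import Cfsg.Agent.Lib.L34Sylow.Fusion
import Cfsg.Agent.Lib.Base.Cores

/-!
# The elementary facts
-/

set_option autoImplicit false
set_option linter.style.haveILetI false
set_option linter.unusedSectionVars false

namespace CfsgLib.L34Sylow

open Cfsg Subgroup

universe u

/-- Multiplicative self-maps of the field of four elements fixing `1` without a zero. -/
theorem f4_mul_maps : ∀ σ : F4 → F4, σ 1 = 1 → (∀ x, σ x = 1 → x = 1) → σ 0 = 0 →
    (∀ x y, σ (x * y) = σ x * σ y) → (∀ x, σ x = x) ∨ (∀ x, σ x = x * x) := by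
  intro σ h1 hi h0 hm
  let ω : F4 := ⟨2⟩
  have hx : ∀ x : F4, x = 0 ∨ x = 1 ∨ x = ω ∨ x = ω * ω := by decide
  have hw : σ ω ≠ 1 := fun e => absurd (hi ω e) (by decide)
  have h3 : σ ω * σ ω * σ ω = 1 := by rw [← hm, ← hm, show ω * ω * ω = (1 : F4) by decide, h1]
  have key : ∀ w : F4, w ≠ 1 → w * w * w = 1 → w = ω ∨ w = ω * ω := by decide
  rcases key _ hw h3 with e | e
  · left
    intro x
    rcases hx x with rfl | rfl | rfl | rfl
    exacts [h0, h1, e, by rw [hm, e]]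
  · right
    intro x
    rcases hx x with rfl | rfl | rfl | rfl
    exacts [by rw [h0, mul_zero], by rw [h1, mul_one], e, by rw [hm, e]]

theorem f4_cube : ∀ x : F4, x ≠ 0 → x * x * x = 1 := by decide

variable {G : Type u} [Group G] [Finite G] {S : Sylow 2 G} {φ : F4 → F4 → F4 → G}

theorem Setup.scal (h : Setup S φ) : ∀ n ∈ normalizer (S : Set G), ∃ l m, Scal φ n l m := by
  intro n hn
  have hA : ∀ a, ∃ a' c', cj n (φ a 0 0) = φ a' 0 c' := fun a => by
    obtain ⟨a', c', e⟩ := h.mem_SA.1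
      ((mem_normalizer_iff.1 (h.norm_SA hn) _).1 (h.mem_SA.2 ⟨a, 0, rfl⟩))
    exact ⟨a', c', e.symm⟩
  have hB : ∀ b, ∃ b' c', cj n (φ 0 b 0) = φ 0 b' c' := fun b => by
    obtain ⟨b', c', e⟩ := h.mem_SB.1
      ((mem_normalizer_iff.1 (h.norm_SB hn) _).1 (h.mem_SB.2 ⟨b, 0, rfl⟩))
    exact ⟨b', c', e.symm⟩
  have hZ : ∀ c, ∃ c', cj n (φ 0 0 c) = φ 0 0 c' := fun c => by
    obtain ⟨c', e⟩ := h.mem_SZ.1
      ((mem_normalizer_iff.1 (h.norm_SZ hn) _).1 (h.mem_SZ.2 ⟨c, rfl⟩))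
    exact ⟨c', e.symm⟩
  choose α ρ hα using hA
  choose β τ hβ using hB
  choose γ hγ using hZ
  have hadd : ∀ c c', γ (c + c') = γ c + γ c' := by
    intro c c'
    have e : cj n (φ 0 0 (c + c')) = cj n (φ 0 0 c) * cj n (φ 0 0 c') := by
      rw [show φ 0 0 (c + c') = φ 0 0 c * φ 0 0 c' by rw [h.mul]; simp]
      simp [cj, mul_assoc]
    rw [hγ, hγ, hγ, h.mul] at e
    simpa using (h.inj _ _ _ _ _ _ e).2.2
  have hinjγ : ∀ c, γ c = 0 → c = 0 := by
    intro c hc
    have e := hγ c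
    rw [hc, h.one, cj, conj_eq_one_iff] at e
    exact (h.eq_one_iff.1 e).2.2
  have hmul : ∀ a b, γ (a * b) = α a * β b := by
    intro a b
    have e0 : φ 0 0 (a * b) = φ a 0 0 * φ 0 b 0 * (φ a 0 0)⁻¹ * (φ 0 b 0)⁻¹ := by
      rw [h.conj, h.inv, h.mul]
      simp [f4_char]
    have e : cj n (φ 0 0 (a * b)) =
        cj n (φ a 0 0) * cj n (φ 0 b 0) * (cj n (φ a 0 0))⁻¹ * (cj n (φ 0 b 0))⁻¹ := by
      rw [e0]; simp [cj, mul_assoc]
    rw [hγ, hα, hβ, h.conj, h.inv, h.mul] at e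
    simp only [zero_mul, mul_zero, add_zero, f4_char] at e
    have h3 := (h.inj _ _ _ _ _ _ e).2.2
    rw [h3]
    have key : ∀ p q r : F4, p + r + (p + 0) = r := by decide
    have key2 : ∀ p r : F4, p + r + p = r := by decide
    simp only [key2]
  have hγ1 : γ 1 ≠ 0 := fun e => one_ne_zero (hinjγ 1 e)
  have hα1 : α 1 ≠ 0 := fun e => hγ1 (by rw [← one_mul (1 : F4), hmul, e, zero_mul])
  have hβ1 : β 1 ≠ 0 := fun e => hγ1 (by rw [← mul_one (1 : F4), hmul, e, mul_zero])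
  have hsq : ∀ a b, γ (a * b) * γ 1 = γ a * γ b := by
    intro a b
    have e1 := hmul a 1
    have e2 := hmul 1 b
    have e3 := hmul 1 1
    rw [mul_one] at e1
    rw [one_mul] at e2
    rw [mul_one] at e3
    rw [hmul a b, e1, e2, e3]
    ring
  obtain ⟨k, hk, hkS⟩ := exists_odd_pow_mem S hn
  have hpow : ∀ i : ℕ, ∀ c, cj (n ^ i) (φ 0 0 c) = φ 0 0 (γ^[i] c) := by
    intro i
    induction i with
    | zero => intro c; simp [cj]
    | succ i ih =>
      intro c
      rw [Function.iterate_succ_apply', ← hγ, ← ih]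
      simp only [cj, pow_succ']
      group
  have hid : ∀ c, γ^[k] c = c := by
    intro c
    obtain ⟨x, y, w, e⟩ := h.surj _ hkS
    have h1 := hpow k c
    rw [← e, cj, h.conj] at h1
    have h2 := (h.inj _ _ _ _ _ _ h1).2.2
    simpa using h2.symm
  have hlin : ∀ x, γ x = γ 1 * x := by
    let σ : F4 → F4 := fun x => γ x * (γ 1)⁻¹
    have hσ : ∀ x, γ x = γ 1 * σ x := fun x => by
      show γ x = γ 1 * (γ x * (γ 1)⁻¹)
      rw [mul_comm (γ x), mul_inv_cancel_left₀ hγ1]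
    have hγ0 : γ 0 = 0 := by simpa using hadd 0 0
    rcases f4_mul_maps σ (mul_inv_cancel₀ hγ1)
      (fun x e => by
        have h1 : γ (x + 1) = 0 := by rw [hadd, hσ x, e, mul_one, f4_char]
        have key : ∀ x : F4, x + 1 = 0 → x = 1 := by decide
        exact key x (hinjγ _ h1))
      (show γ 0 * (γ 1)⁻¹ = 0 by rw [hγ0, zero_mul])
      (fun x y => by
        show γ (x * y) * (γ 1)⁻¹ = γ x * (γ 1)⁻¹ * (γ y * (γ 1)⁻¹)
        field_simp
        linear_combination hsq x y) with e | e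
    · exact fun x => by rw [hσ, e]
    · -- an involutory permutation with an odd power the identity is the identity
      have h2 : ∀ c, γ (γ c) = c := fun c => by
        rw [hσ (γ c), e, hσ c, e]
        have key : ∀ p c : F4, p ≠ 0 → p * (p * (c * c) * (p * (c * c))) = c := by decide
        exact key _ _ hγ1
      have h3 : ∀ j c, γ^[2 * j] c = c := by
        intro j
        induction j with
        | zero => intro c; rfl
        | succ j ih =>
          intro c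
          rw [Nat.mul_succ, Function.iterate_add_apply]
          show γ^[2 * j] (γ (γ c)) = c
          rw [h2, ih]
      obtain ⟨j, rfl⟩ := hk
      have h4 : ∀ c, γ c = c := fun c => by
        have := hid c
        rw [show γ^[2 * j + 1] c = γ^[2 * j] (γ c) from rfl, h3] at this
        exact this
      intro x
      rw [h4 x, h4 1, one_mul]
  refine ⟨γ 1 * (β 1)⁻¹, γ 1 * (α 1)⁻¹, mul_ne_zero hγ1 (inv_ne_zero hβ1),
    mul_ne_zero hγ1 (inv_ne_zero hα1), fun a b => ?_, fun c => ?_⟩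
  · have ha : α a = γ 1 * (β 1)⁻¹ * a := by
      have e := hmul a 1
      rw [mul_one, hlin] at e
      field_simp
      linear_combination -e
    have hb : β b = γ 1 * (α 1)⁻¹ * b := by
      have e := hmul 1 b
      rw [one_mul, hlin] at e
      field_simp
      linear_combination -e
    refine ⟨ρ a + τ b + α a * β b + γ (a * b), ?_⟩
    rw [← ha, ← hb, show φ a b 0 = φ a 0 0 * φ 0 b 0 * φ 0 0 (a * b) by
      rw [h.mul, h.mul]; simp [f4_char],
      show cj n (φ a 0 0 * φ 0 b 0 * φ 0 0 (a * b)) =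
        cj n (φ a 0 0) * cj n (φ 0 b 0) * cj n (φ 0 0 (a * b)) by simp [cj, mul_assoc],
      hα, hβ, hγ, h.mul, h.mul]
    simp
  · rw [hγ, hlin]
    congr 1
    have e := hmul 1 1
    rw [mul_one] at e
    rw [e]
    field_simp

theorem cjS_mono' {K L : Subgroup G} (h : K ≤ L) (g : G) : cjS g K ≤ cjS g L := map_mono h

/-- The coordinates on `H/O(H)` for a subgroup `H` containing `S`. -/
theorem Setup.quot (h : Setup S φ) (H : Subgroup G) (hS : (S : Subgroup G) ≤ H) :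
    ∃ (S' : Sylow 2 (↥H ⧸ oddCore ↥H)) (φ' : F4 → F4 → F4 → ↥H ⧸ oddCore ↥H), Setup S' φ' ∧
      (∀ a b c, ∀ hm : φ a b c ∈ H, φ' a b c = QuotientGroup.mk ⟨φ a b c, hm⟩) ∧
      (Small φ → Small φ') ∧ (SmallB φ → SmallB φ') ∧
      (normalizer (SA φ : Set G) ≤ H → ¬ Small φ → ¬ Small φ') ∧
      (normalizer (SB φ : Set G) ≤ H → ¬ SmallB φ → ¬ SmallB φ') := by
  haveI : Fact (Nat.Prime 2) := ⟨Nat.prime_two⟩
  let q := QuotientGroup.mk' (oddCore ↥H)
  let SH : Sylow 2 ↥H := S.subtype hS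
  let S' : Sylow 2 (↥H ⧸ oddCore ↥H) := SH.mapSurjective (f := q) (QuotientGroup.mk'_surjective _)
  have hker : ∀ x : ↥H, (x : G) ∈ S → q x = 1 → x = 1 := by
    intro x hx hq
    have h1 : x ∈ oddCore ↥H := (QuotientGroup.eq_one_iff _).1 hq
    obtain ⟨k, hk⟩ := S.2 ⟨x, hx⟩
    have h2 : orderOf x ∣ 2 ^ k := orderOf_dvd_of_pow_eq_one (Subtype.ext (by
      simpa using congrArg Subtype.val hk))
    have h3 : (Nat.card ↥(oddCore ↥H)).Coprime 2 := Base.pPrimeCore_coprime 2 ↥H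
    exact orderOf_eq_one_iff.1 (Nat.eq_one_of_dvd_coprimes (h3.pow_right k)
      (Subgroup.orderOf_dvd_natCard _ h1) h2)
  let φ' : F4 → F4 → F4 → ↥H ⧸ oddCore ↥H := fun a b c => q ⟨φ a b c, hS (h.mem a b c)⟩
  have hset : Setup S' φ' := by
    refine ⟨fun a b c => ⟨⟨φ a b c, hS (h.mem a b c)⟩, h.mem a b c, rfl⟩, ?_, ?_, ?_,
      Base.pPrimeCore_quotient_pPrimeCore 2 ↥H⟩
    · rintro _ ⟨⟨x, hx⟩, hxS, rfl⟩
      obtain ⟨a, b, c, e⟩ := h.surj x hxS
      exact ⟨a, b, c, congrArg q (Subtype.ext e)⟩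
    · intro a b c a' b' c' e
      refine h.inj _ _ _ _ _ _ (inv_mul_eq_one.1 ?_)
      refine congrArg Subtype.val (hker
        ((⟨φ a b c, hS (h.mem a b c)⟩ : ↥H)⁻¹ * ⟨φ a' b' c', hS (h.mem a' b' c')⟩) ?_ ?_)
      · exact mul_mem (inv_mem (h.mem ..)) (h.mem ..)
      · rw [map_mul, map_inv, inv_mul_eq_one]; exact e
    · intro a b c a' b' c'
      show q _ * q _ = q _
      rw [← map_mul]
      exact congrArg q (Subtype.ext (h.mul ..))
  -- the statements for one side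
  have side : ∀ ψ : F4 → F4 → F4 → G, Setup S ψ →
      ∀ (ψ' : F4 → F4 → F4 → ↥H ⧸ oddCore ↥H), Setup S' ψ' →
      (∀ a b c, ∀ hm : ψ a b c ∈ H, ψ' a b c = q ⟨ψ a b c, hm⟩) →
      (Small ψ → Small ψ') ∧ (normalizer (SA ψ : Set G) ≤ H → ¬ Small ψ → ¬ Small ψ') := by
    intro ψ hψ ψ' hψ' hval
    have hAH : SA ψ ≤ H := hψ.SA_le.trans hS
    have hZH : SZ ψ ≤ H := hψ.SZ_le_SA.trans hAH
    have hA' : SA ψ' = ((SA ψ).subgroupOf H).map q := by
      ext y
      rw [hψ'.mem_SA]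
      constructor
      · rintro ⟨a, c, rfl⟩
        have hm : ψ a 0 c ∈ SA ψ := hψ.mem_SA.2 ⟨a, c, rfl⟩
        exact ⟨⟨_, hAH hm⟩, hm, (hval a 0 c (hAH hm)).symm⟩
      · rintro ⟨⟨x, hx⟩, hxA, rfl⟩
        obtain ⟨a, c, rfl⟩ := hψ.mem_SA.1 hxA
        exact ⟨a, c, hval a 0 c hx⟩
    have hZ' : SZ ψ' = ((SZ ψ).subgroupOf H).map q := by
      ext y
      rw [hψ'.mem_SZ]
      constructor
      · rintro ⟨c, rfl⟩
        have hm : ψ 0 0 c ∈ SZ ψ := hψ.mem_SZ.2 ⟨c, rfl⟩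
        exact ⟨⟨_, hZH hm⟩, hm, (hval 0 0 c (hZH hm)).symm⟩
      · rintro ⟨⟨x, hx⟩, hxZ, rfl⟩
        obtain ⟨c, rfl⟩ := hψ.mem_SZ.1 hxZ
        exact ⟨c, hval 0 0 c hx⟩
    refine ⟨fun hs n' hn' => ?_, fun hN hs hs' => hs fun n hn => ?_⟩
    · obtain ⟨m, rfl⟩ := QuotientGroup.mk'_surjective _ n'
      let K : Subgroup ↥H := (SA ψ).subgroupOf H ⊔ oddCore ↥H
      have hKq : ∀ x ∈ K, q x ∈ SA ψ' := by
        have : K ≤ (SA ψ').comap q := by
          refine sup_le (fun x hx => ?_) fun x hx => ?_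
          · exact hA' ▸ mem_map_of_mem q hx
          · show q x ∈ SA ψ'
            rw [show q x = 1 from (QuotientGroup.eq_one_iff _).2 hx]
            exact one_mem _
        exact this
      have hAp : IsPGroup 2 ((SA ψ).subgroupOf H) :=
        hψ.isPGroup_SA.comap_of_injective H.subtype H.subtype_injective
      have hmA : cjS m ((SA ψ).subgroupOf H) ≤ K := by
        rintro _ ⟨x, hx, rfl⟩
        have h1 : q (m * x * m⁻¹) ∈ SA ψ' := by
          rw [map_mul, map_mul, map_inv]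
          exact (mem_normalizer_iff.1 hn' _).1 (hA' ▸ mem_map_of_mem q hx)
        rw [hA'] at h1
        obtain ⟨y, hy, e⟩ := h1
        have h2 : y⁻¹ * (m * x * m⁻¹) ∈ oddCore ↥H := (QuotientGroup.eq).1 e
        show m * x * m⁻¹ ∈ K
        rw [show m * x * m⁻¹ = y * (y⁻¹ * (m * x * m⁻¹)) by group]
        exact mul_mem (mem_sup_left hy) (mem_sup_right h2)
      obtain ⟨c, hc, T, hTK, hT, hTg, hTA⟩ :=
        exists_common hmA le_sup_left (hAp.map _) hAp
      rw [cjS_cjS] at hTg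
      have hTcard : Nat.card T ≤ Nat.card ((SA ψ).subgroupOf H) := by
        obtain ⟨i, hi⟩ := IsPGroup.iff_card.1 hT
        obtain ⟨j, hj⟩ := IsPGroup.iff_card.1 hAp
        have h1 : Nat.card T ∣ Nat.card ((SA ψ).subgroupOf H) * Nat.card (oddCore ↥H) :=
          (Subgroup.card_dvd_of_le hTK).trans (Base.card_sup_dvd _ _)
        have hcop : (Nat.card T).Coprime (Nat.card (oddCore ↥H)) := by
          rw [hi]
          exact ((Base.pPrimeCore_coprime 2 ↥H).pow_right i).symm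
        exact Nat.le_of_dvd Nat.card_pos (hcop.dvd_of_dvd_mul_right h1)
      have e1 := eq_of_le_of_card_ge hTA hTcard
      have e2 := eq_of_le_of_card_ge hTg (by rw [card_cjS]; exact hTcard)
      have hnorm : ((c * m : ↥H) : G) ∈ normalizer (SA ψ : Set G) := by
        refine cjS_eq_iff.1 (eq_of_le_of_card_ge ?_ (by rw [card_cjS]))
        rintro _ ⟨x, hx, rfl⟩
        have h1 : cj (c * m) (⟨x, hAH hx⟩ : ↥H) ∈ (SA ψ).subgroupOf H :=
          e1.symm ▸ e2 ▸ cj_mem_cjS (show (⟨x, hAH hx⟩ : ↥H) ∈ (SA ψ).subgroupOf H from hx)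
        exact h1
      have hnZ := hs hnorm
      have hcA : q c ∈ SA ψ' := hKq c hc
      have hcm : q (c * m) ∈ normalizer (SZ ψ' : Set _) := by
        refine cjS_eq_iff.1 (eq_of_le_of_card_ge ?_ (by rw [card_cjS]))
        intro y hy
        obtain ⟨x, hx, rfl⟩ := hy
        rw [hZ'] at hx ⊢
        obtain ⟨z, hz, rfl⟩ := hx
        exact ⟨(c * m) * z * (c * m)⁻¹, (mem_normalizer_iff.1 hnZ _).1 hz, by
          simp [map_mul, mul_assoc]⟩
      have hcZ : q c ∈ normalizer (SZ ψ' : Set _) := by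
        refine le_normalizer.trans hψ'.norm_SZ ?_
        exact hψ'.SA_le hcA
      have := mul_mem (inv_mem hcZ) hcm
      rw [map_mul, inv_mul_cancel_left] at this
      exact this
    · have hnH := hN hn
      have h1 : q ⟨n, hnH⟩ ∈ normalizer (SA ψ' : Set _) := by
        refine cjS_eq_iff.1 (eq_of_le_of_card_ge ?_ (by rw [card_cjS]))
        intro y hy
        obtain ⟨x, hx, rfl⟩ := hy
        rw [hA'] at hx ⊢
        obtain ⟨z, hz, rfl⟩ := hx
        exact ⟨⟨n, hnH⟩ * z * (⟨n, hnH⟩ : ↥H)⁻¹, (mem_normalizer_iff.1 hn _).1 hz, by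
          simp [map_mul, mul_assoc]⟩
      refine cjS_eq_iff.1 (eq_of_le_of_card_ge ?_ (by rw [card_cjS]))
      rintro _ ⟨x, hx, rfl⟩
      have h2 : cj n x ∈ SA ψ := (mem_normalizer_iff.1 hn x).1 (hψ.SZ_le_SA hx)
      have h3 : q (⟨n, hnH⟩ * ⟨x, hZH hx⟩ * (⟨n, hnH⟩ : ↥H)⁻¹) ∈ SZ ψ' := by
        rw [map_mul, map_mul, map_inv]
        refine (mem_normalizer_iff.1 (hs' h1) _).1 ?_
        rw [hZ']
        exact mem_map_of_mem q (show (⟨x, hZH hx⟩ : ↥H) ∈ (SZ ψ).subgroupOf H from hx)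
      rw [hψ'.mem_SZ] at h3
      obtain ⟨c, hc⟩ := h3
      obtain ⟨a, c', hac⟩ := hψ.mem_SA.1 h2
      have h4 : ψ' a 0 c' = ψ' 0 0 c := by
        rw [hc, hval a 0 c' (hAH (hψ.mem_SA.2 ⟨a, c', rfl⟩))]
        exact congrArg q (Subtype.ext hac)
      obtain ⟨rfl, -, -⟩ := hψ'.inj _ _ _ _ _ _ h4
      exact hψ.mem_SZ.2 ⟨c', hac⟩
  obtain ⟨hA1, hA2⟩ := side φ h φ' hset fun a b c hm => rfl
  obtain ⟨hB1, hB2⟩ := side (L34Sylow.swap φ) h.swap (L34Sylow.swap φ') hset.swap fun a b c hm => rfl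
  refine ⟨S', φ', hset, fun a b c hm => rfl, hA1, fun e => ?_, hA2, fun e1 e2 e3 => ?_⟩
  · exact (small_swap φ').1 (hB1 ((small_swap φ).2 e))
  · exact hB2 (by rwa [SA_swap]) (fun e => e2 ((small_swap φ).1 e)) ((small_swap φ').2 e3)

theorem facts : StmtFacts.{u} := by
  intro G _ _ S φ h
  have hB : ∀ t ∈ SB φ, t ∈ SA (swap φ) := fun t ht => by rwa [SA_swap]
  have hZ : ∀ t, t ∉ SZ φ → t ∉ SZ (swap φ) := fun t ht => by rwa [SZ_swap]
  exact
  { mem_A := fun g => h.mem_SA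
    mem_B := fun g => h.mem_SB
    mem_Z := fun g => h.mem_SZ
    le_A := h.SA_le
    le_B := h.SB_le
    Z_le_A := h.SZ_le_SA
    Z_le_B := h.SZ_le_SB
    card_S := h.card_S
    card_A := h.card_SA
    card_B := h.card_SB
    card_Z := h.card_SZ
    elem_A := h.elem_SA
    elem_B := h.elem_SB
    center := h.center_eq
    invol := h.invol
    cent_A := h.cent_SA
    cent_B := h.cent_SB
    norm_A := h.norm_SA
    norm_B := h.norm_SB
    norm_Z := h.norm_SZ
    weak_A := fun g => h.weak_SA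
    weak_B := fun g hg => by
      have := h.swap.weak_SA (g := g) (by rw [SA_swap]; exact hg)
      rwa [SA_swap] at this
    fus_A := h.fus_SA
    fus_B := fun x hx g hg => by
      have := h.swap.fus_SA x (hB x hx) g (hB _ hg)
      rwa [SA_swap] at this
    fus_Z := h.fus_SZ
    exists_conj := h.exists_conj_invol
    scal := h.scal
    not_ztype_A := h.not_ztype_SA
    not_ztype_B := fun hs t ht ht' e =>
      h.swap.not_ztype_SA ((small_swap φ).2 hs) t (hB t ht) (hZ t ht') ((ztype_swap φ t).2 e)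
    two_part_A := h.two_part_SA
    two_part_B := fun t ht ht' e =>
      h.swap.two_part_SA t (hB t ht) (hZ t ht') fun e' => e ((ztype_swap φ t).1 e')
    not_conj_AB := h.not_conj_SA_SB
    quot := h.quot }

end CfsgLib.L34Sylow
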