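import Cfsg.Agent.Lib.L34Sylow.Fusion
import Cfsg.Agent.Lib.L34Sylow.FactsMain
import Cfsg.Agent.Lib.StrongTwoClasses.Tools
import Cfsg.Agent.Lib.Involutions.Isolated
import Cfsg.Agent.Lib.Involutions.ZStar.Main

/-!
# Abelian Sylow subgroups of order 16 and the centralisers of the central involutions
-/

set_option autoImplicit false
set_option linter.style.haveILetI false
set_option linter.unusedSectionVars false

namespace CfsgLib.L34Sylow

open Cfsg Subgroup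

universe u

/-- An elementary abelian Sylow subgroup whose automiser is fixed-point free and not transitive is
normal modulo the odd core. -/
theorem sylow_sup_oddCore_normal {M : Type u} [Group M] [Finite M] (T : Sylow 2 M)
    (he : IsElementaryAbelian 2 (T : Subgroup M)) (h8 : 8 ≤ Nat.card T)
    (hfix : ∀ n ∈ normalizer (T : Set M), ∀ x ∈ T, x ≠ 1 → n * x * n⁻¹ = x →
      n ∈ centralizer (T : Set M))
    (htwo : ∃ a ∈ T, ∃ c ∈ T, a ≠ 1 ∧ c ≠ 1 ∧
      ∀ n ∈ normalizer (T : Set M), n * a * n⁻¹ ≠ c) :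
    ((T : Subgroup M) ⊔ oddCore M).Normal := by
  haveI : Fact (Nat.Prime 2) := ⟨Nat.prime_two⟩
  haveI hTc : IsMulCommutative (T : Subgroup M) := he.1
  have hcomm : ∀ a ∈ T, ∀ b ∈ T, a * b = b * a := fun a ha b hb =>
    congrArg Subtype.val (mul_comm' (⟨a, ha⟩ : (T : Subgroup M)) ⟨b, hb⟩)
  have hyp : StrongTwoClasses.Hyp (T : Subgroup M) := by
    refine ⟨he, fun P hP hTP e he' g hg => T.is_maximal' hP hTP ▸ hg, ?_, ?_⟩
    · intro hd
      exact T.not_dvd_index (hd.trans (Subgroup.relIndex_dvd_index_of_le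
        (fun a ha => mem_centralizer_iff.2 fun b hb => hcomm b hb a ha)))
    · intro b hb hb1 g hg
      set C := centralizer ({b} : Set M) with hC
      have hTC : (T : Subgroup M) ≤ C := fun a ha => mem_centralizer_singleton_iff.2 (hcomm a ha b hb)
      let P : Sylow 2 C := T.subtype hTC
      have hP : normalizer ((P : Subgroup C) : Set C) ≤ centralizer ((P : Subgroup C) : Set C) := by
        intro n hn
        have hn' : (n : M) ∈ normalizer (T : Set M) := by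
          refine StrongTwoClasses.mem_normalizer_of_forall fun a ha => ?_
          exact (mem_normalizer_iff.1 hn ⟨a, hTC ha⟩).1 ha
        have h1 := hfix _ hn' b hb hb1
          (mul_inv_eq_iff_eq_mul.2 (mem_centralizer_singleton_iff.1 n.2))
        exact mem_centralizer_iff.2 fun p hp => Subtype.ext (mem_centralizer_iff.1 h1 p hp)
      let N := (MonoidHom.transferSylow P hP).ker
      have hN : N.IsComplement' (P : Subgroup C) := MonoidHom.ker_transferSylow_isComplement' P hP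
      have hNodd : Odd (Nat.card N) := by
        rw [← hN.index_eq_card, ← Nat.not_even_iff_odd, even_iff_two_dvd]
        exact P.not_dvd_index
      obtain ⟨⟨⟨o, ho⟩, ⟨f, hf⟩⟩, e⟩ := hN.2 ⟨g, hg⟩
      refine ⟨o, ⟨o, CfsgLib.Base.le_oddCore hNodd ho, rfl⟩, f,
        mem_inf.2 ⟨le_normalizer hf, f.2⟩, (congrArg Subtype.val e).symm⟩
  obtain ⟨a, ha, c, hc, ha1, hc1, hac⟩ := htwo
  refine hyp.normal_sup_oddCore h8 ⟨a, ha, c, hc, ha1, hc1, fun g hg => ?_⟩
  haveI : IsMulCommutative ↥(T : Subgroup M) := he.1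
  obtain ⟨n, hn, e⟩ := T.conj_eq_normalizer_conj_of_mem a g⁻¹ ha (by rw [inv_inv, hg]; exact hc)
  rw [inv_inv, hg] at e
  exact hac n⁻¹ (inv_mem hn) (by rw [inv_inv]; exact e.symm)

theorem ab : StmtAb.{u} := by
  intro M _ _ T he h16 hO h3 hfpf
  haveI : Fact (Nat.Prime 2) := ⟨Nat.prime_two⟩
  suffices h : ((T : Subgroup M) ⊔ oddCore M).Normal by rwa [hO, sup_bot_eq] at h
  obtain ⟨a, ha, ha1⟩ : ∃ a ∈ T, a ≠ 1 := by
    by_contra hne
    push Not at hne
    have : Nat.card (T : Subgroup M) = 1 := Subgroup.card_eq_one.2 ((eq_bot_iff_forall _).2 hne)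
    omega
  refine sylow_sup_oddCore_normal T he (by omega)
    (fun n hn x hx hx1 e => by_contra fun h => hx1 (hfpf n hn h x hx e)) ?_
  by_contra hall
  push Not at hall
  let N : Subgroup M := normalizer ((T : Subgroup M) : Set M)
  let C : Subgroup N := (centralizer ((T : Subgroup M) : Set M)).subgroupOf N
  have hwd : ∀ n n' : N, n⁻¹ * n' ∈ C → (n : M) * a * (n : M)⁻¹ = (n' : M) * a * (n' : M)⁻¹ := by
    intro n n' hnn
    obtain ⟨k, hk, rfl⟩ : ∃ k ∈ C, n' = n * k := ⟨n⁻¹ * n', hnn, (mul_inv_cancel_left _ _).symm⟩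
    have e : (k : M) * a * (k : M)⁻¹ = a :=
      mul_inv_eq_iff_eq_mul.2 (mem_centralizer_iff.1 hk a ha).symm
    rw [Subgroup.coe_mul, show (n : M) * k * a * ((n : M) * k)⁻¹ =
      (n : M) * ((k : M) * a * (k : M)⁻¹) * (n : M)⁻¹ by group, e]
  let f : N ⧸ C → M := Quotient.lift (fun n : N => (n : M) * a * (n : M)⁻¹)
    fun n n' e => hwd n n' (QuotientGroup.leftRel_apply.1 e)
  have hsub : ((T : Subgroup M) : Set M) \ {1} ⊆ Set.range f := by
    rintro x ⟨hx, hx1⟩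
    obtain ⟨n, hn, e⟩ := hall a ha x hx ha1 (by simpa using hx1)
    exact ⟨QuotientGroup.mk (⟨n, hn⟩ : N), e⟩
  have h1 : (Set.range f).ncard ≤ Nat.card (N ⧸ C) := by
    rw [← Nat.card_coe_set_eq]
    exact Nat.card_le_card_of_surjective _ Set.rangeFactorization_surjective
  have h2 : Nat.card (N ⧸ C) ≤ 3 := Nat.le_of_dvd (by norm_num) h3
  have h4 : (((T : Subgroup M) : Set M) \ {1}).ncard = 15 := by
    rw [Set.ncard_diff_singleton_of_mem (one_mem _), ← Nat.card_coe_set_eq]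
    exact congrArg (· - 1) h16
  have := Set.ncard_le_ncard hsub (Set.toFinite _)
  omega

variable {G : Type u} [Group G] [Finite G] {S : Sylow 2 G} {φ : F4 → F4 → F4 → G}

namespace Setup

variable (h : Setup S φ)
include h

omit [Finite G] in
theorem comm_SA {x y : G} (hx : x ∈ SA φ) (hy : y ∈ SA φ) : Commute x y := by
  haveI := h.elem_SA.1
  exact congrArg Subtype.val (IsMulCommutative.is_comm.comm (⟨x, hx⟩ : SA φ) ⟨y, hy⟩)

omit [Finite G] in
theorem commute_SZ {z s : G} (hz : z ∈ SZ φ) (hs : s ∈ S) : Commute s z := by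
  have := (h.center_eq ▸ hz : z ∈ (S : Subgroup G) ⊓ centralizer (S : Set G)).2
  exact mem_centralizer_iff.1 this s hs

omit [Finite G] in
theorem order_two_of_mem {x : G} (hx : x ∈ SA φ) (hx1 : x ≠ 1) : orderOf x = 2 :=
  orderOf_eq_prime (by rw [pow_two, h.sq_A hx]) hx1

omit [Finite G] in
theorem SZ_le_cz {z : G} (hz : z ∈ SZ φ) : (S : Subgroup G) ≤ cz z := fun _ hs =>
  mem_centralizer_singleton_iff.2 (h.commute_SZ hz hs).eq

/-- An element of `N(A)` fixing an involution of the centre normalises the centre. -/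
theorem norm_fix {z : G} (hz : z ∈ SZ φ) (hz1 : z ≠ 1) {k : G}
    (hkA : k ∈ normalizer (SA φ : Set G)) (hkz : cj k z = z) : k ∈ normalizer (SZ φ : Set G) := by
  haveI : Fact (Nat.Prime 2) := ⟨Nat.prime_two⟩
  obtain ⟨c₀, rfl⟩ := h.mem_SZ.1 hz
  refine cjS_eq_iff.1 (eq_of_le_of_card_ge ?_ (by rw [card_cjS]))
  rintro _ ⟨z', hz', rfl⟩
  obtain ⟨d, rfl⟩ := h.mem_SZ.1 hz'
  by_contra hqZ
  have hzA : φ 0 0 d ∈ SA φ := h.mem_SA.2 ⟨0, d, rfl⟩
  have hqA : cj k (φ 0 0 d) ∈ SA φ := (mem_normalizer_iff.1 hkA _).1 hzA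
  obtain ⟨a₀, c, hq⟩ := h.mem_SA.1 hqA
  have ha₀ : a₀ ≠ 0 := fun e => hqZ (h.mem_SZ.2 ⟨c, by subst e; exact hq⟩)
  have hyA : cj k⁻¹ (φ 0 0 d) ∈ SA φ := (mem_normalizer_iff.1 (inv_mem hkA) _).1 hzA
  obtain ⟨a₁, c₁, hy⟩ := h.mem_SA.1 hyA
  have hkz' : cj k⁻¹ (φ 0 0 c₀) = φ 0 0 c₀ := by
    conv_lhs => rw [← hkz]
    simp [cj, mul_assoc]
  have ha₁ : a₁ ≠ 0 := by
    rintro rfl
    -- otherwise `k` maps `φ 0 0 c₁` to `φ 0 0 d` and both `c₀, c₁` and `c₀, d` span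
    have hd : d ≠ 0 := fun e => hqZ (by
      subst e
      simp [cj, h.one])
    have hne : d ≠ c₀ := fun e => hqZ (by
      subst e
      show cj k _ ∈ _
      rw [hkz]
      exact hz)
    have hc1 : c₁ ≠ 0 := fun e => hd (by
      subst e
      rw [h.one, eq_comm, cj, conj_eq_one_iff] at hy
      exact (h.eq_one_iff.1 hy).2.2)
    have hc10 : c₁ ≠ c₀ := fun e => hne (by
      subst e
      have : cj k⁻¹ (φ 0 0 d) = cj k⁻¹ (φ 0 0 c₁) := by rw [← hy, hkz']
      exact (h.inj _ _ _ _ _ _ ((MulAut.conj k⁻¹).injective this)).2.2)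
    have key : ∀ d c₀ c₁ : F4, c₀ ≠ 0 → c₁ ≠ 0 → c₁ ≠ c₀ →
        d = 0 ∨ d = c₀ ∨ d = c₁ ∨ d = c₀ + c₁ := by decide
    have hc0 : c₀ ≠ 0 := fun e => hz1 (e ▸ h.one)
    have e1 : cj k (φ 0 0 c₁) = φ 0 0 d := by rw [hy]; simp [cj, mul_assoc]
    rcases key d c₀ c₁ hc0 hc1 hc10 with e | e | e | e
    · exact hd e
    · exact hne e
    · exact hqZ (by
        show cj k (φ 0 0 d) ∈ SZ φ
        rw [e] at e1 ⊢
        rw [e1]
        exact h.mem_SZ.2 ⟨c₁, rfl⟩)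
    · refine hqZ ?_
      show cj k (φ 0 0 d) ∈ SZ φ
      rw [e, show φ 0 0 (c₀ + c₁) = φ 0 0 c₀ * φ 0 0 c₁ by rw [h.mul]; simp,
        show cj k (φ 0 0 c₀ * φ 0 0 c₁) = cj k (φ 0 0 c₀) * cj k (φ 0 0 c₁) by simp [cj, mul_assoc],
        hkz, e1]
      exact mul_mem hz (h.mem_SZ.2 ⟨d, rfl⟩)
  set p := φ 0 0 d with hp
  set q := cj k p with hqd
  set z := φ 0 0 c₀ with hzd
  set b := φ 0 (c₀ * a₀⁻¹) 0 with hb
  set w := cj k (φ 0 (d * a₁⁻¹) 0) with hw
  set u := b * w with hu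
  have hbp : cj b p = p := by rw [hb, hp, cj, h.conj]; simp
  have hbz : cj b z = z := by rw [hb, hzd, cj, h.conj]; simp
  have hbq : cj b q = z * q := by
    rw [← hq, hb, hzd, cj, h.conj, h.mul]
    congr 1 <;> (try simp) <;> rw [mul_comm c₀, mul_inv_cancel_left₀ ha₀, add_comm]
  have hwz : cj w z = z := by
    have h1 : cj (φ 0 (d * a₁⁻¹) 0) z = z := by rw [hzd, cj, h.conj]; simp
    rw [hw]
    calc cj (cj k (φ 0 (d * a₁⁻¹) 0)) z = cj k (cj (φ 0 (d * a₁⁻¹) 0) (cj k⁻¹ z)) := by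
          simp [cj, mul_assoc]
      _ = z := by rw [hkz', h1, hkz]
  have hwq : cj w q = q := by
    have h1 : cj (φ 0 (d * a₁⁻¹) 0) p = p := by rw [hp, cj, h.conj]; simp
    rw [hw, hqd]
    calc cj (cj k (φ 0 (d * a₁⁻¹) 0)) (cj k p) = cj k (cj (φ 0 (d * a₁⁻¹) 0) p) := by
          simp [cj, mul_assoc]
      _ = cj k p := by rw [h1]
  have hwp : cj w p = q * p := by
    have h1 : cj (φ 0 (d * a₁⁻¹) 0) (cj k⁻¹ p) = p * cj k⁻¹ p := by
      rw [← hy, hp, cj, h.conj, h.mul]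
      congr 1 <;> (try simp) <;> rw [mul_comm d, mul_inv_cancel_left₀ ha₁, add_comm]
    rw [hw]
    calc cj (cj k (φ 0 (d * a₁⁻¹) 0)) p = cj k (cj (φ 0 (d * a₁⁻¹) 0) (cj k⁻¹ p)) := by
          simp [cj, mul_assoc]
      _ = cj k p * p := by rw [h1]; simp [cj, mul_assoc]
  have cjm : ∀ g x y : G, cj g (x * y) = cj g x * cj g y := fun g x y => by simp [cj, mul_assoc]
  have cjc : ∀ g g' x : G, cj (g * g') x = cj g (cj g' x) := fun g g' x => by simp [cj, mul_assoc]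
  have huz : cj u z = z := by rw [hu, cjc, hwz, hbz]
  have huq : cj u q = z * q := by rw [hu, cjc, hwq, hbq]
  have hup : cj u p = z * q * p := by rw [hu, cjc, hwp, cjm, hbq, hbp]
  have hqq : q * q = 1 := h.sq_A hqA
  have hzz : z * z = 1 := h.sq_A (h.SZ_le_SA hz)
  have hu2p : cj (u * u) p ≠ p := by
    rw [cjc, hup, cjm, cjm, huz, huq, hup]
    intro e
    have e2 : z * (z * q) * (z * q * p) = z * p := by
      calc z * (z * q) * (z * q * p) = (z * z) * (q * z) * q * p := by group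
        _ = (z * z) * (z * q) * q * p := by
          rw [(h.comm_SA hqA (h.SZ_le_SA hz)).eq]
        _ = z * (q * q) * p := by rw [hzz]; group
        _ = z * p := by rw [hqq, mul_one]
    rw [e2] at e
    exact hz1 (mul_eq_right.1 e)
  have hbS : b ∈ S := h.mem ..
  have hbA : b ∈ normalizer (SA φ : Set G) := h.S_le_norm_SA hbS
  have hwA : w ∈ normalizer (SA φ : Set G) :=
    mul_mem (mul_mem hkA (h.S_le_norm_SA (h.mem ..))) (inv_mem hkA)
  -- `u` stabilises a chain of `A`, so `u⁴` centralises `A`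
  have hch : ∀ x ∈ SA φ, ∃ e f i : Bool,
      cj u x = (if e then z else 1) * (if f then p else 1) * (if i then q else 1) * x := by
    intro x hx
    have hbx : ∀ y ∈ SA φ, ∃ t ∈ SZ φ, cj b y = t * y := by
      intro y hy'
      obtain ⟨a, c', rfl⟩ := h.mem_SA.1 hy'
      refine ⟨φ 0 0 (a * (c₀ * a₀⁻¹)), h.mem_SZ.2 ⟨_, rfl⟩, ?_⟩
      rw [hb, cj, h.conj, h.mul]
      congr 1 <;> simp [add_comm]
    have hyk : cj k⁻¹ x ∈ SA φ := (mem_normalizer_iff.1 (inv_mem hkA) _).1 hx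
    obtain ⟨a, c', hxa⟩ := h.mem_SA.1 hyk
    have hwx : cj w x = cj k (φ 0 0 (a * (d * a₁⁻¹))) * x := by
      rw [hw]
      calc cj (cj k (φ 0 (d * a₁⁻¹) 0)) x = cj k (cj (φ 0 (d * a₁⁻¹) 0) (cj k⁻¹ x)) := by
            simp [cj, mul_assoc]
        _ = cj k (φ 0 0 (a * (d * a₁⁻¹)) * cj k⁻¹ x) := by
            rw [← hxa, show cj (φ 0 (d * a₁⁻¹) 0) (φ a 0 c') =
              φ 0 0 (a * (d * a₁⁻¹)) * φ a 0 c' by
                rw [cj, h.conj, h.mul]; congr 1 <;> simp [add_comm]]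
        _ = _ := by simp [cj, mul_assoc]
    obtain ⟨t, ht, htx⟩ := hbx x hx
    have hd0 : d ≠ 0 := fun e => hqZ (by
      show cj k p ∈ SZ φ
      rw [hp, e, h.one]; simp [cj])
    have hdc : d ≠ c₀ := fun e => hqZ (by
      show cj k p ∈ SZ φ
      rw [hp, e, ← hzd, hkz]; exact hz)
    have hc0 : c₀ ≠ 0 := fun e => hz1 (by rw [hzd, e, h.one])
    have span : ∀ d c₀ r : F4, c₀ ≠ 0 → d ≠ 0 → d ≠ c₀ → ∃ e f : Bool,
        r = (if e then c₀ else 0) + (if f then d else 0) := by decide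
    have zval : ∀ r : F4, ∃ e f : Bool, φ 0 0 r = (if e then z else 1) * (if f then p else 1) := by
      intro r
      obtain ⟨e, f, rfl⟩ := span d c₀ r hc0 hd0 hdc
      refine ⟨e, f, ?_⟩
      cases e <;> cases f <;> simp [hzd, hp, h.mul, h.one]
    obtain ⟨c'', rfl⟩ := h.mem_SZ.1 ht
    obtain ⟨e₁, f₁, h1⟩ := zval c''
    obtain ⟨e₂, f₂, h2⟩ := zval (a * (d * a₁⁻¹))
    have hk2 : cj k (φ 0 0 (a * (d * a₁⁻¹))) = (if e₂ then z else 1) * (if f₂ then q else 1) := by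
      rw [h2, cjm]
      cases e₂ <;> cases f₂ <;> simp [hkz, hqd, cj]
    have hbk : cj b (cj k (φ 0 0 (a * (d * a₁⁻¹)))) =
        (if e₂ then z else 1) * (if f₂ then z * q else 1) := by
      rw [hk2, cjm]
      cases e₂ <;> cases f₂ <;> simp [hbz, hbq, cj]
    refine ⟨xor (xor e₁ e₂) f₂, f₁, f₂, ?_⟩
    rw [hu, cjc, hwx, cjm, htx, hbk, h1]
    have cA : ∀ x y : G, x ∈ SA φ → y ∈ SA φ → x * y = y * x := fun x y hx hy =>
      (h.comm_SA hx hy).eq
    have hzA' : z ∈ SA φ := h.SZ_le_SA hz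
    have c1 := cA p z hzA hzA'
    have c2 := cA q z hqA hzA'
    have c3 := cA q p hqA hzA
    have hzz' : ∀ y, z * (z * y) = y := fun y => by rw [← mul_assoc, hzz, one_mul]
    have c1' : ∀ y, p * (z * y) = z * (p * y) := fun y => by rw [← mul_assoc, c1, mul_assoc]
    have c2' : ∀ y, q * (z * y) = z * (q * y) := fun y => by rw [← mul_assoc, c2, mul_assoc]
    have c3' : ∀ y, q * (p * y) = p * (q * y) := fun y => by rw [← mul_assoc, c3, mul_assoc]
    cases e₁ <;> cases e₂ <;> cases f₁ <;> cases f₂ <;>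
      simp [mul_assoc, hzz, hzz', c1, c2, c3, c1', c2', c3']
  have hu4 : ∀ x ∈ SA φ, cj (u * u * (u * u)) x = x := by
    intro x hx
    obtain ⟨e, f, i, hx1⟩ := hch x hx
    have cA : ∀ x y : G, x ∈ SA φ → y ∈ SA φ → x * y = y * x := fun x y hx hy =>
      (h.comm_SA hx hy).eq
    have hzA' : z ∈ SA φ := h.SZ_le_SA hz
    have c1 := cA p z hzA hzA'
    have c2 := cA q z hqA hzA'
    have c3 := cA q p hqA hzA
    have hzz' : ∀ y, z * (z * y) = y := fun y => by rw [← mul_assoc, hzz, one_mul]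
    have hqq' : ∀ y, q * (q * y) = y := fun y => by rw [← mul_assoc, hqq, one_mul]
    have hpp : p * p = 1 := h.sq_A hzA
    have hpp' : ∀ y, p * (p * y) = y := fun y => by rw [← mul_assoc, hpp, one_mul]
    have c1' : ∀ y, p * (z * y) = z * (p * y) := fun y => by rw [← mul_assoc, c1, mul_assoc]
    have c2' : ∀ y, q * (z * y) = z * (q * y) := fun y => by rw [← mul_assoc, c2, mul_assoc]
    have c3' : ∀ y, q * (p * y) = p * (q * y) := fun y => by rw [← mul_assoc, c3, mul_assoc]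
    obtain ⟨U, hU⟩ : ∃ U : G → G, ∀ y, cj u y = U y := ⟨_, fun _ => rfl⟩
    rw [cjc (u * u) (u * u), cjc u u x, cjc u u, hU, hU, hU, hU]
    rw [hU] at hx1
    have Um : ∀ x y, U (x * y) = U x * U y := fun x y => by rw [← hU, ← hU, ← hU, cjm]
    have Uz : U z = z := (hU z).symm.trans huz
    have Uq : U q = z * q := (hU q).symm.trans huq
    have Up : U p = z * q * p := (hU p).symm.trans hup
    cases e <;> cases f <;> cases i <;>
      simp only [Bool.false_eq_true, if_false, if_true, one_mul, mul_one] at hx1 <;>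
      simp [hx1, Um, Uz, Uq, Up, mul_assoc, hzz, hzz', hqq, hqq', hpp, hpp', c1, c2, c3,
        c1', c2', c3']
  -- move the two-part of `u` into `S`
  let K : Subgroup G := normalizer ((SA φ : Subgroup G) : Set G) ⊓ cz z
  have hSK : (S : Subgroup G) ≤ K := le_inf h.S_le_norm_SA (h.SZ_le_cz hz)
  have huK : u ∈ K := ⟨mul_mem hbA hwA, mem_centralizer_singleton_iff.2
    (mul_inv_eq_iff_eq_mul.1 huz)⟩
  obtain ⟨e, o, ho, hord⟩ := Nat.exists_eq_two_pow_mul_odd (orderOf_pos u).ne'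
  have hp2 : IsPGroup 2 (zpowers (u ^ o)) := by
    refine IsPGroup.of_card (n := e) ?_
    rw [Nat.card_zpowers, orderOf_pow, hord, Nat.gcd_mul_left_left, Nat.mul_div_cancel _ ho.pos]
  obtain ⟨g, hg, T, -, hT, hTg, hTS⟩ :=
    exists_common (K := K) (X := zpowers (u ^ o)) (zpowers_le.2 (pow_mem huK o)) hSK hp2 S.2
  have hsS : cj g (u ^ o) ∈ S := by
    have hTe := S.is_maximal' hT hTS
    show cj g (u ^ o) ∈ (S : Subgroup G)
    exact hTe ▸ hTg (cj_mem_cjS (mem_zpowers _))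
  have hsq : cj g (u ^ o) * cj g (u ^ o) ∈ SZ φ := by
    obtain ⟨a, b', c', e'⟩ := h.surj _ hsS
    rw [← e', h.sq]
    exact h.mem_SZ.2 ⟨_, rfl⟩
  have hfix : cj (u ^ o * u ^ o) p = p := by
    have hgp : cj g p ∈ SA φ := (mem_normalizer_iff.1 hg.1 _).1 hzA
    have hc2 := h.comm_SA (h.SZ_le_SA hsq) hgp
    have e1 : cj (cj g (u ^ o) * cj g (u ^ o)) (cj g p) = cj g p :=
      mul_inv_eq_iff_eq_mul.2 hc2.eq
    have e2 : cj (cj g (u ^ o) * cj g (u ^ o)) (cj g p) = cj g (cj (u ^ o * u ^ o) p) := by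
      simp [cj, mul_assoc]
    rw [e2] at e1
    exact (MulAut.conj g).injective e1
  obtain ⟨j, rfl⟩ := ho
  apply hu2p
  have e3 : u ^ (2 * j + 1) * u ^ (2 * j + 1) = (u * u * (u * u)) ^ j * (u * u) := by
    simp only [← pow_two, ← pow_mul, ← pow_add]
    congr 1
    ring
  have e4 : ∀ i : ℕ, ∀ x ∈ SA φ, cj ((u * u * (u * u)) ^ i) x = x := by
    intro i
    induction i with
    | zero => intro x _; simp [cj]
    | succ i ih => intro x hx; rw [pow_succ, cjc, hu4 x hx, ih x hx]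
  rw [e3, cjc, e4 j] at hfix
  · exact hfix
  · exact (mem_normalizer_iff.1 (mul_mem (mul_mem hbA hwA) (mul_mem hbA hwA)) _).1 hzA

/-- In the centraliser of an involution of the centre the involutions of the centre are isolated. -/
theorem isolated_SZ {z : G} (hz : z ∈ SZ φ) (hz1 : z ≠ 1) {z' : G} (hz' : z' ∈ SZ φ)
    (hz'1 : z' ≠ 1) :
    IsIsolatedInvolution (⟨z', h.SZ_le_cz hz (h.SA_le (h.SZ_le_SA hz'))⟩ : cz z) := by
  haveI : Fact (Nat.Prime 2) := ⟨Nat.prime_two⟩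
  refine Involutions.isolated_of_sylow (S.subtype (h.SZ_le_cz hz)) ?_ ?_
  · rw [← Subgroup.orderOf_coe]
    exact h.order_two_of_mem (h.SZ_le_SA hz') hz'1
  rintro ⟨g, hg⟩ hgS
  refine Subtype.ext ?_
  show g * z' * g⁻¹ = z'
  have hyS : g * z' * g⁻¹ ∈ S := hgS
  have hzA : z ∈ SA φ := h.SZ_le_SA hz
  have hgz : g * z * g⁻¹ = z := mul_inv_eq_iff_eq_mul.2 (mem_centralizer_singleton_iff.1 hg)
  have hyy : g * z' * g⁻¹ * (g * z' * g⁻¹) = 1 := by
    rw [show g * z' * g⁻¹ * (g * z' * g⁻¹) = g * (z' * z') * g⁻¹ by group,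
      h.sq_A (h.SZ_le_SA hz'), mul_one, mul_inv_cancel]
  -- the statement on one side
  have side : ∀ ψ : F4 → F4 → F4 → G, Setup S ψ → (∀ r, r ∈ SZ ψ ↔ r ∈ SZ φ) →
      g * z' * g⁻¹ ∈ SA ψ → g * z' * g⁻¹ = z' := by
    intro ψ hψ hZeq hyA
    set y := g * z' * g⁻¹ with hyd
    let C : Subgroup G := cz z ⊓ cz y
    have hzψ : z ∈ SA ψ := hψ.SZ_le_SA ((hZeq z).2 hz)
    have hz'ψ : z' ∈ SA ψ := hψ.SZ_le_SA ((hZeq z').2 hz')
    have h1 : SA ψ ≤ C := fun a ha => ⟨mem_centralizer_singleton_iff.2 (hψ.comm_SA ha hzψ).eq,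
      mem_centralizer_singleton_iff.2 (hψ.comm_SA ha hyA).eq⟩
    have h2 : cjS g (SA ψ) ≤ C := by
      rintro _ ⟨a, ha, rfl⟩
      refine ⟨mem_centralizer_singleton_iff.2 ?_, mem_centralizer_singleton_iff.2 ?_⟩
      · show g * a * g⁻¹ * z = z * (g * a * g⁻¹)
        rw [← hgz]
        calc g * a * g⁻¹ * (g * z * g⁻¹) = g * (a * z) * g⁻¹ := by group
          _ = g * (z * a) * g⁻¹ := by rw [(hψ.comm_SA ha hzψ).eq]
          _ = _ := by group
      · show g * a * g⁻¹ * y = y * (g * a * g⁻¹)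
        rw [hyd]
        calc g * a * g⁻¹ * (g * z' * g⁻¹) = g * (a * z') * g⁻¹ := by group
          _ = g * (z' * a) * g⁻¹ := by rw [(hψ.comm_SA ha hz'ψ).eq]
          _ = _ := by group
    obtain ⟨c, hc, T, -, hT, hTg, hTA⟩ := exists_common h2 h1 (hψ.isPGroup_SA.map _) hψ.isPGroup_SA
    rw [cjS_cjS] at hTg
    obtain ⟨l, hl⟩ := exists_le_cjS S hT
    have e1 := hψ.weak_SA ((cjS_mono hTA).trans hl)
    have e2 := hψ.weak_SA (g := l * (c * g)) (by rw [← cjS_cjS]; exact (cjS_mono hTg).trans hl)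
    rw [← cjS_cjS l] at e2
    have hn : c * g ∈ normalizer (SA ψ : Set G) :=
      cjS_eq_iff.1 (Subgroup.map_injective (MulAut.conj l).injective (e2.trans e1.symm))
    have hnz : cj (c * g) z = z := by
      show c * g * z * (c * g)⁻¹ = z
      rw [show c * g * z * (c * g)⁻¹ = c * (g * z * g⁻¹) * c⁻¹ by group, hgz]
      exact mul_inv_eq_iff_eq_mul.2 (mem_centralizer_singleton_iff.1 hc.1)
    have hny : cj (c * g) z' = y := by
      show c * g * z' * (c * g)⁻¹ = y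
      rw [show c * g * z' * (c * g)⁻¹ = c * y * c⁻¹ by rw [hyd]; group]
      exact mul_inv_eq_iff_eq_mul.2 (mem_centralizer_singleton_iff.1 hc.2)
    have hnZ := hψ.norm_fix ((hZeq z).2 hz) hz1 hn hnz
    -- a group of odd index over `C(Z)` acting on `Z` with one fixed point
    let K : Subgroup G := normalizer ((SZ ψ : Subgroup G) : Set G) ⊓ cz z
    have hnK : c * g ∈ K := ⟨hnZ, mem_centralizer_singleton_iff.2 (mul_inv_eq_iff_eq_mul.1 hnz)⟩
    have hyZ : y ∈ SZ φ := (hZeq y).1 (hny ▸ (mem_normalizer_iff.1 hnZ _).1 ((hZeq z').2 hz'))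
    by_contra hne
    have hy1 : y ≠ 1 := fun e => hz'1 (conj_eq_one_iff.1 (hyd ▸ e))
    have hyz : y ≠ z := fun e => by
      have : z' = z := by
        have := e.trans hgz.symm
        exact mul_left_cancel (mul_right_cancel this)
      exact hne (by rw [hyd, this, hgz])
    have hz'z : z' ≠ z := fun e => hne (by rw [hyd, e, hgz])
    have hn2 : cj (c * g) y = z' := by
      obtain ⟨c₀, rfl⟩ := h.mem_SZ.1 hz
      obtain ⟨d, rfl⟩ := h.mem_SZ.1 hz'
      obtain ⟨e, he⟩ := h.mem_SZ.1 hyZ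
      have he' := hny
      have key : ∀ c₀ d e : F4, c₀ ≠ 0 → d ≠ 0 → e ≠ 0 → d ≠ c₀ → e ≠ c₀ → e ≠ d → e = c₀ + d := by
        decide
      have hh := key c₀ d e (fun e0 => hz1 (e0 ▸ h.one)) (fun e0 => hz'1 (e0 ▸ h.one))
        (fun e0 => hy1 (by rw [← he, e0, h.one])) (fun e0 => hz'z (by rw [e0]))
        (fun e0 => hyz (by rw [← he, e0])) (fun e0 => hne (by rw [← he, e0]))
      have hsum : y = φ 0 0 c₀ * φ 0 0 d := by rw [← he, hh, h.mul]; simp
      calc cj (c * g) y = cj (c * g) (φ 0 0 c₀) * cj (c * g) (φ 0 0 d) := by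
            rw [hsum]; simp [cj, mul_assoc]
        _ = φ 0 0 c₀ * (φ 0 0 c₀ * φ 0 0 d) := by rw [hnz, hny, hsum]
        _ = φ 0 0 d := by rw [← mul_assoc, h.sq_A hzA, one_mul]
    have hSK : (S : Subgroup G) ≤ K :=
      le_inf (le_normalizer.trans hψ.norm_SZ) (h.SZ_le_cz hz)
    -- the two-part of `c g` swaps `z'` and `y` and is conjugate into `S`
    set n := c * g with hnd
    obtain ⟨e, o, ho, hord⟩ := Nat.exists_eq_two_pow_mul_odd (orderOf_pos n).ne'
    have hp2 : IsPGroup 2 (zpowers (n ^ o)) := by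
      refine IsPGroup.of_card (n := e) ?_
      rw [Nat.card_zpowers, orderOf_pow, hord, Nat.gcd_mul_left_left, Nat.mul_div_cancel _ ho.pos]
    obtain ⟨r, hr, T', -, hT', hTr, hTS⟩ :=
      exists_common (K := K) (X := zpowers (n ^ o)) (zpowers_le.2 (pow_mem hnK o)) hSK hp2 S.2
    have hsS : cj r (n ^ o) ∈ S := by
      show cj r (n ^ o) ∈ (S : Subgroup G)
      exact S.is_maximal' hT' hTS ▸ hTr (cj_mem_cjS (mem_zpowers _))
    have hrz : cj r z' ∈ SZ ψ := (mem_normalizer_iff.1 hr.1 _).1 ((hZeq z').2 hz')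
    have e1' : cj (n ^ o) z' = z' := by
      have h3 : cj (cj r (n ^ o)) (cj r z') = cj r z' :=
        mul_inv_eq_iff_eq_mul.2 (h.commute_SZ ((hZeq _).1 hrz) hsS).eq
      have h4 : cj (cj r (n ^ o)) (cj r z') = cj r (cj (n ^ o) z') := by simp [cj, mul_assoc]
      rw [h4] at h3
      exact (MulAut.conj r).injective h3
    obtain ⟨j, rfl⟩ := ho
    have e2' : ∀ i : ℕ, cj (n ^ (2 * i + 1)) z' = y := by
      intro i
      induction i with
      | zero => simpa using hny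
      | succ i ih =>
        have : cj (n ^ (2 * (i + 1) + 1)) z' = cj n (cj n (cj (n ^ (2 * i + 1)) z')) := by
          rw [show 2 * (i + 1) + 1 = (2 * i + 1) + 1 + 1 by ring, pow_succ', pow_succ']
          simp [cj, mul_assoc]
        rw [this, ih, hn2, hny]
    exact hne ((e2' j).symm.trans e1')
  rcases h.invol _ hyS hyy with e | e
  · exact side φ h (fun r => Iff.rfl) e
  · exact side (L34Sylow.swap φ) h.swap (fun r => by rw [SZ_swap]) (by rwa [SA_swap])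

end Setup

theorem centZ : StmtCentZ.{u} := by
  intro _ G _ _ S φ h z hz hz1 g hg
  haveI : Fact (Nat.Prime 2) := ⟨Nat.prime_two⟩
  obtain ⟨c₀, hzc⟩ := h.mem_SZ.1 hz
  have hc0 : c₀ ≠ 0 := fun e => hz1 (by rw [← hzc, e, h.one])
  obtain ⟨d, hd, hdc⟩ : ∃ d : F4, d ≠ 0 ∧ d ≠ c₀ :=
    (by decide : ∀ c : F4, ∃ d : F4, d ≠ 0 ∧ d ≠ c) c₀
  have hz'Z : φ 0 0 d ∈ SZ φ := h.mem_SZ.2 ⟨d, rfl⟩
  have hiso := h.isolated_SZ hz hz1 hz'Z (fun e => hd (h.eq_one_iff.1 e).2.2)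
  -- `C(z) = O(C(z)) C(Z)`
  obtain ⟨o, ho, c, hc, hgoc⟩ := Involutions.ZStar.exists_mul_centralizer hiso (⟨g, hg⟩ : cz z)
  let CZ : Subgroup G := centralizer ((SZ φ : Subgroup G) : Set G)
  have hcCZ : (c : G) ∈ CZ := by
    refine mem_centralizer_iff.2 fun x hx => ?_
    obtain ⟨e, rfl⟩ := h.mem_SZ.1 hx
    have hcd : Commute (φ 0 0 d) (c : G) :=
      (congrArg Subtype.val (mem_centralizer_singleton_iff.1 hc)).symm
    have hcz : Commute (φ 0 0 c₀) (c : G) := by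
      rw [hzc]; exact (mem_centralizer_singleton_iff.1 c.2).symm
    have span : ∀ d c₀ r : F4, c₀ ≠ 0 → d ≠ 0 → d ≠ c₀ →
        r = 0 ∨ r = c₀ ∨ r = d ∨ r = c₀ + d := by decide
    rcases span d c₀ e hc0 hd hdc with rfl | rfl | rfl | rfl
    · rw [h.one]; simp
    · exact hcz.eq
    · exact hcd.eq
    · rw [show φ 0 0 (c₀ + d) = φ 0 0 c₀ * φ 0 0 d by rw [h.mul]; simp]
      exact (hcz.mul_left hcd).eq
  -- the quotient `C(Z)/Z`
  have hSCZ : (S : Subgroup G) ≤ CZ := fun s hs =>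
    mem_centralizer_iff.2 fun x hx => (h.commute_SZ hx hs).eq.symm
  have hCZle : CZ ≤ cz z := fun x hx =>
    mem_centralizer_singleton_iff.2 (mem_centralizer_iff.1 hx z hz).symm
  let ZC : Subgroup CZ := (SZ φ).subgroupOf CZ
  haveI hZn : ZC.Normal := ⟨fun x hx y => by
    have h1 := mem_centralizer_iff.1 y.2 (x : G) hx
    show ((y * x * y⁻¹ : CZ) : G) ∈ SZ φ
    rw [Subgroup.coe_mul, Subgroup.coe_mul, ← h1]
    simpa [mul_assoc] using mem_subgroupOf.1 hx⟩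
  let π := QuotientGroup.mk' ZC
  let T : Sylow 2 (CZ ⧸ ZC) := (S.subtype hSCZ).mapSurjective (f := π) (QuotientGroup.mk'_surjective _)
  have hmk : ∀ x : CZ, π x = 1 ↔ (x : G) ∈ SZ φ := fun x => QuotientGroup.eq_one_iff x
  have hTmem : ∀ t, t ∈ T ↔ ∃ a b, π ⟨φ a b 0, hSCZ (h.mem ..)⟩ = t := by
    intro t
    constructor
    · rintro ⟨x, hx, rfl⟩
      obtain ⟨a, b, c', e⟩ := h.surj (x : G) hx
      refine ⟨a, b, (inv_mul_eq_one.1 ?_).symm⟩
      rw [← map_inv, ← map_mul, hmk]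
      show (x : G)⁻¹ * φ a b 0 ∈ SZ φ
      rw [← e, h.split a b c', mul_inv_rev, mul_assoc, inv_mul_cancel, mul_one]
      exact inv_mem (h.mem_SZ.2 ⟨c', rfl⟩)
    · rintro ⟨a, b, rfl⟩
      exact ⟨_, h.mem a b 0, rfl⟩
  have hTe : IsElementaryAbelian 2 (T : Subgroup (CZ ⧸ ZC)) := by
    refine ⟨⟨⟨fun x y => Subtype.ext ?_⟩⟩, fun x hx => ?_⟩
    · obtain ⟨a, b, ha⟩ := (hTmem _).1 x.2
      obtain ⟨a', b', hb⟩ := (hTmem _).1 y.2
      rw [Subgroup.coe_mul, Subgroup.coe_mul, ← ha, ← hb, ← map_mul, ← map_mul,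
        ← inv_mul_eq_one, ← map_inv, ← map_mul, hmk]
      simp only [Subgroup.coe_mul, Subgroup.coe_inv, h.mul, h.inv]
      exact h.mem_SZ.2 ⟨_, congrArg₂ (fun p q => φ p q _)
        (by rw [add_comm a a', f4_char]) (by rw [add_comm b b', f4_char])⟩
    · obtain ⟨a, b, rfl⟩ := (hTmem _).1 hx
      rw [← map_pow, hmk]
      show ((⟨φ a b 0, hSCZ (h.mem a b 0)⟩ : CZ) : G) ^ 2 ∈ SZ φ
      rw [pow_two, h.sq]
      exact h.mem_SZ.2 ⟨_, rfl⟩
  have hTinj : ∀ a b a' b' : F4, π ⟨φ a b 0, hSCZ (h.mem ..)⟩ = π ⟨φ a' b' 0, hSCZ (h.mem ..)⟩ →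
      a = a' ∧ b = b' := by
    intro a b a' b' e
    rw [← inv_mul_eq_one, ← map_inv, ← map_mul, hmk] at e
    obtain ⟨c', hc'⟩ := h.mem_SZ.1 e
    have e2 : φ a b 0 * φ 0 0 c' = φ a' b' 0 := by
      rw [hc']
      exact mul_inv_cancel_left _ _
    rw [h.mul] at e2
    simpa using And.intro (h.inj _ _ _ _ _ _ e2).1 (h.inj _ _ _ _ _ _ e2).2.1
  have hTcard : Nat.card T = 16 := by
    let f : F4 × F4 → (T : Subgroup (CZ ⧸ ZC)) := fun t => ⟨_, (hTmem _).2 ⟨t.1, t.2, rfl⟩⟩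
    have hb : Function.Bijective f := by
      refine ⟨fun t t' e => ?_, fun x => ?_⟩
      · obtain ⟨h1, h2⟩ := hTinj _ _ _ _ (congrArg Subtype.val e)
        exact Prod.ext h1 h2
      · obtain ⟨a, b, e⟩ := (hTmem _).1 x.2
        exact ⟨(a, b), Subtype.ext e⟩
    rw [← Nat.card_congr (Equiv.ofBijective f hb), Nat.card_eq_fintype_card]
    simp [CfsgLib.Spor.QField.card_eq]
  have hlift : ∀ n ∈ normalizer ((T : Subgroup (CZ ⧸ ZC)) : Set (CZ ⧸ ZC)),
      ∃ l m : F4, l * m = 1 ∧ ∀ a b : F4,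
        n * π ⟨φ a b 0, hSCZ (h.mem ..)⟩ * n⁻¹ = π ⟨φ (l * a) (m * b) 0, hSCZ (h.mem ..)⟩ := by
    intro n hn
    obtain ⟨x, rfl⟩ := QuotientGroup.mk'_surjective ZC n
    have hxS : (x : G) ∈ normalizer (S : Set G) := by
      refine StrongTwoClasses.mem_normalizer_of_forall fun s hs => ?_
      have h1 := (mem_normalizer_iff.1 hn (π ⟨s, hSCZ hs⟩)).1 ⟨_, hs, rfl⟩
      obtain ⟨y, hy, e⟩ := h1
      rw [← map_inv, ← map_mul, ← map_mul] at e
      have h2 := (QuotientGroup.eq).1 e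
      have h3 : (y : G)⁻¹ * ((x : G) * s * (x : G)⁻¹) ∈ SZ φ := h2
      have h4 := mul_mem (show (y : G) ∈ (S : Subgroup G) from hy)
        (h.SA_le (h.SZ_le_SA h3))
      rwa [mul_inv_cancel_left] at h4
    obtain ⟨l, m, hl, hm, hab, hcc⟩ := h.scal _ hxS
    refine ⟨l, m, ?_, fun a b => ?_⟩
    · have h1 := hcc 1
      have h2 : cj (x : G) (φ 0 0 1) = φ 0 0 1 :=
        mul_inv_eq_iff_eq_mul.2 (mem_centralizer_iff.1 x.2 _ (h.mem_SZ.2 ⟨1, rfl⟩)).symm
      rw [h2, mul_one] at h1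
      exact (h.inj _ _ _ _ _ _ h1).2.2.symm
    · obtain ⟨c', hc'⟩ := hab a b
      rw [← map_inv, ← map_mul, ← map_mul, ← inv_mul_eq_one, ← map_inv, ← map_mul, hmk]
      show ((x : G) * φ a b 0 * (x : G)⁻¹)⁻¹ * φ (l * a) (m * b) 0 ∈ SZ φ
      rw [show (x : G) * φ a b 0 * (x : G)⁻¹ = φ (l * a) (m * b) c' from hc', h.split _ _ c',
        mul_inv_rev, mul_assoc, inv_mul_cancel, mul_one]
      exact inv_mem (h.mem_SZ.2 ⟨c', rfl⟩)
  have hfix : ∀ n ∈ normalizer ((T : Subgroup (CZ ⧸ ZC)) : Set (CZ ⧸ ZC)), ∀ x ∈ T, x ≠ 1 →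
      n * x * n⁻¹ = x → n ∈ centralizer ((T : Subgroup (CZ ⧸ ZC)) : Set (CZ ⧸ ZC)) := by
    intro n hn x hx hx1 e
    obtain ⟨l, m, hlm, hact⟩ := hlift n hn
    obtain ⟨a, b, rfl⟩ := (hTmem x).1 hx
    rw [hact] at e
    obtain ⟨ea, eb⟩ := hTinj _ _ _ _ e
    have key : ∀ l m a b : F4, l * m = 1 → l * a = a → m * b = b → (a ≠ 0 ∨ b ≠ 0) →
        l = 1 ∧ m = 1 := by decide
    obtain ⟨rfl, rfl⟩ := key l m a b hlm ea eb (by
      by_contra h0
      push Not at h0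
      apply hx1
      rw [hmk]
      show φ a b 0 ∈ SZ φ
      rw [h0.1, h0.2, h.one]
      exact one_mem _)
    refine mem_centralizer_iff.2 fun t ht => ?_
    obtain ⟨a', b', rfl⟩ := (hTmem t).1 ht
    have := hact a' b'
    simp only [one_mul] at this
    exact (mul_inv_eq_iff_eq_mul.1 this).symm
  have htwo : ∃ a ∈ T, ∃ c ∈ T, a ≠ 1 ∧ c ≠ 1 ∧
      ∀ n ∈ normalizer ((T : Subgroup (CZ ⧸ ZC)) : Set (CZ ⧸ ZC)), n * a * n⁻¹ ≠ c := by
    have hne : ∀ a b : F4, (a ≠ 0 ∨ b ≠ 0) → π ⟨φ a b 0, hSCZ (h.mem ..)⟩ ≠ 1 := by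
      intro a b hab e
      rw [hmk] at e
      obtain ⟨c', hc'⟩ := h.mem_SZ.1 e
      obtain ⟨rfl, rfl, -⟩ := h.inj _ _ _ _ _ _ hc'
      simp at hab
    refine ⟨_, (hTmem _).2 ⟨1, 0, rfl⟩, _, (hTmem _).2 ⟨0, 1, rfl⟩, hne 1 0 (Or.inl one_ne_zero),
      hne 0 1 (Or.inr one_ne_zero), fun n hn e => ?_⟩
    obtain ⟨l, m, -, hact⟩ := hlift n hn
    rw [hact] at e
    simpa using (hTinj _ _ _ _ e).2
  have hnorm := sylow_sup_oddCore_normal T hTe (by omega) hfix htwo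
  -- back to `C(Z)`
  let O : Subgroup G := (oddCore CZ).map CZ.subtype
  have hOodd : Odd (Nat.card O) :=
    Nat.coprime_two_right.1 (CfsgLib.Base.coprime_card_map_pPrimeCore CZ)
  have hOC : O ≤ CZ := map_subtype_le _
  have hCO : CZ ≤ normalizer (O : Set G) := CfsgLib.Base.le_normalizer_map_pPrimeCore _
  have hmem : ∀ s ∈ (S : Subgroup G), (c : G) * s * (c : G)⁻¹ ∈ (S : Subgroup G) ⊔ O := by
    intro s hs
    have h1 : π ⟨s, hSCZ hs⟩ ∈ (T : Subgroup (CZ ⧸ ZC)) ⊔ oddCore (CZ ⧸ ZC) :=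
      mem_sup_left ⟨_, hs, rfl⟩
    have h2 := hnorm.conj_mem _ h1 (π ⟨c, hcCZ⟩)
    rw [Subgroup.mem_sup_of_normal_right] at h2
    obtain ⟨t, ⟨t', ht', rfl⟩, r, hr, e⟩ := h2
    obtain ⟨r', rfl⟩ := QuotientGroup.mk'_surjective ZC r
    have hker : π.ker = ZC := QuotientGroup.ker_mk' ZC
    have hZp : IsPGroup 2 ZC :=
      (S.2.to_le (h.SZ_le_SA.trans h.SA_le)).comap_of_injective CZ.subtype CZ.subtype_injective
    obtain ⟨r'', hr'', er⟩ := StrongTwoClasses.exists_core_lift π (QuotientGroup.mk'_surjective _)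
      (by rwa [hker]) (by
        rw [hker]
        intro x hx
        exact mem_center_iff.2 fun y => Subtype.ext (mem_centralizer_iff.1 y.2 (x : G) hx).symm) hr
    rw [← er, ← map_mul, ← map_inv, ← map_mul, ← map_mul] at e
    have h3 := (QuotientGroup.eq).1 e
    have h4 : ((t' : G) * (r'' : G))⁻¹ * ((c : G) * s * (c : G)⁻¹) ∈ SZ φ := h3
    have h5 : ((t' : G) * (r'' : G)) * (((t' : G) * (r'' : G))⁻¹ * ((c : G) * s * (c : G)⁻¹)) ∈
        (S : Subgroup G) ⊔ O :=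
      mul_mem (mul_mem (mem_sup_left ht') (mem_sup_right ⟨r'', hr'', rfl⟩))
        (mem_sup_left (h.SA_le (h.SZ_le_SA h4)))
    rwa [mul_inv_cancel_left] at h5
  obtain ⟨o', ho', n, hn, e⟩ := StrongTwoClasses.exists_mul_of_conj_le S.2 hOodd
    (hSCZ.trans hCO) hmem
  -- `O(C(Z))` lies in `O(C(z))`
  let X := centralizerPPrimeCore 2 z
  have hXle : X ≤ cz z := StrongTwoClasses.centralizerPPrimeCore_le z
  have hXn : cz z ≤ normalizer (X : Set G) := StrongTwoClasses.centralizer_le_normalizer_core z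
  have hXO : X ⊔ O ≤ X := by
    refine StrongTwoClasses.le_core (sup_le hXle (hOC.trans hCZle)) ?_ ?_
    · intro y hy
      obtain ⟨a, ha, b, hb, hyab⟩ := Involutions.ZStar.exists_mul_centralizer hiso (⟨y, hy⟩ : cz z)
      have ha' : (a : G) ∈ X := ⟨a, ha, rfl⟩
      have hy' : y = (a : G) * b := congrArg Subtype.val hyab
      have hb' : (b : G) ∈ CZ := by
        refine mem_centralizer_iff.2 fun x hx => ?_
        obtain ⟨e, rfl⟩ := h.mem_SZ.1 hx
        have hcd : Commute (φ 0 0 d) (b : G) :=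
          (congrArg Subtype.val (mem_centralizer_singleton_iff.1 hb)).symm
        have hcz : Commute (φ 0 0 c₀) (b : G) := by
          rw [hzc]; exact (mem_centralizer_singleton_iff.1 b.2).symm
        have span : ∀ d c₀ r : F4, c₀ ≠ 0 → d ≠ 0 → d ≠ c₀ →
            r = 0 ∨ r = c₀ ∨ r = d ∨ r = c₀ + d := by decide
        rcases span d c₀ e hc0 hd hdc with rfl | rfl | rfl | rfl
        · rw [h.one]; simp
        · exact hcz.eq
        · exact hcd.eq
        · rw [show φ 0 0 (c₀ + d) = φ 0 0 c₀ * φ 0 0 d by rw [h.mul]; simp]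
          exact (hcz.mul_left hcd).eq
      rw [hy']
      refine mul_mem (le_normalizer (mem_sup_left ha')) ?_
      exact (CfsgLib.Coprime.le_normalizer_sup_sup (A := zpowers (b : G))
        (zpowers_le.2 (hXn b.2)) (zpowers_le.2 (hCO hb'))) (mem_zpowers _)
    · exact ((StrongTwoClasses.odd_card_core z).mul hOodd).of_dvd_nat (by
        rw [sup_comm, mul_comm]
        exact CfsgLib.Coprime.card_sup_dvd ((hOC.trans hCZle).trans hXn))
  refine ⟨(o : G) * o', mul_mem ⟨o, ho, rfl⟩ (hXO (mem_sup_right ho')), n, hn, ?_, ?_⟩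
  · have : n = o'⁻¹ * (c : G) := by rw [e]; group
    rw [this]
    exact mul_mem (inv_mem (hCZle (hOC ho'))) c.2
  · rw [show g = (o : G) * c from congrArg Subtype.val hgoc, e]; group

end CfsgLib.L34Sylow
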