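import Cfsg.Agent.Lib.L34Sylow.Swap
import Cfsg.Agent.Lib.Involutions.Basic

/-!
# Computing in the coordinates
-/

set_option autoImplicit false
set_option linter.style.haveILetI false

namespace CfsgLib.L34Sylow

open Cfsg Subgroup

universe u

variable {G : Type u} [Group G] {S : Sylow 2 G} {φ : F4 → F4 → F4 → G}

theorem f4_eq_neg : ∀ a : F4, -a = a := by decide

namespace Setup

variable (h : Setup S φ)
include h

theorem one : φ 0 0 0 = 1 := by
  have e := h.mul 0 0 0 0 0 0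
  simp only [add_zero, mul_zero] at e
  exact mul_eq_left.1 e

theorem eq_one_iff {a b c : F4} : φ a b c = 1 ↔ a = 0 ∧ b = 0 ∧ c = 0 :=
  ⟨fun e => h.inj a b c 0 0 0 (e.trans h.one.symm), fun ⟨ha, hb, hc⟩ => by
    rw [ha, hb, hc, h.one]⟩

theorem inv (a b c : F4) : (φ a b c)⁻¹ = φ a b (c + a * b) := by
  refine inv_eq_of_mul_eq_one_right ?_
  rw [h.mul, h.eq_one_iff]
  exact ⟨f4_char a, f4_char b, by
    have key : ∀ x y : F4, x + (x + y) + y = 0 := by decide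
    exact key _ _⟩

theorem conj (x y w a b c : F4) :
    φ x y w * φ a b c * (φ x y w)⁻¹ = φ a b (c + (x * b + a * y)) := by
  rw [h.inv, h.mul, h.mul]
  have k1 : ∀ p q : F4, p + q + p = q := by decide
  rw [k1, k1]
  congr 1
  have key : ∀ a b c x y w : F4,
      w + c + x * b + (w + x * y) + (x + a) * y = c + (x * b + a * y) := by
    intro a b c x y w
    linear_combination f4_char w + f4_char (x * y)
  exact key ..

theorem commute_iff (x y w a b c : F4) :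
    Commute (φ x y w) (φ a b c) ↔ x * b + a * y = 0 := by
  rw [Commute, SemiconjBy, ← mul_inv_eq_iff_eq_mul, h.conj]
  constructor
  · intro e
    have h3 := (h.inj _ _ _ _ _ _ e).2.2
    exact add_eq_left.1 h3
  · intro e
    rw [e, add_zero]

theorem sq (a b c : F4) : φ a b c * φ a b c = φ 0 0 (a * b) := by
  rw [h.mul, f4_char a, f4_char b, f4_char c, zero_add]

theorem split (a b c : F4) : φ a b c = φ a b 0 * φ 0 0 c := by
  rw [h.mul]; simp

theorem mem_SA {g : G} : g ∈ SA φ ↔ ∃ a c, φ a 0 c = g := by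
  refine ⟨fun hg => ?_, fun hg => subset_closure hg⟩
  induction hg using closure_induction with
  | mem x hx => exact hx
  | one => exact ⟨0, 0, h.one⟩
  | mul x y _ _ hx hy =>
    obtain ⟨a, c, rfl⟩ := hx
    obtain ⟨a', c', rfl⟩ := hy
    exact ⟨a + a', c + c', by rw [h.mul]; simp⟩
  | inv x _ hx =>
    obtain ⟨a, c, rfl⟩ := hx
    exact ⟨a, c, by rw [h.inv]; simp⟩

theorem mem_SB {g : G} : g ∈ SB φ ↔ ∃ b c, φ 0 b c = g := by
  rw [← SA_swap, h.swap.mem_SA]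
  simp [L34Sylow.swap]

theorem mem_SZ {g : G} : g ∈ SZ φ ↔ ∃ c, φ 0 0 c = g := by
  refine ⟨fun hg => ?_, fun hg => subset_closure hg⟩
  induction hg using closure_induction with
  | mem x hx => exact hx
  | one => exact ⟨0, h.one⟩
  | mul x y _ _ hx hy =>
    obtain ⟨c, rfl⟩ := hx
    obtain ⟨c', rfl⟩ := hy
    exact ⟨c + c', by rw [h.mul]; simp⟩
  | inv x _ hx =>
    obtain ⟨c, rfl⟩ := hx
    exact ⟨c, by rw [h.inv]; simp⟩

theorem SA_le : SA φ ≤ S := fun g hg => by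
  obtain ⟨a, c, rfl⟩ := h.mem_SA.1 hg
  exact h.mem ..

theorem SB_le : SB φ ≤ S := SA_swap φ ▸ h.swap.SA_le

theorem SZ_le_SA : SZ φ ≤ SA φ := fun g hg => by
  obtain ⟨c, rfl⟩ := h.mem_SZ.1 hg
  exact h.mem_SA.2 ⟨0, c, rfl⟩

theorem SZ_le_SB : SZ φ ≤ SB φ := fun g hg => by
  obtain ⟨c, rfl⟩ := h.mem_SZ.1 hg
  exact h.mem_SB.2 ⟨0, c, rfl⟩

theorem card_S : Nat.card S = 64 := by
  let f : F4 × F4 × F4 → (S : Subgroup G) := fun t => ⟨φ t.1 t.2.1 t.2.2, h.mem ..⟩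
  have hb : Function.Bijective f := by
    refine ⟨fun t t' e => ?_, fun g => ?_⟩
    · obtain ⟨h1, h2, h3⟩ := h.inj _ _ _ _ _ _ (congrArg Subtype.val e)
      exact Prod.ext h1 (Prod.ext h2 h3)
    · obtain ⟨a, b, c, e⟩ := h.surj g g.2
      exact ⟨(a, b, c), Subtype.ext e⟩
  rw [← Nat.card_congr (Equiv.ofBijective f hb), Nat.card_eq_fintype_card]
  simp [CfsgLib.Spor.QField.card_eq]

theorem card_SA : Nat.card (SA φ) = 16 := by
  let f : F4 × F4 → SA φ := fun t => ⟨φ t.1 0 t.2, h.mem_SA.2 ⟨_, _, rfl⟩⟩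
  have hb : Function.Bijective f := by
    refine ⟨fun t t' e => ?_, fun g => ?_⟩
    · obtain ⟨h1, -, h3⟩ := h.inj _ _ _ _ _ _ (congrArg Subtype.val e)
      exact Prod.ext h1 h3
    · obtain ⟨a, c, e⟩ := h.mem_SA.1 g.2
      exact ⟨(a, c), Subtype.ext e⟩
  rw [← Nat.card_congr (Equiv.ofBijective f hb), Nat.card_eq_fintype_card]
  simp [CfsgLib.Spor.QField.card_eq]

theorem card_SB : Nat.card (SB φ) = 16 := SA_swap φ ▸ h.swap.card_SA

theorem card_SZ : Nat.card (SZ φ) = 4 := by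
  let f : F4 → SZ φ := fun c => ⟨φ 0 0 c, h.mem_SZ.2 ⟨_, rfl⟩⟩
  have hb : Function.Bijective f := by
    refine ⟨fun t t' e => (h.inj _ _ _ _ _ _ (congrArg Subtype.val e)).2.2, fun g => ?_⟩
    obtain ⟨c, e⟩ := h.mem_SZ.1 g.2
    exact ⟨c, Subtype.ext e⟩
  rw [← Nat.card_congr (Equiv.ofBijective f hb), Nat.card_eq_fintype_card]
  simp [CfsgLib.Spor.QField.card_eq]

theorem elem_SA : IsElementaryAbelian 2 (SA φ) := by
  refine ⟨⟨⟨fun x y => Subtype.ext ?_⟩⟩, fun g hg => ?_⟩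
  · obtain ⟨a, c, hx⟩ := h.mem_SA.1 x.2
    obtain ⟨a', c', hy⟩ := h.mem_SA.1 y.2
    simp only [Subgroup.coe_mul, ← hx, ← hy]
    exact ((h.commute_iff ..).2 (by simp)).eq
  · obtain ⟨a, c, rfl⟩ := h.mem_SA.1 hg
    rw [pow_two, h.sq, mul_zero, h.one]

theorem elem_SB : IsElementaryAbelian 2 (SB φ) := SA_swap φ ▸ h.swap.elem_SA

theorem center_eq : (S : Subgroup G) ⊓ centralizer (S : Set G) = SZ φ := by
  ext g
  rw [mem_inf, mem_centralizer_iff]
  constructor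
  · rintro ⟨hg, hc⟩
    obtain ⟨a, b, c, rfl⟩ := h.surj g hg
    have h1 := (h.commute_iff 1 0 0 a b c).1 (hc _ (h.mem 1 0 0))
    have h2 := (h.commute_iff 0 1 0 a b c).1 (hc _ (h.mem 0 1 0))
    simp only [one_mul, mul_zero, add_zero, zero_mul, mul_one, zero_add] at h1 h2
    subst h1 h2
    exact h.mem_SZ.2 ⟨c, rfl⟩
  · intro hg
    obtain ⟨c, rfl⟩ := h.mem_SZ.1 hg
    refine ⟨h.mem .., fun s hs => ?_⟩
    obtain ⟨x, y, w, rfl⟩ := h.surj s hs
    exact ((h.commute_iff ..).2 (by simp)).eq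

theorem invol : ∀ g ∈ S, g * g = 1 → g ∈ SA φ ∨ g ∈ SB φ := by
  intro g hg e
  obtain ⟨a, b, c, rfl⟩ := h.surj g hg
  rw [h.sq, h.eq_one_iff] at e
  rcases mul_eq_zero.1 e.2.2 with h0 | h0 <;> subst h0
  exacts [Or.inr (h.mem_SB.2 ⟨b, c, rfl⟩), Or.inl (h.mem_SA.2 ⟨a, c, rfl⟩)]

theorem cent_SA : ∀ t ∈ SA φ, t ∉ SZ φ → (S : Subgroup G) ⊓ cz t = SA φ := by
  intro t ht ht'
  obtain ⟨a, c, rfl⟩ := h.mem_SA.1 ht
  ext g
  rw [mem_inf, Involutions.mem_centralizer_singleton]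
  constructor
  · rintro ⟨hg, hc⟩
    obtain ⟨x, y, w, rfl⟩ := h.surj g hg
    have h1 := (h.commute_iff x y w a 0 c).1 hc.symm
    simp only [mul_zero, zero_add, mul_eq_zero] at h1
    rcases h1 with rfl | rfl
    · exact absurd (h.mem_SZ.2 ⟨c, rfl⟩) ht'
    · exact h.mem_SA.2 ⟨x, w, rfl⟩
  · intro hg
    obtain ⟨x, w, rfl⟩ := h.mem_SA.1 hg
    exact ⟨h.mem .., ((h.commute_iff ..).2 (by simp)).symm⟩

theorem cent_SB : ∀ t ∈ SB φ, t ∉ SZ φ → (S : Subgroup G) ⊓ cz t = SB φ := by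
  intro t ht ht'
  have := h.swap.cent_SA t (by rwa [SA_swap]) (by rwa [SZ_swap])
  rwa [SA_swap] at this

end Setup

end CfsgLib.L34Sylow
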