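import Cfsg.Agent.Lib.L34Sylow.CoresLL

/-!
# The odd cores of the centralisers of the involutions are trivial
-/

set_option autoImplicit false
set_option linter.style.haveILetI false

namespace CfsgLib.L34Sylow

open Cfsg Subgroup

universe u

/-- Piece 7: the signalizer functor is trivial. -/
theorem cores : StmtCores.{u} := by
  intro hFa hB hC G _ _ S φ hS hIH hgood
  have hF := hFa G S φ hS
  obtain ⟨W, hW⟩ := CoresAux.exists_ctrl hFa hB hC hS hgood
  have htop := CoresAux.normal_gen hF hS hIH hW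
  haveI : W.Normal := normalizer_eq_top_iff.1 htop
  have hW1 : W = ⊥ := eq_bot_iff.2 (hS.core_bot ▸ CfsgLib.Base.le_oddCore hW.odd)
  intro g hg
  obtain ⟨x, hx, hxg⟩ := hF.exists_conj g hg
  have hx1 : x ≠ 1 := fun e => by
    obtain ⟨k, rfl⟩ := isConj_iff.1 hxg
    simp [e] at hg
  obtain ⟨k, rfl⟩ := isConj_iff.1 hxg
  refine eq_bot_iff.2 fun y hy => ?_
  have h1 := StrongTwoClasses.conj_mem_core (g := k⁻¹) hy
  rw [show k⁻¹ * (k * x * k⁻¹) * k⁻¹⁻¹ = x by group] at h1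
  have h2 : k⁻¹ * y * k⁻¹⁻¹ = 1 := Subgroup.mem_bot.1 (hW1 ▸ hW.cores x hx hx1 h1)
  exact Subgroup.mem_bot.2 (conj_eq_one_iff.1 h2)

end CfsgLib.L34Sylow
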