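import Cfsg.Agent.Lib.L34Sylow.CoresGen
import Cfsg.Agent.S1225
import Cfsg.Agent.S0819
import Cfsg.Agent.Lib.Classical.Order

/-!
# No group with one class of involutions and a proper strongly embedded subgroup of type `PSL₃(4)`
-/

set_option autoImplicit false
set_option linter.style.haveILetI false
set_option linter.unusedSectionVars false

namespace CfsgLib.L34Sylow

open Cfsg Subgroup

universe u

namespace CoresAux

/-- An element normalising a subgroup of prime order `p`, of order prime to `p - 1`, centralises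
it. -/
theorem commute_of_normalizes {X : Type*} [Group X] [Finite X] {x y : X} {p : ℕ} (hp : p.Prime)
    (hx : orderOf x = p) (hy : y ∈ normalizer (zpowers x : Set X))
    (hco : (orderOf y).Coprime (p - 1)) : Commute y x := by
  haveI : Fact p.Prime := ⟨hp⟩
  set f := (zpowers x).normalizerMonoidHom
  have h1 : orderOf (f ⟨y, hy⟩) ∣ orderOf y :=
    (orderOf_map_dvd f _).trans (Subgroup.orderOf_mk y hy).dvd
  have h2 : orderOf (f ⟨y, hy⟩) ∣ p - 1 := by
    have := orderOf_dvd_natCard (f ⟨y, hy⟩)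
    rwa [IsCyclic.card_mulAut, Nat.card_zpowers, hx, Nat.totient_prime hp] at this
  have h3 : (⟨y, hy⟩ : normalizer (zpowers x : Set X)) ∈ f.ker :=
    orderOf_eq_one_iff.1 (Nat.eq_one_of_dvd_coprimes hco h1 h2)
  rw [normalizerMonoidHom_ker, mem_subgroupOf] at h3
  exact (mem_centralizer_iff.1 h3 x (mem_zpowers x)).symm

/-- A group whose order is a multiple of `35` and divides `315` has an element of order `35`. -/
theorem exists_orderOf_thirtyfive {X : Type*} [Group X] [Finite X] (h35 : 35 ∣ Nat.card X)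
    (h315 : Nat.card X ∣ 315) : ∃ x : X, orderOf x = 35 := by
  haveI : Fact (Nat.Prime 5) := ⟨by norm_num⟩
  haveI : Fact (Nat.Prime 7) := ⟨by norm_num⟩
  obtain ⟨g, hg⟩ := exists_prime_orderOf_dvd_card' (G := X) 5 (Dvd.dvd.trans (by norm_num) h35)
  obtain ⟨q, hq⟩ := exists_prime_orderOf_dvd_card' (G := X) 7 (Dvd.dvd.trans (by norm_num) h35)
  have hQ5 : IsPGroup 5 (zpowers g) :=
    IsPGroup.of_card (n := 1) (by rw [Nat.card_zpowers, hg, pow_one])
  have hQ : ¬ 5 ∣ (zpowers g).index := by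
    intro h
    have h1 := mul_dvd_mul_left (Nat.card (zpowers g)) h
    rw [card_mul_index, Nat.card_zpowers, hg] at h1
    exact absurd (h1.trans h315) (by norm_num)
  let P : Sylow 5 X := hQ5.toSylow hQ
  have hcen : normalizer ((P : Subgroup X) : Set X) ≤ centralizer ((P : Subgroup X) : Set X) := by
    intro y hy
    refine mem_centralizer_iff.2 fun z hz => ?_
    have hc : Commute y g := commute_of_normalizes (by norm_num) hg hy
      (Nat.Coprime.coprime_dvd_left ((orderOf_dvd_natCard y).trans h315) (by norm_num))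
    obtain ⟨i, rfl⟩ := mem_zpowers_iff.1 hz
    exact (hc.zpow_right i).eq.symm
  let K := (MonoidHom.transferSylow P hcen).ker
  have hK : K.IsComplement' (P : Subgroup X) :=
    MonoidHom.ker_transferSylow_isComplement' P hcen
  have hcP : Nat.card (P : Subgroup X) = 5 := by
    show Nat.card (zpowers g) = 5
    rw [Nat.card_zpowers, hg]
  have hKi : K.index = 5 := hK.symm.index_eq_card.trans hcP
  have hK63 : Nat.card K ∣ 63 := by
    have h1 := K.card_mul_index
    rw [hKi] at h1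
    exact Nat.dvd_of_mul_dvd_mul_right (by norm_num : 0 < 5) (by rw [h1]; exact h315)
  have hmem : ∀ x : X, orderOf x = 7 → x ∈ K := by
    intro x hx
    have h1 : x ^ 5 ∈ K := hKi ▸ K.pow_index_mem x
    exact zpowers_le.2 h1 (mem_zpowers_pow_iff.2 (by rw [hx]; rfl))
  have hsub : ∀ x : X, (hx : orderOf x = 7) →
      ∃ R : Sylow 7 K, (R : Subgroup K) = zpowers ⟨x, hmem x hx⟩ := by
    intro x hx
    have h1 : Nat.card (zpowers (⟨x, hmem x hx⟩ : K)) = 7 := by
      rw [Nat.card_zpowers, Subgroup.orderOf_mk, hx]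
    have hp7 : IsPGroup 7 (zpowers (⟨x, hmem x hx⟩ : K)) :=
      IsPGroup.of_card (n := 1) (by rw [h1, pow_one])
    refine ⟨hp7.toSylow ?_, rfl⟩
    intro h
    have h2 := mul_dvd_mul_left (Nat.card (zpowers (⟨x, hmem x hx⟩ : K))) h
    rw [card_mul_index, h1] at h2
    exact absurd (h2.trans hK63) (by norm_num)
  have hgq : orderOf (g * q * g⁻¹) = 7 := by
    rw [← hq]; exact orderOf_injective (MulAut.conj g).toMonoidHom (MulEquiv.injective _) q
  obtain ⟨R, hR⟩ := hsub q hq
  obtain ⟨R', hR'⟩ := hsub _ hgq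
  have hone : Nat.card (Sylow 7 K) = 1 := by
    have h1 : Nat.card (Sylow 7 K) ∣ 9 := by
      refine R.card_dvd_index.trans ?_
      have h2 := (R : Subgroup K).card_mul_index
      have h3 : Nat.card (R : Subgroup K) = 7 := by
        rw [hR, Nat.card_zpowers, Subgroup.orderOf_mk, hq]
      rw [h3] at h2
      exact Nat.dvd_of_mul_dvd_mul_left (by norm_num : 0 < 7) (h2 ▸ hK63)
    have h4 := card_sylow_modEq_one (p := 7) (G := K)
    have h5 : Nat.card (Sylow 7 K) ≤ 9 := Nat.le_of_dvd (by norm_num) h1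
    unfold Nat.ModEq at h4
    interval_cases (Nat.card (Sylow 7 K)) <;> simp_all
  haveI : Subsingleton (Sylow 7 K) := (Nat.card_eq_one_iff_unique.1 hone).1
  have hnorm : g * q * g⁻¹ ∈ zpowers q := by
    have h1 : (⟨g * q * g⁻¹, hmem _ hgq⟩ : K) ∈ (R : Subgroup K) := by
      rw [Subsingleton.elim R R', hR']; exact mem_zpowers _
    rw [hR] at h1
    obtain ⟨i, hi⟩ := mem_zpowers_iff.1 h1
    exact mem_zpowers_iff.2 ⟨i, by simpa using congrArg Subtype.val hi⟩
  have hgN : g ∈ normalizer (zpowers q : Set X) := by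
    have h1 : (zpowers q).map (MulAut.conj g).toMonoidHom = zpowers q := by
      refine eq_of_le_of_card_ge ?_ (Subgroup.card_map_of_injective (MulEquiv.injective _)).ge
      rw [MonoidHom.map_zpowers]
      exact zpowers_le.2 hnorm
    refine mem_normalizer_iff.2 fun z => ⟨fun hz => h1 ▸ ⟨z, hz, rfl⟩, fun hz => ?_⟩
    rw [← h1] at hz
    obtain ⟨w, hw, hwz⟩ := hz
    exact (mul_right_injective g |> fun inj => inj (mul_left_injective g⁻¹ hwz)) ▸ hw
  have hc : Commute g q := commute_of_normalizes (by norm_num) hq hgN (by rw [hg]; norm_num)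
  refine ⟨g * q, ?_⟩
  rw [hc.orderOf_mul_eq_mul_orderOf_of_coprime (by rw [hg, hq]; norm_num), hg, hq]

/-- The order of `PSL₃(4)` and the orders of its elements. -/
theorem isL34_data {L : Type*} [Group L] (h : Recog.CIT.IsL34 L) :
    Nat.card L = 20160 ∧ ∀ x : L, orderOf x ≠ 10 ∧ orderOf x ≠ 14 ∧ orderOf x ≠ 35 := by
  obtain ⟨F, hFld, hFt, hF, ⟨e⟩⟩ := h
  refine ⟨?_, fun x => ?_⟩
  · rw [Nat.card_congr e.toEquiv, Classical.card_PSL_fin 3 (by norm_num),
      Classical.card_SL_fin', Nat.card_eq_fintype_card, hF]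
    norm_num [Finset.prod_range_succ]
  · rw [← e.orderOf_eq x]
    obtain ⟨y, hy⟩ := QuotientGroup.mk'_surjective
      (Subgroup.center (Matrix.SpecialLinearGroup (Fin 3) F)) (e x)
    obtain ⟨k, c, hk, hk'⟩ := Cfsg.Agent.S0819.exists_scalar_pow hF y
    have hmem : y ^ k ∈ Subgroup.center (Matrix.SpecialLinearGroup (Fin 3) F) := by
      rw [Subgroup.mem_center_iff]
      intro z
      refine Subtype.ext ?_
      rw [Matrix.SpecialLinearGroup.coe_mul, Matrix.SpecialLinearGroup.coe_mul,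
        Matrix.SpecialLinearGroup.coe_pow, hk, mul_smul_comm, smul_mul_assoc, mul_one, one_mul]
    have hd : orderOf (e x) ∣ k := orderOf_dvd_of_pow_eq_one (by
      rw [← hy, ← map_pow]; exact (QuotientGroup.eq_one_iff _).2 hmem)
    have hle : orderOf (e x) ≤ 7 :=
      (Nat.le_of_dvd (by omega) hd).trans (by omega)
    omega

/-- The contradiction in the quotient. -/
theorem false_of_transitive {Q : Type*} [Group Q] [Finite Q] {L : Subgroup Q} [L.Normal]
    (hL : Recog.CIT.IsL34 L) (hi : L.index ∣ 3) {D : Subgroup Q} (hD : Odd (Nat.card D))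
    {z : Q} (hz : orderOf z = 2) (htr : ∀ g : Q, ∃ d ∈ D, d * z * d⁻¹ = g * z * g⁻¹) :
    False := by
  obtain ⟨hcard, hord⟩ := isL34_data hL
  have hmem : ∀ x : Q, (orderOf x).Coprime 3 → x ∈ L := by
    intro x hx
    exact zpowers_le.2 (L.pow_index_mem x)
      (mem_zpowers_pow_iff.2 (Nat.Coprime.coprime_dvd_left hi hx.symm))
  have hzL : z ∈ L := hmem z (by rw [hz]; norm_num)
  set C := centralizer ({z} : Set Q) with hC
  have hno : ∀ p : ℕ, p.Prime → (p = 5 ∨ p = 7) → ¬ p ∣ Nat.card C := by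
    intro p hp hp57 hdvd
    haveI : Fact p.Prime := ⟨hp⟩
    obtain ⟨y, hy⟩ := exists_prime_orderOf_dvd_card' (G := C) p hdvd
    have hy' : orderOf (y : Q) = p := by rw [Subgroup.orderOf_coe, hy]
    have hyL : (y : Q) ∈ L := hmem _ (by rw [hy']; rcases hp57 with rfl | rfl <;> norm_num)
    have hco : Commute (y : Q) z := mem_centralizer_singleton_iff.1 y.2
    have h1 : orderOf ((y : Q) * z) = p * 2 := by
      rw [hco.orderOf_mul_eq_mul_orderOf_of_coprime
        (by rw [hy', hz]; rcases hp57 with rfl | rfl <;> norm_num), hy', hz]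
    have h2 := hord ⟨(y : Q) * z, mul_mem hyL hzL⟩
    rw [Subgroup.orderOf_mk, h1] at h2
    rcases hp57 with rfl | rfl
    · exact h2.1 rfl
    · exact h2.2.1 rfl
  have h35C : 35 ∣ C.index := by
    have h1 : (35 : ℕ) ∣ Nat.card Q := by
      rw [← L.card_mul_index, hcard]
      exact dvd_mul_of_dvd_left (by norm_num) _
    rw [← C.card_mul_index] at h1
    refine Nat.Coprime.dvd_of_dvd_mul_left ?_ h1
    rw [show (35 : ℕ) = 5 * 7 from rfl]
    exact Nat.Coprime.mul_left ((Nat.Prime.coprime_iff_not_dvd (by norm_num)).2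
      (hno 5 (by norm_num) (Or.inl rfl))) ((Nat.Prime.coprime_iff_not_dvd (by norm_num)).2
      (hno 7 (by norm_num) (Or.inr rfl)))
  have hidx : (C.subgroupOf D).index = C.index := by
    let f : (↥D ⧸ C.subgroupOf D) → Q ⧸ C :=
      Quotient.map' (fun d => (d : Q)) fun a b h => by
        rw [QuotientGroup.leftRel_apply] at h ⊢
        simpa [mem_subgroupOf] using h
    refine Nat.card_congr (Equiv.ofBijective f ⟨?_, ?_⟩)
    · intro a b
      induction a using QuotientGroup.induction_on with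
      | _ a => ?_
      induction b using QuotientGroup.induction_on with
      | _ b => ?_
      intro h
      refine QuotientGroup.eq.2 ?_
      have h' : ((a : Q) : Q ⧸ C) = ((b : Q) : Q ⧸ C) := h
      simpa [mem_subgroupOf] using QuotientGroup.eq.1 h'
    · intro b
      induction b using QuotientGroup.induction_on with
      | _ g => ?_
      obtain ⟨d, hd, he⟩ := htr g
      refine ⟨((⟨d, hd⟩ : D) : ↥D ⧸ C.subgroupOf D), QuotientGroup.eq.2 ?_⟩
      refine mem_centralizer_singleton_iff.2 ?_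
      calc d⁻¹ * g * z = d⁻¹ * (g * z * g⁻¹) * g := by group
        _ = d⁻¹ * (d * z * d⁻¹) * g := by rw [he]
        _ = z * (d⁻¹ * g) := by group
  have h35D : 35 ∣ Nat.card D := h35C.trans (hidx ▸ index_dvd_card _)
  have h35X : 35 ∣ Nat.card ↥(D ⊓ L) := by
    have h1 : Nat.card ↥(D ⊓ L) * L.relIndex D = Nat.card D := by
      rw [← inf_relIndex_right L D, inf_comm L D, ← relIndex_bot_left, ← relIndex_bot_left,
        relIndex_mul_relIndex _ _ _ bot_le inf_le_left]
    rw [← h1] at h35D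
    exact (Nat.Coprime.coprime_dvd_right (L.relIndex_dvd_index_of_normal D |>.trans hi)
      (by norm_num)).dvd_of_dvd_mul_right h35D
  have h315 : Nat.card ↥(D ⊓ L) ∣ 315 := by
    have h1 : Nat.card ↥(D ⊓ L) ∣ 20160 := hcard ▸ card_dvd_of_le inf_le_right
    have h2 : Odd (Nat.card ↥(D ⊓ L)) := hD.of_dvd_nat (card_dvd_of_le inf_le_left)
    exact ((Nat.coprime_two_right.2 h2).pow_right 6).dvd_of_dvd_mul_left
      (show Nat.card ↥(D ⊓ L) ∣ 2 ^ 6 * 315 from h1)
  obtain ⟨x, hx⟩ := exists_orderOf_thirtyfive h35X h315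
  have := (hord ⟨(x : Q), x.2.2⟩).2.2
  rw [Subgroup.orderOf_mk, Subgroup.orderOf_coe] at this
  exact this hx

variable {G : Type u} [Group G] [Finite G] {S : Sylow 2 G} {φ : F4 → F4 → F4 → G}

/-- The subgroup generated by the cores is normal. -/
theorem normal_gen (hF : Facts S φ) (hS : Setup S φ) (hIH : IH.{u} (Nat.card G)) {W : Subgroup G}
    (hW : Ctrl S φ W) : normalizer (W : Set G) = ⊤ := by
  haveI : Fact (Nat.Prime 2) := ⟨Nat.prime_two⟩
  by_contra hne
  have hSE := stronglyEmbedded hF hS hW hne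
  set H := normalizer (W : Set G) with hH
  obtain ⟨hzZ, hz1, hz2⟩ := z1_mem hS
  have hnsA : ¬ Small φ := by
    intro hs
    obtain ⟨ha, haZ⟩ := exists_small_ne hS hF
    exact hF.not_ztype_A hs _ ha haZ ⟨1, one_ne_zero, Involutions.SE.isConj hSE hz2
      (orderOf_A hF ha fun e => haZ (e ▸ one_mem _))⟩
  have hnsB : ¬ SmallB φ := by
    intro hs
    have hb : φ 0 1 0 ∈ SB φ := subset_closure ⟨1, 0, rfl⟩
    have hbZ : φ 0 1 0 ∉ SZ φ := fun h => by
      obtain ⟨c, hc⟩ := (hF.mem_Z _).1 h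
      exact zero_ne_one (hS.inj _ _ _ _ _ _ hc).2.1
    exact hF.not_ztype_B hs _ hb hbZ ⟨1, one_ne_zero, Involutions.SE.isConj hSE hz2
      (orderOf_eq_prime (hF.elem_B.2 _ hb) fun e => hbZ (e ▸ one_mem _))⟩
  have hSH : (S : Subgroup G) ≤ H := le_normalizer.trans hW.norm_S
  obtain ⟨S', φ', hS', hφ', -, -, hA', hB'⟩ := hF.quot H hSH
  have hlt : Nat.card (↥H ⧸ oddCore ↥H) < Nat.card G :=
    (Nat.card_le_card_of_surjective _ (QuotientGroup.mk'_surjective (oddCore ↥H))).trans_lt
      (lt_of_le_of_ne H.card_le_card_group fun e => hne (H.card_eq_iff_eq_top.1 e))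
  obtain ⟨L, hLn, hL34, hLi, -⟩ := (hIH _ hlt S' φ' hS').ll
    (hA' (hW.four _ (Or.inl le_rfl) (by rw [hF.card_A]; norm_num)) hnsA)
    (hB' (hW.four _ (Or.inr le_rfl) (by rw [hF.card_B]; norm_num)) hnsB)
  obtain ⟨u, huH, hu⟩ := Involutions.SE.exists_invol_not_mem hSE
  set D : Subgroup G := H ⊓ H.map (MulAut.conj u).toMonoidHom
  have hzH : φ 0 0 1 ∈ H := hSH (hS.mem ..)
  have hDo : Odd (Nat.card ((D.subgroupOf H).map (QuotientGroup.mk' (oddCore ↥H)))) := by
    refine (hSE.2.2 u huH).of_dvd_nat ((card_map_dvd _ _).trans ?_)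
    rw [Nat.card_congr (subgroupOfEquivOfLe (inf_le_left : D ≤ H)).toEquiv]
  refine false_of_transitive (L := L) hL34 hLi hDo (z := φ' 0 0 1) (z1_mem hS').2.2 fun g => ?_
  obtain ⟨h, rfl⟩ := QuotientGroup.mk'_surjective (oddCore ↥H) g
  obtain ⟨⟨d, hd, he⟩, -⟩ := Cfsg.Agent.S1225.result H hSE u hu huH (φ 0 0 1)
    ((h : G) * φ 0 0 1 * (h : G)⁻¹) hz2 hzH (Involutions.conj_invol _ hz2)
    (mul_mem (mul_mem h.2 hzH) (inv_mem h.2))
  refine ⟨_, ⟨⟨d, hd.1⟩, hd, rfl⟩, ?_⟩
  rw [hφ' 0 0 1 hzH]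
  exact congrArg (QuotientGroup.mk' (oddCore ↥H))
    (Subtype.ext he : (⟨d, hd.1⟩ : H) * ⟨φ 0 0 1, hzH⟩ * (⟨d, hd.1⟩ : H)⁻¹ =
      h * ⟨φ 0 0 1, hzH⟩ * h⁻¹)

end CoresAux

end CfsgLib.L34Sylow
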