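import Cfsg.Agent.Lib.L34Sylow.EmbedDefs
import Cfsg.Agent.Lib.L34Sylow.Coords
import Cfsg.Agent.Lib.Base.Cores
import Cfsg.Agent.S0051

/-!
# The embedding into the stabiliser of a line (the second subgroup is normal and not small)
-/

set_option autoImplicit false
set_option linter.style.haveILetI false

namespace CfsgLib.L34Sylow

open Cfsg Subgroup

universe u

/-- The matrix `(M v; 0 1)`. -/
def affMat (m : F4 × F4 × F4 × F4) (v : F4 × F4) : Matrix (Fin 3) (Fin 3) F4 :=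
  !![m.1, m.2.1, v.1; m.2.2.1, m.2.2.2, v.2; 0, 0, 1]

/-- The product of two `2 × 2` matrices. -/
def mmul (m m' : F4 × F4 × F4 × F4) : F4 × F4 × F4 × F4 :=
  (m.1 * m'.1 + m.2.1 * m'.2.2.1, m.1 * m'.2.1 + m.2.1 * m'.2.2.2,
    m.2.2.1 * m'.1 + m.2.2.2 * m'.2.2.1, m.2.2.1 * m'.2.1 + m.2.2.2 * m'.2.2.2)

/-- A matrix applied to a vector. -/
def mvec (m : F4 × F4 × F4 × F4) (v : F4 × F4) : F4 × F4 :=
  (m.1 * v.1 + m.2.1 * v.2, m.2.2.1 * v.1 + m.2.2.2 * v.2)

theorem affMat_mul (m m' : F4 × F4 × F4 × F4) (v v' : F4 × F4) :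
    affMat m v * affMat m' v' = affMat (mmul m m') (mvec m v' + v) := by
  ext i j
  fin_cases i <;> fin_cases j <;>
    simp [affMat, mmul, mvec, Matrix.mul_apply, Fin.sum_univ_three]

theorem det_affMat (m : F4 × F4 × F4 × F4) (v : F4 × F4) :
    (affMat m v).det = m.1 * m.2.2.2 + m.2.1 * m.2.2.1 := by
  rw [Matrix.det_fin_three]
  simp [affMat, sub_eq_add_neg, f4_eq_neg]

theorem embedBS : StmtEmbedBS.{u} := by
  intro hFs hBig G _ _ S φ h hB hn
  classical
  haveI : Fact (Nat.Prime 2) := ⟨Nat.prime_two⟩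
  obtain ⟨ψ, hmul, hinj, hmem, -, hlin, -, -, -⟩ :=
    hBig hFs G S (swap φ) h.swap fun e => hB ((small_swap φ).1 e)
  simp only [SA_swap] at hmem hlin
  haveI := hn
  have hψ : ∀ v : F4 × F4, ψ v.1 v.2 ∈ SB φ := fun v => (hmem _).2 ⟨_, _, rfl⟩
  have hN : ∀ g : G, g ∈ normalizer (SB φ : Set G) := fun g => by
    rw [Subgroup.normalizer_eq_top]
    exact mem_top g
  have hcomm : ∀ x ∈ SB φ, ∀ y ∈ SB φ, x * y = y * x := fun x hx y hy => by
    haveI := h.elem_SB.1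
    exact congrArg Subtype.val (IsMulCommutative.is_comm.comm (⟨x, hx⟩ : SB φ) ⟨y, hy⟩)
  -- `C(B) = B`
  let C : Subgroup G := centralizer ((SB φ : Subgroup G) : Set G)
  have hBC : SB φ ≤ C := fun x hx => mem_centralizer_iff.2 fun y hy => hcomm y hy x hx
  haveI hCn : C.Normal := inferInstance
  have hCB : C ≤ SB φ := by
    haveI := hCn
    obtain ⟨T, hT⟩ := ((S.2.to_le h.SB_le).comap_subtype (K := C)).exists_le_sylow
    have hTB : (T : Subgroup C).map C.subtype = SB φ := by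
      refine le_antisymm ?_ fun x hx => ⟨⟨x, hBC hx⟩, hT hx, rfl⟩
      obtain ⟨U, hU⟩ := (T.2.map C.subtype).exists_le_sylow
      obtain ⟨k, hk⟩ := MulAction.exists_smul_eq G U S
      intro x hx
      have hkx : k * x * k⁻¹ ∈ S := by
        show k * x * k⁻¹ ∈ (S : Subgroup G)
        rw [← hk, Sylow.coe_subgroup_smul]
        exact Subgroup.smul_mem_pointwise_smul x (MulAut.conj k) (U : Subgroup G) (hU hx)
      have hxC : x ∈ C := map_subtype_le _ hx
      have hkC : k * x * k⁻¹ ∈ C := hCn.conj_mem x hxC k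
      obtain ⟨a, b, c, e⟩ := h.surj _ hkx
      have h1 : Commute (φ 0 1 0) (φ a b c) := by
        rw [e]; exact mem_centralizer_iff.1 hkC _ (h.mem_SB.2 ⟨1, 0, rfl⟩)
      rw [h.commute_iff] at h1
      simp only [zero_mul, mul_one, zero_add] at h1
      subst h1
      have h2 : k * x * k⁻¹ ∈ SB φ := e ▸ h.mem_SB.2 ⟨b, c, rfl⟩
      have h3 := hn.conj_mem _ h2 k⁻¹
      simpa [mul_assoc] using h3
    have hP : normalizer ((T : Subgroup C) : Set C) ≤ centralizer ((T : Subgroup C) : Set C) :=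
      fun y _ => mem_centralizer_iff.2 fun t ht => Subtype.ext
        (mem_centralizer_iff.1 y.2 t (hTB ▸ ⟨t, ht, rfl⟩))
    let N := (MonoidHom.transferSylow T hP).ker
    have hNc : N.IsComplement' (T : Subgroup C) := MonoidHom.ker_transferSylow_isComplement' T hP
    have hNodd : Odd (Nat.card N) := by
      rw [← hNc.index_eq_card, ← Nat.not_even_iff_odd, even_iff_two_dvd]
      exact T.not_dvd_index
    have hO : (oddCore C).map C.subtype = ⊥ := by
      rw [eq_bot_iff, ← h.core_bot]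
      exact CfsgLib.Base.le_oddCore
        (Nat.coprime_two_right.1 (CfsgLib.Base.coprime_card_map_pPrimeCore C))
    intro x hx
    obtain ⟨⟨⟨o, ho⟩, ⟨t, ht⟩⟩, e⟩ := hNc.2 ⟨x, hx⟩
    have ho1 : (o : G) = 1 := by
      rw [← Subgroup.mem_bot, ← hO]
      exact ⟨o, CfsgLib.Base.le_oddCore hNodd ho, rfl⟩
    have e' : (o : G) * t = x := congrArg Subtype.val e
    rw [← e', ho1, one_mul, ← hTB]
    exact ⟨t, ht, rfl⟩
  -- a complement
  let A₀ : Subgroup G :=
    { carrier := Set.range fun a => φ a 0 0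
      one_mem' := ⟨0, h.one⟩
      mul_mem' := by
        rintro _ _ ⟨a, rfl⟩ ⟨a', rfl⟩
        exact ⟨a + a', by show φ (a + a') 0 0 = _; rw [h.mul]; simp⟩
      inv_mem' := by
        rintro _ ⟨a, rfl⟩
        exact ⟨a, by show φ a 0 0 = _; rw [h.inv]; simp⟩ }
  have hA₀S : A₀ ≤ (S : Subgroup G) := by
    rintro _ ⟨a, rfl⟩
    exact h.mem ..
  have hAK : A₀ ⊓ SB φ = ⊥ := by
    rw [eq_bot_iff]
    rintro x ⟨⟨a, ha⟩, hx⟩
    obtain ⟨b, c, hb⟩ := h.mem_SB.1 hx
    obtain ⟨e, -, -⟩ := h.inj _ _ _ _ _ _ (ha.trans hb.symm)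
    subst e
    rw [mem_bot, ← ha]
    exact h.one
  have hKA : SB φ ⊔ A₀ = (S : Subgroup G) := by
    refine le_antisymm (sup_le h.SB_le hA₀S) fun x hx => ?_
    obtain ⟨a, b, c, rfl⟩ := h.surj x hx
    rw [show φ a b c = φ 0 b c * φ a 0 0 by rw [h.mul]; simp]
    exact mul_mem (mem_sup_left (h.mem_SB.2 ⟨b, c, rfl⟩)) (mem_sup_right ⟨a, rfl⟩)
  haveI := h.elem_SB.1
  obtain ⟨H, hH⟩ := Cfsg.Agent.S0051.result (SB φ) (S : Subgroup G) h.SB_le (by
    rw [h.card_SB, show (16 : ℕ) = 2 ^ 4 by norm_num]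
    exact ((Nat.Prime.coprime_iff_not_dvd Nat.prime_two).2 S.not_dvd_index).pow_left 4) A₀ hA₀S hAK hKA
  -- the matrices
  choose p q r s hdet hact using fun g : G => hlin g (hN g)
  let M : G → F4 × F4 × F4 × F4 := fun g => (p g, q g, r g, s g)
  have hM : ∀ g v, cj g (ψ v.1 v.2) = ψ (mvec (M g) v).1 (mvec (M g) v).2 := fun g v => hact g _ _
  have hext : ∀ m m' : F4 × F4 × F4 × F4, (∀ v, mvec m v = mvec m' v) → m = m' := by
    intro m m' e
    have e1 := e (1, 0)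
    have e2 := e (0, 1)
    simp only [mvec, mul_one, mul_zero, add_zero, zero_add, Prod.mk.injEq] at e1 e2
    exact Prod.ext e1.1 (Prod.ext e2.1 (Prod.ext e1.2 e2.2))
  have hMeq : ∀ g m, (∀ v : F4 × F4, cj g (ψ v.1 v.2) = ψ (mvec m v).1 (mvec m v).2) → M g = m :=
    fun g m e => hext _ _ fun v => by
      obtain ⟨e1, e2⟩ := hinj _ _ _ _ ((hM g v).symm.trans (e v))
      exact Prod.ext e1 e2
  have hmm : ∀ m m' v, mvec (mmul m m') v = mvec m (mvec m' v) := by
    intro m m' v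
    refine Prod.ext ?_ ?_ <;> simp only [mmul, mvec] <;> ring
  have hMmul : ∀ g g', M (g * g') = mmul (M g) (M g') := fun g g' => hMeq _ _ fun v => by
    rw [hmm, ← hM g, ← hM g']
    simp [cj, mul_assoc]
  have hMB : ∀ x ∈ SB φ, M x = (1, 0, 0, 1) := fun x hx => hMeq _ _ fun v => by
    simp only [mvec, one_mul, zero_mul, add_zero, zero_add]
    exact mul_inv_eq_iff_eq_mul.2 (hcomm x hx _ (hψ v))
  -- the decomposition `g = ψ(w g) h(g)`
  have hdec : ∀ g : G, ∃ v : F4 × F4, (ψ v.1 v.2)⁻¹ * g ∈ H := by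
    intro g
    obtain ⟨⟨⟨x, hx⟩, ⟨y, hy⟩⟩, e⟩ := hH.2 g
    obtain ⟨a, b, hab⟩ := (hmem x).1 hx
    refine ⟨(a, b), ?_⟩
    show (ψ a b)⁻¹ * g ∈ H
    rw [hab, show g = x * y from e.symm, inv_mul_cancel_left]
    exact hy
  choose w hw using hdec
  have huniq : ∀ g v, (ψ v.1 v.2)⁻¹ * g ∈ H → v = w g := by
    intro g v hv
    have h1 : (ψ (w g).1 (w g).2)⁻¹ * ψ v.1 v.2 ∈ H := by
      have := mul_mem (hw g) (inv_mem hv)
      simpa [mul_assoc] using this
    have h2 : (ψ (w g).1 (w g).2)⁻¹ * ψ v.1 v.2 ∈ SB φ := mul_mem (inv_mem (hψ _)) (hψ v)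
    have h3 := hH.disjoint.le_bot ⟨h2, h1⟩
    rw [mem_bot, inv_mul_eq_one] at h3
    obtain ⟨e1, e2⟩ := hinj _ _ _ _ h3
    exact (Prod.ext e1 e2).symm
  have hwmul : ∀ g g', w (g * g') = mvec (M g) (w g') + w g := by
    intro g g'
    refine (huniq _ _ ?_).symm
    rw [Prod.fst_add, Prod.snd_add, ← hmul, ← hM g]
    have key : ∀ x y x' : G, (y * x' * y⁻¹ * x)⁻¹ * (y * g') = x⁻¹ * y * (x'⁻¹ * g') := by
      intro x y x'; group
    rw [cj, key]
    exact mul_mem (hw g) (hw g')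
  have hdet0 : ∀ g, (affMat (M g) (w g)).det ≠ 0 := fun g => by
    rw [det_affMat]; exact hdet g
  let F : G → GL (Fin 3) F4 := fun g =>
    Matrix.GeneralLinearGroup.mkOfDetNeZero (affMat (M g) (w g)) (hdet0 g)
  let f : G →* GL (Fin 3) F4 := MonoidHom.mk' F fun g g' => Units.ext (by
    show affMat (M (g * g')) (w (g * g')) = affMat (M g) (w g) * affMat (M g') (w g')
    rw [affMat_mul, hMmul, hwmul])
  refine ⟨(QuotientGroup.mk' _).comp f, (injective_iff_map_eq_one _).2 fun g hg => ?_⟩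
  have hc : f g ∈ Subgroup.center (GL (Fin 3) F4) := (QuotientGroup.eq_one_iff _).1 hg
  rw [Matrix.GeneralLinearGroup.center_eq_range_scalar] at hc
  obtain ⟨u, hu⟩ := hc
  have hu' : Matrix.scalar (Fin 3) (u : F4) = affMat (M g) (w g) := congrArg Units.val hu
  have h22 := congrFun (congrFun hu' 2) 2
  have h00 := congrFun (congrFun hu' 0) 0
  have h01 := congrFun (congrFun hu' 0) 1
  have h02 := congrFun (congrFun hu' 0) 2
  have h10 := congrFun (congrFun hu' 1) 0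
  have h11 := congrFun (congrFun hu' 1) 1
  have h12 := congrFun (congrFun hu' 1) 2
  simp [affMat, Matrix.scalar_apply] at h22 h00 h01 h02 h10 h11 h12
  have hMg : M g = (1, 0, 0, 1) := by
    refine Prod.ext ?_ (Prod.ext h01.symm (Prod.ext h10.symm ?_))
    · exact h00.symm.trans (by rw [h22]; rfl)
    · exact h11.symm.trans (by rw [h22]; rfl)
  have hgB : g ∈ SB φ := hCB (mem_centralizer_iff.2 fun x hx => by
    obtain ⟨a, b, rfl⟩ := (hmem x).1 hx
    have e := hM g (a, b)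
    rw [hMg] at e
    simp only [mvec, one_mul, zero_mul, add_zero, zero_add] at e
    exact (mul_inv_eq_iff_eq_mul.1 e).symm)
  obtain ⟨a, b, hab⟩ := (hmem g).1 hgB
  have h4 := huniq g (a, b) (by
    show (ψ a b)⁻¹ * g ∈ H
    rw [hab, inv_mul_cancel]; exact one_mem _)
  have hwg : w g = (0, 0) := Prod.ext h02.symm h12.symm
  rw [hwg, Prod.mk.injEq] at h4
  obtain ⟨rfl, rfl⟩ := h4
  have e0 := hmul 0 0 0 0
  simp only [add_zero] at e0
  rw [← hab]
  exact mul_eq_left.1 e0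

end CfsgLib.L34Sylow
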