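import Cfsg.Agent.Lib.L34Sylow.EmbedDefs
import Cfsg.Agent.Lib.KnownB.PSLAut.Out

/-!
# The embedding when a normal subgroup of index dividing three is `PSL₃(4)`
-/

set_option autoImplicit false
set_option linter.style.haveILetI false

namespace CfsgLib.L34Sylow

open Cfsg Subgroup CfsgLib.KnownB.PSLAut

universe u

/-- Piece 9c. -/
theorem embedLL : StmtEmbedLL.{u} := by
  intro G _ _ L hLn hL hidx hcent
  classical
  haveI := hLn
  obtain ⟨F, iF, jF, hF, ⟨e⟩⟩ := hL
  let ρ : G →* MulAut L := MulAut.conjNormal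
  have hρ : Function.Injective ρ := (injective_iff_map_eq_one ρ).2 fun g hg => by
    have : g ∈ centralizer (L : Set G) := mem_centralizer_iff.2 fun v hv => by
      have h := congrArg (fun a : MulAut L => ((a ⟨v, hv⟩ : L) : G)) hg
      simp only [ρ, MulAut.conjNormal_apply, MulAut.one_apply] at h
      exact (mul_inv_eq_iff_eq_mul.1 h).symm
    rw [hcent] at this
    exact mem_bot.1 this
  let τ : G →* MulAut (Matrix.ProjectiveSpecialLinearGroup (Fin 3) F) :=
    (MulAut.congr e).toMonoidHom.comp ρ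
  have hτ : Function.Injective τ := (MulAut.congr e).injective.comp hρ
  obtain ⟨π, -, hπk⟩ := exists_proj_big (n := 3) (F := F) le_rfl
  let χ := π.comp τ
  -- the image of `L` consists of inner automorphisms
  have hLk : L ≤ χ.ker := by
    intro v hv
    have hinner : τ v = MulAut.conj (e ⟨v, hv⟩) := by
      refine MulEquiv.ext fun x => ?_
      show e (MulAut.conjNormal v (e.symm x)) = e ⟨v, hv⟩ * x * (e ⟨v, hv⟩)⁻¹
      rw [show (MulAut.conjNormal v : MulAut L) (e.symm x) = ⟨v, hv⟩ * e.symm x * ⟨v, hv⟩⁻¹ from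
        Subtype.ext (MulAut.conjNormal_apply v _), map_mul, map_mul, map_inv, MulEquiv.apply_symm_apply]
    have h1 : τ v ∈ Cfsg.Inn (Matrix.ProjectiveSpecialLinearGroup (Fin 3) F) := ⟨_, hinner.symm⟩
    rw [inn_eq] at h1
    obtain ⟨s, hs⟩ := h1
    have h2 : τ v ∈ π.ker := hπk.symm ▸ ⟨_, hs⟩
    exact h2
  have hχ : ∀ g, χ g = 1 := by
    intro g
    have h3 : Nat.card χ.range ∣ 3 := by
      rw [← index_ker]
      exact (index_dvd_of_le hLk).trans hidx
    have hgal : Nat.card (F ≃+* F) = 2 := by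
      haveI : Fact (Nat.Prime 2) := ⟨Nat.prime_two⟩
      exact card_gal (p := 2) (f := 2) (by norm_num) (by rw [hF]; norm_num)
    have h4 : Nat.card χ.range ∣ 4 := by
      refine (card_subgroup_dvd_card _).trans ?_
      rw [Nat.card_prod, hgal, Nat.card_congr Multiplicative.toAdd, Nat.card_zmod]
    have h1 : Nat.card χ.range = 1 :=
      Nat.eq_one_of_dvd_coprimes (by norm_num : Nat.Coprime 3 4) h3 h4
    haveI := (Nat.card_eq_one_iff_unique.1 h1).1
    have h5 : (⟨χ g, g, rfl⟩ : χ.range) = 1 := Subsingleton.elim _ _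
    exact congrArg Subtype.val h5
  have hrange : ∀ g, τ g ∈ (δ : GL (Fin 3) F →* _).range := fun g => by
    rw [← hπk]; exact hχ g
  -- to the quotient by the centre
  let d : (GL (Fin 3) F ⧸ center (GL (Fin 3) F)) ≃* (δ : GL (Fin 3) F →* _).range :=
    (QuotientGroup.quotientMulEquivOfEq (ker_δ (n := 3) (F := F) (by norm_num)).symm).trans
      (QuotientGroup.quotientKerEquivRange _)
  let r : F ≃+* F4 := FiniteField.ringEquivOfCardEq (hF.trans (by decide))
  let m : GL (Fin 3) F ≃* GL (Fin 3) F4 := Units.mapEquiv r.mapMatrix.toMulEquiv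
  let q : (GL (Fin 3) F ⧸ center (GL (Fin 3) F)) ≃* PGL34 :=
    QuotientGroup.congr _ _ m (by
      ext x
      constructor
      · rintro ⟨y, hy, rfl⟩
        refine mem_center_iff.2 fun w => ?_
        obtain ⟨w', rfl⟩ := m.surjective w
        show m w' * m y = m y * m w'
        rw [← map_mul, ← map_mul, mem_center_iff.1 hy w']
      · intro hx
        obtain ⟨y, rfl⟩ := m.surjective x
        exact ⟨y, mem_center_iff.2 fun w => m.injective (by
          rw [map_mul, map_mul, mem_center_iff.1 hx (m w)]), rfl⟩)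
  exact ⟨q.toMonoidHom.comp (d.symm.toMonoidHom.comp (τ.codRestrict _ hrange)),
    q.injective.comp (d.symm.injective.comp (fun a b h => hτ (congrArg Subtype.val h)))⟩

end CfsgLib.L34Sylow
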