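import Cfsg.Agent.Lib.L34Sylow.EmbedDefs
import Cfsg.Agent.Lib.L34Sylow.Coords
import Cfsg.Agent.Lib.Base.Cores

/-!
# The embedding into the Borel subgroup (the Sylow subgroup is normal)
-/

set_option autoImplicit false
set_option linter.style.haveILetI false

namespace CfsgLib.L34Sylow

open Cfsg Subgroup

universe u

/-- The matrix of `φ a b c · h` for `h` with scalars `l`, `m`. -/
def borelMat (a b c l m : F4) : Matrix (Fin 3) (Fin 3) F4 :=
  !![l * m, a * m, c; 0, m, b; 0, 0, 1]

theorem borelMat_mul (a b c l m a' b' c' l' m' : F4) :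
    borelMat a b c l m * borelMat a' b' c' l' m' =
      borelMat (a + l * a') (b + m * b') (c + l * m * c' + a * (m * b')) (l * l') (m * m') := by
  ext i j
  fin_cases i <;> fin_cases j <;>
    simp [borelMat, Matrix.mul_apply, Fin.sum_univ_three] <;> ring

theorem det_borelMat (a b c l m : F4) : (borelMat a b c l m).det = l * m * m := by
  rw [Matrix.det_fin_three]
  simp [borelMat]

theorem f4_nsmul_odd {n : ℕ} (hn : Odd n) (x : F4) : n • x = x := by
  obtain ⟨k, rfl⟩ := hn
  rw [add_nsmul, one_nsmul, mul_comm 2 k, mul_nsmul', two_nsmul, f4_char, nsmul_zero, zero_add]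

theorem embedSS : StmtEmbedSS.{u} := by
  intro hFs G _ _ S φ h hn
  classical
  haveI : Fact (Nat.Prime 2) := ⟨Nat.prime_two⟩
  haveI := hn
  have hF := hFs G S φ h
  have hN : ∀ g : G, g ∈ normalizer (S : Set G) := fun g => by
    show g ∈ normalizer ((S : Subgroup G) : Set G)
    rw [Subgroup.normalizer_eq_top]
    exact mem_top g
  obtain ⟨H, hH⟩ := Subgroup.exists_right_complement'_of_coprime (N := (S : Subgroup G))
    (by
      rw [h.card_S, show (64 : ℕ) = 2 ^ 6 by norm_num]
      exact ((Nat.Prime.coprime_iff_not_dvd Nat.prime_two).2 S.not_dvd_index).pow_left 6)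
  have hHodd : Odd (Nat.card H) := by
    rw [← hH.symm.index_eq_card]
    exact Nat.not_even_iff_odd.1 fun e => S.not_dvd_index (even_iff_two_dvd.1 e)
  choose l m hl hm hab hcc using fun g : G => hF.scal g (hN g)
  choose δ hδ using hab
  have hlm : ∀ g k : G, l (g * k) = l g * l k ∧ m (g * k) = m g * m k ∧
      ∀ a b, δ (g * k) a b = δ g (l k * a) (m k * b) + l g * m g * δ k a b := by
    intro g k
    have e : ∀ a b, φ (l (g * k) * a) (m (g * k) * b) (δ (g * k) a b) =
        φ (l g * (l k * a)) (m g * (m k * b))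
          (δ g (l k * a) (m k * b) + l g * m g * δ k a b) := by
      intro a b
      rw [← hδ (g * k) a b,
        show cj (g * k) (φ a b 0) = cj g (cj k (φ a b 0)) by simp [cj, mul_assoc], hδ k a b,
        h.split _ _ (δ k a b),
        show cj g (φ (l k * a) (m k * b) 0 * φ 0 0 (δ k a b)) =
          cj g (φ (l k * a) (m k * b) 0) * cj g (φ 0 0 (δ k a b)) by simp [cj, mul_assoc],
        hδ g, hcc g, h.mul]
      simp
    refine ⟨?_, ?_, fun a b => (h.inj _ _ _ _ _ _ (e a b)).2.2⟩
    · simpa using (h.inj _ _ _ _ _ _ (e 1 1)).1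
    · simpa using (h.inj _ _ _ _ _ _ (e 1 1)).2.1
  have δaddA : ∀ g a a', δ g (a + a') 0 = δ g a 0 + δ g a' 0 := by
    intro g a a'
    have e : cj g (φ (a + a') 0 0) = cj g (φ a 0 0) * cj g (φ a' 0 0) := by
      rw [show φ (a + a') 0 0 = φ a 0 0 * φ a' 0 0 by rw [h.mul]; simp]
      simp [cj, mul_assoc]
    rw [hδ, hδ, hδ, h.mul] at e
    simpa using (h.inj _ _ _ _ _ _ e).2.2
  have δaddB : ∀ g b b', δ g 0 (b + b') = δ g 0 b + δ g 0 b' := by
    intro g b b'
    have e : cj g (φ 0 (b + b') 0) = cj g (φ 0 b 0) * cj g (φ 0 b' 0) := by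
      rw [show φ 0 (b + b') 0 = φ 0 b 0 * φ 0 b' 0 by rw [h.mul]; simp]
      simp [cj, mul_assoc]
    rw [hδ, hδ, hδ, h.mul] at e
    simpa using (h.inj _ _ _ _ _ _ e).2.2
  -- the averaged sections
  haveI : Fintype H := Fintype.ofFinite H
  have hcardH : Odd (Fintype.card H) := Nat.card_eq_fintype_card (α := H) ▸ hHodd
  let α : F4 → F4 := fun a => ∑ k : H, δ (k : G) ((l (k : G))⁻¹ * a) 0
  let β : F4 → F4 := fun b => ∑ k : H, δ (k : G) 0 ((m (k : G))⁻¹ * b)
  have αadd : ∀ a a', α (a + a') = α a + α a' := fun a a' => by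
    simp only [α, mul_add, δaddA, Finset.sum_add_distrib]
  have βadd : ∀ b b', β (b + b') = β b + β b' := fun b b' => by
    simp only [β, mul_add, δaddB, Finset.sum_add_distrib]
  have α0 : α 0 = 0 := by simpa using αadd 0 0
  have β0 : β 0 = 0 := by simpa using βadd 0 0
  have hα : ∀ x : H, ∀ a, α (l (x : G) * a) = l (x : G) * m (x : G) * α a + δ (x : G) a 0 := by
    intro x a
    show ∑ k : H, δ (k : G) ((l (k : G))⁻¹ * (l (x : G) * a)) 0 = _
    rw [← Equiv.sum_comp (Equiv.mulLeft x)]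
    have key : ∀ k : H, δ ((Equiv.mulLeft x k : H) : G)
        ((l ((Equiv.mulLeft x k : H) : G))⁻¹ * (l (x : G) * a)) 0 =
        δ (x : G) a 0 + l (x : G) * m (x : G) * δ (k : G) ((l (k : G))⁻¹ * a) 0 := by
      intro k
      rw [Equiv.coe_mulLeft, Subgroup.coe_mul]
      obtain ⟨e1, -, e3⟩ := hlm x k
      rw [e3, mul_zero, e1]
      have h1 : (l (x : G) * l (k : G))⁻¹ * (l (x : G) * a) = (l (k : G))⁻¹ * a := by
        have := hl (x : G)
        field_simp
      rw [h1, mul_inv_cancel_left₀ (hl _)]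
    rw [Finset.sum_congr rfl fun k _ => key k, Finset.sum_add_distrib, Finset.sum_const,
      ← Finset.mul_sum, Finset.card_univ, f4_nsmul_odd hcardH, add_comm]
  have hβ : ∀ x : H, ∀ b, β (m (x : G) * b) = l (x : G) * m (x : G) * β b + δ (x : G) 0 b := by
    intro x b
    show ∑ k : H, δ (k : G) 0 ((m (k : G))⁻¹ * (m (x : G) * b)) = _
    rw [← Equiv.sum_comp (Equiv.mulLeft x)]
    have key : ∀ k : H, δ ((Equiv.mulLeft x k : H) : G) 0
        ((m ((Equiv.mulLeft x k : H) : G))⁻¹ * (m (x : G) * b)) =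
        δ (x : G) 0 b + l (x : G) * m (x : G) * δ (k : G) 0 ((m (k : G))⁻¹ * b) := by
      intro k
      rw [Equiv.coe_mulLeft, Subgroup.coe_mul]
      obtain ⟨-, e2, e3⟩ := hlm x k
      rw [e3, mul_zero, e2]
      have h1 : (m (x : G) * m (k : G))⁻¹ * (m (x : G) * b) = (m (k : G))⁻¹ * b := by
        have := hm (x : G)
        field_simp
      rw [h1, mul_inv_cancel_left₀ (hm _)]
    rw [Finset.sum_congr rfl fun k _ => key k, Finset.sum_add_distrib, Finset.sum_const,
      ← Finset.mul_sum, Finset.card_univ, f4_nsmul_odd hcardH, add_comm]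
  -- the new coordinates
  let χ : F4 → F4 → F4 → G := fun a b c => φ a b (c + (α a + β b))
  have χmul : ∀ a b c a' b' c', χ a b c * χ a' b' c' = χ (a + a') (b + b') (c + c' + a * b') := by
    intro a b c a' b' c'
    show φ _ _ _ * φ _ _ _ = φ _ _ _
    rw [h.mul, αadd, βadd]
    congr 1
    abel
  have χinj : ∀ a b c a' b' c', χ a b c = χ a' b' c' → a = a' ∧ b = b' ∧ c = c' := by
    intro a b c a' b' c' e
    obtain ⟨rfl, rfl, e3⟩ := h.inj _ _ _ _ _ _ e
    exact ⟨rfl, rfl, add_right_cancel e3⟩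
  have χone : χ 0 0 0 = 1 := by
    show φ 0 0 _ = 1
    rw [α0, β0, add_zero, add_zero, h.one]
  have χconj : ∀ x : H, ∀ a b c, cj (x : G) (χ a b c) =
      χ (l (x : G) * a) (m (x : G) * b) (l (x : G) * m (x : G) * c) := by
    intro x a b c
    have e1 : cj (x : G) (χ a 0 0) = χ (l (x : G) * a) 0 0 := by
      show cj (x : G) (φ a 0 (0 + (α a + β 0))) = φ _ 0 (0 + (α _ + β 0))
      rw [β0, add_zero, zero_add, add_zero, zero_add, h.split a 0 (α a),
        show cj (x : G) (φ a 0 0 * φ 0 0 (α a)) = cj (x : G) (φ a 0 0) * cj (x : G) (φ 0 0 (α a))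
          by simp [cj, mul_assoc], hδ, hcc, h.mul, hα x a]
      congr 1 <;> simp [add_comm]
    have e2 : cj (x : G) (χ 0 b 0) = χ 0 (m (x : G) * b) 0 := by
      show cj (x : G) (φ 0 b (0 + (α 0 + β b))) = φ 0 _ (0 + (α 0 + β _))
      rw [α0, zero_add, zero_add, zero_add, zero_add, h.split 0 b (β b),
        show cj (x : G) (φ 0 b 0 * φ 0 0 (β b)) = cj (x : G) (φ 0 b 0) * cj (x : G) (φ 0 0 (β b))
          by simp [cj, mul_assoc], hδ, hcc, h.mul, hβ x b]
      congr 1 <;> simp [add_comm]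
    have e3 : ∀ d, cj (x : G) (χ 0 0 d) = χ 0 0 (l (x : G) * m (x : G) * d) := by
      intro d
      show cj (x : G) (φ 0 0 (d + (α 0 + β 0))) = φ 0 0 (_ + (α 0 + β 0))
      rw [α0, β0, add_zero, add_zero, hcc, add_zero]
    have e4 : χ a b c = χ a 0 0 * χ 0 b 0 * χ 0 0 (c + a * b) := by
      rw [χmul, χmul]
      congr 1 <;> simp
      have key : ∀ c y : F4, c = y + (c + y) := by decide
      exact key _ _
    rw [e4, show cj (x : G) (χ a 0 0 * χ 0 b 0 * χ 0 0 (c + a * b)) =
      cj (x : G) (χ a 0 0) * cj (x : G) (χ 0 b 0) * cj (x : G) (χ 0 0 (c + a * b))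
        by simp [cj, mul_assoc], e1, e2, e3, χmul, χmul]
    congr 1 <;> simp
    have key : ∀ a b c l m : F4, l * a * (m * b) + l * m * (c + a * b) = l * m * c := by
      intro a b c l m
      linear_combination f4_char (l * m * a * b)
    exact key ..
  have hdec : ∀ g : G, ∃ v : F4 × F4 × F4, (χ v.1 v.2.1 v.2.2)⁻¹ * g ∈ H := by
    intro g
    obtain ⟨⟨⟨x, hx⟩, ⟨y, hy⟩⟩, e⟩ := hH.2 g
    obtain ⟨a, b, c, habc⟩ := h.surj x hx
    refine ⟨(a, b, c + (α a + β b)), ?_⟩
    have key : ∀ c t : F4, c + t + t = c := by decide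
    show (φ a b (c + (α a + β b) + (α a + β b)))⁻¹ * g ∈ H
    rw [key, habc, show g = x * y from e.symm, inv_mul_cancel_left]
    exact hy
  choose w hw using hdec
  let η : G → H := fun g => ⟨_, hw g⟩
  have hgdec : ∀ g, g = χ (w g).1 (w g).2.1 (w g).2.2 * (η g : G) := fun g =>
    (mul_inv_cancel_left _ _).symm
  have huniq : ∀ g a b c, ∀ y : H, g = χ a b c * (y : G) → w g = (a, b, c) ∧ η g = y := by
    intro g a b c y e
    have e' : χ (w g).1 (w g).2.1 (w g).2.2 * (η g : G) = χ a b c * (y : G) :=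
      (hgdec g).symm.trans e
    have hinj := hH.1 (a₁ := (⟨_, h.mem (w g).1 (w g).2.1 _⟩, η g))
      (a₂ := (⟨_, h.mem a b _⟩, y)) e'
    obtain ⟨e1, e2⟩ := Prod.mk.injEq _ _ _ _ ▸ hinj
    obtain ⟨h1, h2, h3⟩ := χinj _ _ _ _ _ _ (congrArg Subtype.val e1)
    exact ⟨Prod.ext h1 (Prod.ext h2 h3), e2⟩
  let F : G → GL (Fin 3) F4 := fun g =>
    Matrix.GeneralLinearGroup.mkOfDetNeZero
      (borelMat (w g).1 (w g).2.1 (w g).2.2 (l (η g : G)) (m (η g : G)))
      (by rw [det_borelMat]; exact mul_ne_zero (mul_ne_zero (hl _) (hm _)) (hm _))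
  let f : G →* GL (Fin 3) F4 := MonoidHom.mk' F fun g g' => Units.ext (by
    obtain ⟨ew, eη⟩ := huniq (g * g') ((w g).1 + l (η g : G) * (w g').1)
      ((w g).2.1 + m (η g : G) * (w g').2.1)
      ((w g).2.2 + l (η g : G) * m (η g : G) * (w g').2.2 + (w g).1 * (m (η g : G) * (w g').2.1))
      (η g * η g') (by
        rw [← χmul, ← χconj (η g)]
        conv_lhs => rw [hgdec g, hgdec g']
        simp [cj, mul_assoc])
    show borelMat (w (g * g')).1 (w (g * g')).2.1 (w (g * g')).2.2 (l (η (g * g') : G))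
        (m (η (g * g') : G)) = borelMat (w g).1 (w g).2.1 (w g).2.2 (l (η g : G)) (m (η g : G)) *
      borelMat (w g').1 (w g').2.1 (w g').2.2 (l (η g' : G)) (m (η g' : G))
    rw [borelMat_mul, ew, eη, Subgroup.coe_mul, (hlm (η g : G) (η g' : G)).1,
      (hlm (η g : G) (η g' : G)).2.1])
  -- an element of `H` with trivial scalars is trivial
  have hker : ∀ y : H, l (y : G) = 1 → m (y : G) = 1 → y = 1 := by
    intro y hly hmy
    have hc : (y : G) ∈ centralizer ((S : Subgroup G) : Set G) := by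
      refine mem_centralizer_iff.2 fun s hs => ?_
      obtain ⟨a, b, c, rfl⟩ := h.surj s hs
      have key : ∀ c t : F4, c + t + t = c := by decide
      have e := χconj y a b (c + (α a + β b))
      rw [hly, hmy, one_mul, one_mul, one_mul, one_mul] at e
      have e' : cj (y : G) (φ a b c) = φ a b c := by
        have : χ a b (c + (α a + β b)) = φ a b c := congrArg _ (key _ _)
        rwa [this] at e
      exact (mul_inv_eq_iff_eq_mul.1 e').symm
    let C : Subgroup G := centralizer ((S : Subgroup G) : Set G)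
    haveI hCn : C.Normal := inferInstance
    let T : Sylow 2 C :=
      (IsPGroup.comap_subtype (K := C) S.2).toSylow fun hd =>
        S.not_dvd_index (hd.trans (Subgroup.relIndex_dvd_index_of_normal (S : Subgroup G) C))
    have hP : normalizer ((T : Subgroup C) : Set C) ≤ centralizer ((T : Subgroup C) : Set C) :=
      fun k _ => mem_centralizer_iff.2 fun t ht => Subtype.ext
        (mem_centralizer_iff.1 k.2 t ht)
    let N := (MonoidHom.transferSylow T hP).ker
    have hNc : N.IsComplement' (T : Subgroup C) := MonoidHom.ker_transferSylow_isComplement' T hP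
    have hNodd : Odd (Nat.card N) := by
      rw [← hNc.index_eq_card, ← Nat.not_even_iff_odd, even_iff_two_dvd]
      exact T.not_dvd_index
    have hO : (oddCore C).map C.subtype = ⊥ := by
      rw [eq_bot_iff, ← h.core_bot]
      exact CfsgLib.Base.le_oddCore
        (Nat.coprime_two_right.1 (CfsgLib.Base.coprime_card_map_pPrimeCore C))
    obtain ⟨⟨⟨o, ho⟩, ⟨t, ht⟩⟩, e⟩ := hNc.2 ⟨y, hc⟩
    have ho1 : (o : G) = 1 := by
      rw [← Subgroup.mem_bot, ← hO]
      exact ⟨o, CfsgLib.Base.le_oddCore hNodd ho, rfl⟩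
    have e' : (o : G) * t = (y : G) := congrArg Subtype.val e
    have hyS : (y : G) ∈ (S : Subgroup G) := by
      rw [← e', ho1, one_mul]
      exact ht
    exact Subtype.ext (hH.disjoint.le_bot ⟨hyS, y.2⟩)
  refine ⟨(QuotientGroup.mk' _).comp f, (injective_iff_map_eq_one _).2 fun g hg => ?_⟩
  have hc : f g ∈ Subgroup.center (GL (Fin 3) F4) := (QuotientGroup.eq_one_iff _).1 hg
  rw [Matrix.GeneralLinearGroup.center_eq_range_scalar] at hc
  obtain ⟨u, hu⟩ := hc
  have hu' : Matrix.scalar (Fin 3) (u : F4) =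
      borelMat (w g).1 (w g).2.1 (w g).2.2 (l (η g : G)) (m (η g : G)) := congrArg Units.val hu
  have h22 := congrFun (congrFun hu' 2) 2
  have h00 := congrFun (congrFun hu' 0) 0
  have h01 := congrFun (congrFun hu' 0) 1
  have h02 := congrFun (congrFun hu' 0) 2
  have h11 := congrFun (congrFun hu' 1) 1
  have h12 := congrFun (congrFun hu' 1) 2
  simp [borelMat, Matrix.scalar_apply] at h22 h00 h01 h02 h11 h12
  have hu1 : (u : F4) = 1 := by rw [h22]; rfl
  have hm1 : m (η g : G) = 1 := h11.symm.trans hu1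
  have hl1 : l (η g : G) = 1 := by
    have := h00.symm.trans hu1
    rwa [hm1, mul_one] at this
  have hη := hker _ hl1 hm1
  have ha : (w g).1 = 0 := h01.resolve_right fun e => zero_ne_one (e.symm.trans hm1)
  rw [hgdec g, hη, OneMemClass.coe_one, mul_one, ha, ← h12, ← h02]
  exact χone

end CfsgLib.L34Sylow
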