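import Cfsg.Agent.Lib.L34Sylow.EmbedMain
import Cfsg.Agent.Lib.L34Sylow.EmbedSS
import Cfsg.Agent.Lib.L34Sylow.EmbedBS
import Cfsg.Agent.Lib.L34Sylow.EmbedLL

/-!
# The embeddings into `PGL₃(4)`
-/

set_option autoImplicit false

namespace CfsgLib.L34Sylow

universe u

theorem embed : StmtEmbed.{u} := embed_of embedSS embedBS embedLL

end CfsgLib.L34Sylow
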