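import Cfsg.Agent.Lib.L34Sylow.Defs

/-!
# The embeddings into `PGL₃(4)`: the three parts
-/

set_option autoImplicit false

namespace CfsgLib.L34Sylow

open Cfsg Subgroup

universe u

/-- The Sylow subgroup is normal. -/
def StmtEmbedSS : Prop := StmtFacts.{u} →
  ∀ (G : Type u) [Group G] [Finite G] (S : Sylow 2 G) (φ : F4 → F4 → F4 → G),
  Setup S φ → (S : Subgroup G).Normal → ∃ f : G →* PGL34, Function.Injective f

/-- The second elementary subgroup is normal and not small. -/
def StmtEmbedBS : Prop := StmtFacts.{u} → StmtBig.{u} →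
  ∀ (G : Type u) [Group G] [Finite G] (S : Sylow 2 G) (φ : F4 → F4 → F4 → G),
  Setup S φ → ¬ SmallB φ → (SB φ).Normal → ∃ f : G →* PGL34, Function.Injective f

/-- A normal subgroup of index dividing three is `PSL₃(4)`. -/
def StmtEmbedLL : Prop := ∀ (G : Type u) [Group G] [Finite G] (L : Subgroup G), L.Normal →
  Recog.CIT.IsL34 L → L.index ∣ 3 → centralizer (L : Set G) = ⊥ →
    ∃ f : G →* PGL34, Function.Injective f

end CfsgLib.L34Sylow
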