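import Cfsg.Agent.Lib.L34Sylow.Defs

/-!
# Exchanging the two elementary subgroups
-/

set_option autoImplicit false
set_option linter.style.haveILetI false

namespace CfsgLib.L34Sylow

open Cfsg Subgroup

universe u

variable {G : Type u} [Group G] (φ : F4 → F4 → F4 → G)

theorem swap_swap : swap (swap φ) = φ := by
  funext a b c
  simp only [swap]
  congr 1
  have key : ∀ a b c : F4, c + a * b + b * a = c := by decide
  exact key a b c

theorem SA_swap : SA (swap φ) = SB φ := by
  refine congrArg Subgroup.closure (Set.ext fun g => exists_congr fun a => exists_congr fun c => ?_)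
  simp [swap]

theorem SB_swap : SB (swap φ) = SA φ := by
  refine congrArg Subgroup.closure (Set.ext fun g => exists_congr fun a => exists_congr fun c => ?_)
  simp [swap]

theorem SZ_swap : SZ (swap φ) = SZ φ := by
  refine congrArg Subgroup.closure (Set.ext fun g => exists_congr fun c => ?_)
  simp [swap]

theorem small_swap : Small (swap φ) ↔ SmallB φ := by
  rw [Small, SmallB, SA_swap, SZ_swap]

theorem smallB_swap : SmallB (swap φ) ↔ Small φ := by
  rw [Small, SmallB, SB_swap, SZ_swap]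

theorem ztype_swap (g : G) : ZType (swap φ) g ↔ ZType φ g := by
  simp [ZType, swap]

variable {φ}

theorem scal_swap {S : Sylow 2 G} (hS : Setup S φ) {h : G} {l m : F4} (hs : Scal φ h l m) :
    Scal (swap φ) h m l := by
  obtain ⟨hl, hm, h1, h2⟩ := hs
  refine ⟨hm, hl, fun a b => ?_, fun c => ?_⟩
  · obtain ⟨c', hc'⟩ := h1 b a
    refine ⟨c' + l * m * (a * b) + m * a * (l * b), ?_⟩
    have key : ∀ x y : F4, x + y + y = x := by decide
    simp only [swap, key]
    have hne : φ b a (0 + a * b) = φ b a 0 * φ 0 0 (a * b) := by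
      rw [hS.mul]; simp
    have hz := h2 (a * b)
    simp only [cj] at hc' hz ⊢
    rw [hne, show h * (φ b a 0 * φ 0 0 (a * b)) * h⁻¹ =
      h * φ b a 0 * h⁻¹ * (h * φ 0 0 (a * b) * h⁻¹) by group, hc', hz, hS.mul]
    simp
  · simp only [swap, mul_zero, add_zero]
    rw [mul_comm m l]
    exact h2 c

theorem hasMu_swap {S : Sylow 2 G} (hS : Setup S φ) : HasMu S (swap φ) ↔ HasLam S φ :=
  ⟨fun ⟨h, hh, m, hm, hs⟩ => ⟨h, hh, m, hm, by simpa [swap_swap] using scal_swap hS.swap hs⟩,
    fun ⟨h, hh, m, hm, hs⟩ => ⟨h, hh, m, hm, scal_swap hS hs⟩⟩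

theorem hasLam_swap {S : Sylow 2 G} (hS : Setup S φ) : HasLam S (swap φ) ↔ HasMu S φ :=
  ⟨fun ⟨h, hh, m, hm, hs⟩ => ⟨h, hh, m, hm, by simpa [swap_swap] using scal_swap hS.swap hs⟩,
    fun ⟨h, hh, m, hm, hs⟩ => ⟨h, hh, m, hm, scal_swap hS hs⟩⟩

end CfsgLib.L34Sylow
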