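import Cfsg.Agent.Lib.L34Sylow.EmbedDefs
import Cfsg.Agent.Lib.L34Sylow.Swap

/-!
# The embeddings: assembly
-/

set_option autoImplicit false

namespace CfsgLib.L34Sylow

open Cfsg Subgroup

universe u

theorem embed_of (hss : StmtEmbedSS.{u}) (hbs : StmtEmbedBS.{u}) (hll : StmtEmbedLL.{u}) :
    StmtEmbed.{u} := by
  intro hF hB G _ _ S φ h o
  by_cases hA : Small φ
  · by_cases hB' : SmallB φ
    · exact hss hF G S φ h (o.ss hA hB')
    · exact hbs hF hB G S φ h hB' (o.bs hA hB')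
  · by_cases hB' : SmallB φ
    · refine hbs hF hB G S (swap φ) h.swap (fun e => hA ((smallB_swap φ).1 e)) ?_
      rw [SB_swap]
      exact o.sb hA hB'
    · obtain ⟨L, hL, h34, hi, hC⟩ := o.ll hA hB'
      exact hll G L hL h34 hi hC

end CfsgLib.L34Sylow
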