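import Cfsg.Agent.Lib.L34Sylow.EndBSCount

/-!
# One side small: the second elementary subgroup is normal (piece 8b)
-/

set_option autoImplicit false
set_option linter.style.haveILetI false

namespace CfsgLib.L34Sylow

open Cfsg Subgroup

universe u

namespace EndBS

variable {G : Type u} [Group G] [Finite G] {S : Sylow 2 G} {φ : F4 → F4 → F4 → G}

/-- A two-subgroup with its centralisers of involutions in `N(B)` forces `B` to be normal. -/
theorem normal_of_cent_le (hS : Setup S φ) (hF : Facts S φ) (hsA : Small φ)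
    (hZt : ∀ b ∈ SB φ, b ≠ 1 → ZType φ b) (hd : HasDiag S φ)
    (hle : ∀ x ∈ (SA φ : Set G) ∪ SB φ, x ≠ 1 → cz x ≤ normalizer (SB φ : Set G)) :
    (SB φ).Normal := by
  haveI : Fact (Nat.Prime 2) := ⟨Nat.prime_two⟩
  set N := normalizer (SB φ : Set G) with hN
  have hSN : (S : Subgroup G) ≤ N := Subgroup.le_normalizer.trans hF.norm_B
  have hinN : ∀ i ∈ N, orderOf i = 2 → cz i ≤ N := by
    intro i hi ho
    have hP : IsPGroup 2 (zpowers i ⊔ SB φ : Subgroup G) := IsPGroup.to_sup_of_normal_right'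
      (IsPGroup.of_card (n := 1) (by rw [Nat.card_zpowers, ho, pow_one]))
      (IsPGroup.of_card (n := 4) (by rw [hS.card_SB]; norm_num)) (zpowers_le.2 hi)
    obtain ⟨g, hg, hin⟩ := BSKill.exists_move hF hP le_sup_right
    set x := g * i * g⁻¹ with hx
    have hxo : orderOf x = 2 := by
      rw [hx, show g * i * g⁻¹ = MulAut.conj g i from rfl, MulEquiv.orderOf_eq, ho]
    have hxS : x ∈ S := hin i (mem_sup_left (mem_zpowers i))
    have hx1 : x ≠ 1 := fun e => by rw [e, orderOf_one] at hxo; omega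
    have hxx : x * x = 1 := by rw [← sq, ← hxo, pow_orderOf_eq_one]
    have hcx := hle x (hS.invol x hxS hxx) hx1
    intro y hy
    have hy' : g * y * g⁻¹ ∈ N := hcx (mem_centralizer_singleton_iff.2 (by
      calc g * y * g⁻¹ * x = g * (y * i) * g⁻¹ := by rw [hx]; group
        _ = g * (i * y) * g⁻¹ := by rw [mem_centralizer_singleton_iff.1 hy]
        _ = x * (g * y * g⁻¹) := by rw [hx]; group))
    have := mul_mem (mul_mem (inv_mem hg) hy') hg
    rwa [show g⁻¹ * (g * y * g⁻¹) * g = y by group] at this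
  set t : G := φ 1 0 0 with htdef
  set z : G := φ 0 0 1 with hzdef
  have htA : t ∈ SA φ := hS.mem_SA.2 ⟨1, 0, rfl⟩
  have htZ : t ∉ SZ φ := fun h => by
    obtain ⟨c, hc⟩ := hS.mem_SZ.1 h
    exact zero_ne_one (hS.inj _ _ _ _ _ _ hc).1
  have hzZ : z ∈ SZ φ := hS.mem_SZ.2 ⟨1, rfl⟩
  have hz1 : z ≠ 1 := fun e => one_ne_zero (hS.eq_one_iff.1 e).2.2
  have hzo : orderOf z = 2 := orderOf_eq_prime (hS.elem_SA.2 z (hS.SZ_le_SA hzZ)) hz1
  have hzz : z * z = 1 := by rw [← sq]; exact hS.elem_SA.2 z (hS.SZ_le_SA hzZ)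
  have htt : t * t = 1 := by rw [← sq]; exact hS.elem_SA.2 t htA
  -- every conjugate of `t` lies in `N`
  have hconjN : ∀ g : G, g * t * g⁻¹ ∈ N := by
    intro g
    set q := g * t * g⁻¹ with hq
    have hqq : q * q = 1 := by
      calc q * q = g * (t * t) * g⁻¹ := by rw [hq]; group
        _ = 1 := by rw [htt]; group
    set r := z * q with hr
    have hev : ¬ Odd (orderOf r) := by
      intro ho
      obtain ⟨y, -, hy⟩ := BSKill.exists_conj_zpowers hzz hqq ho
      exact hF.not_ztype_A hsA t htA htZ ⟨1, one_ne_zero, isConj_iff.2 ⟨g⁻¹ * y, by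
        calc g⁻¹ * y * φ 0 0 1 * (g⁻¹ * y)⁻¹ = g⁻¹ * (y * z * y⁻¹) * g := by rw [hzdef]; group
          _ = t := by rw [hy, hq]; group⟩⟩
    obtain ⟨k, hk⟩ := Nat.not_odd_iff_even.1 hev
    have hrpos : 0 < orderOf r := orderOf_pos r
    set i := r ^ k with hidef
    have hi2 : i * i = 1 := by rw [hidef, ← pow_add, ← hk, pow_orderOf_eq_one]
    have hi1 : i ≠ 1 := fun e => absurd (orderOf_le_of_pow_eq_one (by omega) e) (by omega)
    have hio : orderOf i = 2 := orderOf_eq_prime (by rw [sq]; exact hi2) hi1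
    have hinv : z * r * z⁻¹ = r⁻¹ := by
      rw [hr, mul_inv_rev, inv_eq_of_mul_eq_one_right hzz, inv_eq_of_mul_eq_one_right hqq,
        ← mul_assoc z z q, hzz, one_mul]
    have hzi : z * i = i * z := by
      have e : z * i * z⁻¹ = i := by
        rw [hidef, ← conj_pow, hinv, inv_pow]
        exact inv_eq_of_mul_eq_one_right hi2
      exact mul_inv_eq_iff_eq_mul.1 e
    have hqi : q * i = i * q := by
      have hri : r * i = i * r := (Commute.self_pow r k).eq
      have hq' : q = z * r := by rw [hr, ← mul_assoc, hzz, one_mul]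
      rw [hq', mul_assoc, hri, ← mul_assoc, hzi, mul_assoc]
    have hiN : i ∈ N := hle z (Or.inr (hS.SZ_le_SB hzZ)) hz1
      (mem_centralizer_singleton_iff.2 hzi.symm)
    exact hinN i hiN hio (mem_centralizer_singleton_iff.2 hqi)
  -- the normal subgroup generated by them
  set K := normalClosure ({t} : Set G) with hK
  have hKN : K ≤ N := by
    rw [hK, normalClosure, closure_le]
    intro y hy
    obtain ⟨_, rfl, hc⟩ := Group.mem_conjugatesOfSet_iff.1 hy
    obtain ⟨g, rfl⟩ := isConj_iff.1 hc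
    exact hconjN g
  have htK : t ∈ K := subset_normalClosure rfl
  have hzK : z ∈ K ⊓ SB φ := by
    refine mem_inf.2 ⟨?_, hS.SZ_le_SB hzZ⟩
    have h := mul_mem ((normalClosure_normal (s := ({t} : Set G))).conj_mem t htK (φ 0 1 0)) htK
    rw [htdef, hS.conj, hS.mul] at h
    simp only [one_mul, mul_zero, zero_add, add_zero] at h
    rwa [f4_char (1 : F4)] at h
  set Q := (pCore 2 ↥K).map K.subtype with hQ
  have hQn : Q.Normal := by
    haveI : K.Normal := normalClosure_normal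
    haveI : (pCore 2 ↥K).Characteristic := inferInstance
    infer_instance
  have hzQ : z ∈ Q := by
    have hn : ((K ⊓ SB φ).subgroupOf K).Normal := by
      refine (normal_subgroupOf_iff_le_normalizer inf_le_left).2 ?_
      exact (le_inf Subgroup.le_normalizer hKN).trans
        ((inf_le_inf le_rfl le_rfl).trans inf_normalizer_le_normalizer_inf)
    have hp : IsPGroup 2 ((K ⊓ SB φ).subgroupOf K) := by
      refine IsPGroup.of_equiv ?_ (subgroupOfEquivOfLe inf_le_left).symm
      exact (IsPGroup.of_card (n := 4) (by rw [hS.card_SB]; norm_num) : IsPGroup 2 (SB φ)).to_le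
        inf_le_right
    exact ⟨⟨z, hzK.1⟩, Base.le_pCore hp (mem_subgroupOf.2 hzK), rfl⟩
  have hQp : IsPGroup 2 Q := (Base.isPGroup_pCore 2 ↥K).map _
  have hQS : Q ≤ (S : Subgroup G) := by
    haveI := hQn
    exact hQp.le_sylow_of_normal S
  -- all involutions of `B` are conjugates of `z` in `Q`
  have hm : ∀ c : F4, c ≠ 0 → φ 0 0 c ∈ Q := by
    obtain ⟨h, -, w, hw, hhs⟩ := hd
    have key : ∀ w c : F4, w ≠ 0 → w ≠ 1 → c ≠ 0 →
        c = 1 ∨ c = w * w * 1 ∨ c = w * w * (w * w * 1) := by decide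
    have h1 := hQn.conj_mem z hzQ h
    have e1 := hhs.2.2.2 1
    simp only [cj] at e1
    rw [hzdef, e1] at h1
    have h2 := hQn.conj_mem _ h1 h
    have e2 := hhs.2.2.2 (w * w * 1)
    simp only [cj] at e2
    rw [e2] at h2
    intro c hc
    rcases key w c hhs.1 hw hc with rfl | rfl | rfl
    · exact hzQ
    · exact h1
    · exact h2
  have hBQ : SB φ ≤ Q := by
    intro b hb
    by_cases hb1 : b = 1
    · rw [hb1]; exact one_mem _
    obtain ⟨c, hc, hcc⟩ := hZt b hb hb1
    obtain ⟨g, rfl⟩ := isConj_iff.1 hcc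
    exact hQn.conj_mem _ (hm c hc) g
  refine ⟨fun b hb g => ?_⟩
  by_cases hb1 : b = 1
  · subst hb1; simp
  have hmem : g * b * g⁻¹ ∈ (S : Subgroup G) := hQS (hQn.conj_mem b (hBQ hb) g)
  have hbb : b * b = 1 := by rw [← sq]; exact hS.elem_SB.2 b hb
  have hxx : g * b * g⁻¹ * (g * b * g⁻¹) = 1 := by
    calc g * b * g⁻¹ * (g * b * g⁻¹) = g * (b * b) * g⁻¹ := by group
      _ = 1 := by rw [hbb]; group
  rcases hS.invol _ hmem hxx with h | h
  · by_contra hnB
    refine hF.not_ztype_A hsA _ h (fun hZ => hnB (hS.SZ_le_SB hZ)) ?_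
    obtain ⟨c, hc, hcc⟩ := hZt b hb hb1
    exact ⟨c, hc, hcc.trans (isConj_iff.2 ⟨g, rfl⟩)⟩
  · exact h

end EndBS

/-- Piece 8b. -/
theorem endBS : StmtEndBS.{u} := by
  intro hFs hB hCZ G _ _ S φ hS hsA hsB hgood hcores
  have hF := hFs G S φ hS
  have hZt := BSKill.ztype_B hFs hB hS hsB
  have hH := BSKill.strongHyp hFs hB hCZ hS hsA hsB
  obtain ⟨ψ, -, -, -, -, -, -, -, hdg⟩ := hB hFs G S (swap φ) hS.swap
    (fun h => hsB ((small_swap φ).1 h))
  have hd : HasDiag S φ := by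
    obtain ⟨h, hh, l, hl, hs⟩ := hdg
    refine ⟨h, hh, l, hl, ?_⟩
    have := scal_swap hS.swap hs
    rwa [swap_swap] at this
  have hcz : ∀ z ∈ SZ φ, z ≠ 1 → cz z ≤ normalizer (S : Set G) := by
    intro z hz hz1 g hg
    obtain ⟨x, hx, n, hn, -, rfl⟩ := hCZ hFs G S φ hS z hz hz1 g hg
    rw [hcores z (orderOf_eq_prime (hS.elem_SA.2 z (hS.SZ_le_SA hz)) hz1), mem_bot] at hx
    rw [hx, one_mul]
    exact hn
  refine EndBS.normal_of_cent_le hS hF hsA hZt hd fun x hx hx1 => ?_
  have hxB : x ∈ SB φ → cz x ≤ normalizer (SB φ : Set G) := by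
    intro hxB g hg
    obtain ⟨o, ho, n, hn, rfl⟩ := hH.loc x hxB hx1 g hg
    rw [show centralizerPPrimeCore 2 x = ⊥ from hcores x (orderOf_eq_prime (hS.elem_SB.2 x hxB) hx1),
      mem_bot] at ho
    rw [ho, one_mul]
    exact (mem_inf.1 hn).1
  rcases hx with hx | hx
  swap
  · exact hxB hx
  by_cases hxZ : x ∈ SZ φ
  · exact hxB (hS.SZ_le_SB hxZ)
  have hcore : core x = ⊥ := hcores x (orderOf_eq_prime (hS.elem_SA.2 x hx) hx1)
  rcases hgood.1 hsA x hx hxZ with h | ⟨A₀, L, M, _, _, π, hT, h1260, h4⟩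
  · rw [h, hcore, bot_sup_eq]
    exact hS.SA_le.trans (Subgroup.le_normalizer.trans hF.norm_B)
  · rcases h1260 with h12 | ⟨h60, -⟩
    · exact EndBS.cz_le_of_twelve hS hF hT hcore h12
    · exact (EndBS.kill hS hF hsA hcz hd hZt hx hxZ hT hcore h60 h4).elim

end CfsgLib.L34Sylow
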