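import Cfsg.Agent.Lib.L34Sylow.BSKill
import Cfsg.Agent.Lib.L34Sylow.Coords

/-!
# One side small: centralisers of involutions (piece 8b, local facts)
-/

set_option autoImplicit false
set_option linter.style.haveILetI false
set_option linter.unusedSectionVars false

namespace CfsgLib.L34Sylow.EndBS

open Cfsg Subgroup

universe u

variable {G : Type u} [Group G] {S : Sylow 2 G} {φ : F4 → F4 → F4 → G}

theorem scal_cj (hS : Setup S φ) {g : G} {l m : F4} (hg : Scal φ g l m) (a b c : F4) :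
    ∃ c', cj g (φ a b c) = φ (l * a) (m * b) c' := by
  obtain ⟨c₀, hc₀⟩ := hg.2.2.1 a b
  refine ⟨c₀ + l * m * c, ?_⟩
  have h2 := hg.2.2.2 c
  simp only [cj] at hc₀ h2 ⊢
  rw [hS.split a b c,
    show g * (φ a b 0 * φ 0 0 c) * g⁻¹ = g * φ a b 0 * g⁻¹ * (g * φ 0 0 c * g⁻¹) by group,
    hc₀, h2, hS.mul]
  simp

theorem scal_mul (hS : Setup S φ) {g k : G} {l m l' m' : F4} (hg : Scal φ g l m)
    (hk : Scal φ k l' m') : Scal φ (g * k) (l * l') (m * m') := by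
  refine ⟨mul_ne_zero hg.1 hk.1, mul_ne_zero hg.2.1 hk.2.1, fun a b => ?_, fun c => ?_⟩
  · obtain ⟨c₁, h1⟩ := scal_cj hS hk a b 0
    obtain ⟨c₂, h2⟩ := scal_cj hS hg (l' * a) (m' * b) c₁
    refine ⟨c₂, ?_⟩
    simp only [cj] at h1 h2 ⊢
    rw [show g * k * φ a b 0 * (g * k)⁻¹ = g * (k * φ a b 0 * k⁻¹) * g⁻¹ by group, h1, h2,
      mul_assoc, mul_assoc]
  · have h1 := hk.2.2.2 c
    have h2 := hg.2.2.2 (l' * m' * c)
    simp only [cj] at h1 h2 ⊢
    rw [show g * k * φ 0 0 c * (g * k)⁻¹ = g * (k * φ 0 0 c * k⁻¹) * g⁻¹ by group, h1, h2]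
    congr 1
    ring

theorem scal_of_mem (hS : Setup S φ) {s : G} (hs : s ∈ S) : Scal φ s 1 1 := by
  obtain ⟨x, y, w, rfl⟩ := hS.surj s hs
  refine ⟨one_ne_zero, one_ne_zero, fun a b => ?_, fun c => ?_⟩
  · refine ⟨0 + (x * b + a * y), ?_⟩
    simp only [cj]
    rw [hS.conj, one_mul, one_mul]
  · simp only [cj]
    rw [hS.conj, one_mul, one_mul]
    simp

theorem scal_unique (hS : Setup S φ) {g : G} {l m l' m' : F4} (hg : Scal φ g l m)
    (hg' : Scal φ g l' m') : l = l' ∧ m = m' := by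
  obtain ⟨c, hc⟩ := hg.2.2.1 1 1
  obtain ⟨c', hc'⟩ := hg'.2.2.1 1 1
  obtain ⟨h1, h2, -⟩ := hS.inj _ _ _ _ _ _ (hc.symm.trans hc')
  rw [mul_one, mul_one] at h1 h2
  exact ⟨h1, h2⟩

/-- All scalars fixing the centre are realised, and all of them act transitively on it. -/
theorem exists_scal (hS : Setup S φ) (hd : HasDiag S φ) (hm : HasMu S φ) :
    (∀ l : F4, l ≠ 0 → ∃ g ∈ normalizer (S : Set G), ∃ m, l * m = 1 ∧ Scal φ g l m) ∧
      ∀ c : F4, c ≠ 0 → ∃ g ∈ normalizer (S : Set G), ∃ l m, l * m = c ∧ Scal φ g l m := by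
  obtain ⟨h, hh, w, hw, hhs⟩ := hd
  obtain ⟨k, hk, m₀, hm₀, hks⟩ := hm
  have hkk := scal_mul hS hks hks
  rw [one_mul] at hkk
  have htot : ∀ l : F4, l ≠ 0 → ∃ g ∈ normalizer (S : Set G), ∃ m, m = l ∧ Scal φ g 1 m := by
    intro l hl
    rcases BSKill.f4_pow_cases m₀ l hks.2.1 hm₀ hl with h1 | h1 | h1
    · exact ⟨1, one_mem _, 1, h1.symm, scal_of_mem hS (one_mem _)⟩
    · exact ⟨k, hk, m₀, h1.symm, hks⟩
    · exact ⟨k * k, mul_mem hk hk, m₀ * m₀, h1.symm, hkk⟩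
  refine ⟨fun l hl => ?_, fun c hc => ?_⟩
  · -- first realise the scalar on the first quotient
    obtain ⟨g, hg, m, hgs⟩ : ∃ g ∈ normalizer (S : Set G), ∃ m, Scal φ g l m := by
      rcases BSKill.f4_pow_cases w l hhs.1 hw hl with h1 | h1 | h1 <;> subst h1
      · exact ⟨1, one_mem _, 1, scal_of_mem hS (one_mem _)⟩
      · exact ⟨h, hh, l, hhs⟩
      · exact ⟨h * h, mul_mem hh hh, _, scal_mul hS hhs hhs⟩
    obtain ⟨f, hf, m', hm', hfs⟩ := htot (l * m)⁻¹ (inv_ne_zero (mul_ne_zero hl hgs.2.1))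
    subst hm'
    refine ⟨g * f, mul_mem hg hf, m * (l * m)⁻¹, ?_, ?_⟩
    · rw [← mul_assoc, mul_inv_cancel₀ (mul_ne_zero hl hgs.2.1)]
    · simpa using scal_mul hS hgs hfs
  · obtain ⟨g, hg, m, hm, hgs⟩ := htot c hc
    subst hm
    exact ⟨g, hg, 1, m, one_mul m, hgs⟩

/-- Any two involutions of the centre are fused, and so are any two outside it in the first
elementary subgroup. -/
theorem fused (hS : Setup S φ) (hd : HasDiag S φ) (hm : HasMu S φ) :
    (∀ c : F4, c ≠ 0 → IsConj (φ 0 0 1) (φ 0 0 c)) ∧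
      ∀ a c a' c' : F4, a ≠ 0 → a' ≠ 0 → IsConj (φ a 0 c) (φ a' 0 c') := by
  obtain ⟨h1, h2⟩ := exists_scal hS hd hm
  refine ⟨fun c hc => ?_, fun a c a' c' ha ha' => ?_⟩
  · obtain ⟨g, -, l, m, hlm, hgs⟩ := h2 c hc
    refine isConj_iff.2 ⟨g, ?_⟩
    have e := hgs.2.2.2 1
    rw [hlm, mul_one] at e
    exact e
  · obtain ⟨g, -, m, -, hgs⟩ := h1 (a' * a⁻¹) (mul_ne_zero ha' (inv_ne_zero ha))
    obtain ⟨d, hd'⟩ := scal_cj hS hgs a 0 c
    simp only [cj, mul_zero, mul_assoc, inv_mul_cancel₀ ha, mul_one] at hd'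
    refine (isConj_iff.2 ⟨g, by rw [← hd', mul_assoc]⟩ : IsConj (φ a 0 c) (φ a' 0 d)).trans
      (isConj_iff.2 ⟨φ 0 ((c' + d) * a'⁻¹) 0, ?_⟩)
    rw [hS.conj]
    congr 1
    rw [zero_mul, zero_add, mul_comm (c' + d), ← mul_assoc, mul_inv_cancel₀ ha', one_mul]
    have key : ∀ p q : F4, q + (p + q) = p := by decide
    exact key _ _

variable [Finite G] {t : G} {A₀ L : Subgroup G} {M : Type u} [Group M] [Finite M] {π : ↥L →* M}

theorem injective (hT : TData S φ t A₀ L π) (hcore : core t = ⊥) : Function.Injective π := by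
  rw [← MonoidHom.ker_eq_bot_iff, hT.ker, hcore, bot_subgroupOf]

theorem commute₀ (hT : TData S φ t A₀ L π) (hcore : core t = ⊥) {a g : G} (ha : a ∈ A₀)
    (hg : g ∈ cz t) : a * g = g * a := by
  have h := hT.central a ha g hg
  rw [hcore, mem_bot] at h
  calc a * g = a * g * a⁻¹ * g⁻¹ * (g * a) := by group
    _ = g * a := by rw [h, one_mul]

theorem decomp (hT : TData S φ t A₀ L π) {g : G} (hg : g ∈ cz t) :
    ∃ l ∈ L, ∃ a ∈ A₀, g = l * a := by
  have hle : A₀ ≤ normalizer (L : Set G) := (hT.sup ▸ le_sup_right : A₀ ≤ cz t).trans hT.normal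
  have hg' : g ∈ ((L ⊔ A₀ : Subgroup G) : Set G) := by rw [hT.sup]; exact hg
  rw [coe_mul_of_right_le_normalizer_left _ _ hle] at hg'
  obtain ⟨l, hl, a, ha, rfl⟩ := hg'
  exact ⟨l, hl, a, ha, rfl⟩

theorem decomp_unique (hT : TData S φ t A₀ L π) {l l' a a' : G} (hl : l ∈ L) (hl' : l' ∈ L)
    (ha : a ∈ A₀) (ha' : a' ∈ A₀) (h : l * a = l' * a') : l = l' ∧ a = a' := by
  have e : l'⁻¹ * l = a' * a⁻¹ := by
    calc l'⁻¹ * l = l'⁻¹ * (l * a) * a⁻¹ := by group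
      _ = a' * a⁻¹ := by rw [h]; group
  have hm : l'⁻¹ * l ∈ L ⊓ A₀ :=
    mem_inf.2 ⟨mul_mem (inv_mem hl') hl, e ▸ mul_mem ha' (inv_mem ha)⟩
  rw [hT.inf, mem_bot] at hm
  have h1 : l = l' := (inv_mul_eq_one.1 hm).symm
  exact ⟨h1, mul_left_cancel (h1 ▸ h : l' * a = l' * a')⟩

/-- What `C(t) ∩ C(z)` is. -/
theorem cent_tz (hS : Setup S φ) (hT : TData S φ t A₀ L π) (hcore : core t = ⊥)
    (h4 : ∀ v : M, orderOf v = 2 → Nat.card (cz v) = 4) {z : G} (hz : z ∈ SZ φ) (hz1 : z ≠ 1)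
    {g : G} (hg : g ∈ cz t) (hgz : g * z = z * g) : g ∈ SA φ := by
  have hinj := injective hT hcore
  obtain ⟨l, hl, a, ha, rfl⟩ := decomp hT hg
  have haA : a ∈ SA φ := hT.le₀ ha
  have haz : a * z = z * a := by
    haveI := hS.elem_SA.1
    exact congrArg Subtype.val (mul_comm' (⟨a, haA⟩ : SA φ) ⟨z, hS.SZ_le_SA hz⟩)
  have hlz : l * z = z * l := by
    calc l * z = l * a * z * a⁻¹ := by rw [mul_assoc l a z, haz]; group
      _ = z * l := by rw [hgz]; group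
  set v := π ⟨z, hT.Z_le hz⟩ with hv
  set P := ((SZ φ).subgroupOf L).map π with hP
  have hvP : v ∈ P := ⟨_, mem_subgroupOf.2 hz, rfl⟩
  have hv2 : orderOf v = 2 := by
    rw [hv, orderOf_injective π hinj, ← Subgroup.orderOf_coe]
    exact orderOf_eq_prime (hS.elem_SA.2 z (hS.SZ_le_SA hz)) hz1
  have hPc : P ≤ cz v := by
    rintro _ ⟨⟨w, hwL⟩, hw, rfl⟩
    refine mem_centralizer_singleton_iff.2 ?_
    rw [hv, ← map_mul, ← map_mul]
    refine congrArg π (Subtype.ext ?_)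
    haveI := hS.elem_SA.1
    have e := congrArg Subtype.val (mul_comm' (⟨w, hS.SZ_le_SA (mem_subgroupOf.1 hw)⟩ : SA φ)
      ⟨z, hS.SZ_le_SA hz⟩)
    exact e
  have heq : P = cz v := eq_of_le_of_card_ge hPc (by
    rw [h4 v hv2]; exact hT.khyp.klein.card_four.ge)
  have hlP : π ⟨l, hl⟩ ∈ P := by
    rw [heq]
    refine mem_centralizer_singleton_iff.2 ?_
    rw [hv, ← map_mul, ← map_mul]
    exact congrArg π (Subtype.ext hlz)
  obtain ⟨x, hx, hxe⟩ := hlP
  have : x = ⟨l, hl⟩ := hinj hxe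
  subst this
  exact mul_mem (hS.SZ_le_SA (mem_subgroupOf.1 hx)) haA

/-- In the soluble case the centraliser of `t` normalises the second elementary subgroup. -/
theorem cz_le_of_twelve (hS : Setup S φ) (hF : Facts S φ) (hT : TData S φ t A₀ L π)
    (hcore : core t = ⊥) (h12 : Nat.card M = 12) : cz t ≤ normalizer (SB φ : Set G) := by
  have hL : Nat.card L = 12 := by
    rw [← h12]
    exact Nat.card_congr (Equiv.ofBijective π ⟨injective hT hcore, hT.surj⟩)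
  have hSB : (S : Subgroup G) ≤ normalizer (SB φ : Set G) := Subgroup.le_normalizer.trans hF.norm_B
  obtain ⟨h, hhL, hhS, m, hm1, hsc⟩ := hT.mu
  set X := SZ φ ⊔ zpowers h with hX
  have hXL : X ≤ L := sup_le hT.Z_le (zpowers_le.2 hhL)
  have hd4 : 4 ∣ Nat.card X := hS.card_SZ ▸ card_dvd_of_le le_sup_left
  have hdo : orderOf h ∣ Nat.card X :=
    Subgroup.orderOf_dvd_natCard _ (mem_sup_right (mem_zpowers h))
  have h3 : 3 ∣ orderOf h := by
    by_contra hn3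
    -- otherwise a power of `h` shows that `m` is one
    have h12' : orderOf h ∣ 12 := hL ▸ Subgroup.orderOf_dvd_natCard _ hhL
    have h4' : orderOf h ∣ 4 :=
      ((Nat.Prime.coprime_iff_not_dvd Nat.prime_three).2 hn3).symm.dvd_of_dvd_mul_left
        (show orderOf h ∣ 3 * 4 from h12')
    have hp4 : h ^ 4 = 1 := orderOf_dvd_iff_pow_eq_one.1 h4'
    have hsq := scal_mul hS hsc hsc
    have hfour := scal_mul hS hsq hsq
    rw [show h * h * (h * h) = h ^ 4 by simp only [pow_succ, pow_zero, one_mul, mul_assoc], hp4]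
      at hfour
    have e := (scal_unique hS (scal_of_mem hS (one_mem _)) hfour).2
    have key : ∀ m : F4, m * m * (m * m) = 1 → m = 1 := by decide
    exact hm1 (key m e.symm)
  have hX12 : 12 ∣ Nat.card X := Nat.Coprime.mul_dvd_of_dvd_of_dvd (by norm_num : Nat.Coprime 4 3)
    hd4 (h3.trans hdo)
  have hLX : L ≤ normalizer (SB φ : Set G) := by
    rw [← eq_of_le_of_card_ge hXL (by rw [hL]; exact Nat.le_of_dvd Nat.card_pos hX12)]
    exact sup_le ((hS.SZ_le_SA.trans hS.SA_le).trans hSB) (zpowers_le.2 (hF.norm_B hhS))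
  rw [← hT.sup]
  exact sup_le hLX ((hT.le₀.trans hS.SA_le).trans hSB)

end CfsgLib.L34Sylow.EndBS
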