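import Cfsg.Agent.Lib.L34Sylow.EndBSBasic
import Cfsg.Agent.S1875
import Cfsg.Agent.Lib.Fusion.RankThreeNormal.Line
import Cfsg.Agent.Lib.Chars.Irr

/-!
# One side small: a quotient `A₅` is impossible (piece 8b, the count)
-/

set_option autoImplicit false
set_option linter.style.haveILetI false
set_option linter.unusedSectionVars false

namespace CfsgLib.L34Sylow.EndBS

open Cfsg Subgroup

universe u

theorem f4_eq_one_of_mul_self (l : F4) (h : l * l = 1) : l = 1 := by revert l; decide

theorem eq_inv_of_mul_eq_one' {l m : F4} (h : l * m = 1) : m = l⁻¹ :=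
  (inv_eq_of_mul_eq_one_right h).symm

section Pairs

variable {M : Type u} [Group M] [Finite M]

/-- The ordered pairs of involutions with product of odd order, counted. -/
theorem card_odd_pairs (h60 : Nat.card M = 60) {P : Subgroup M} (hP : KHyp P)
    (h4 : ∀ v : M, orderOf v = 2 → Nat.card (cz v) = 4) :
    Nat.card {p : M × M // orderOf p.1 = 2 ∧ orderOf p.2 = 2 ∧ Odd (orderOf (p.1 * p.2))} = 195 := by
  classical
  haveI := Fintype.ofFinite M
  haveI := hP.klein
  set I := {v : M // orderOf v = 2} with hI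
  obtain ⟨v₁, hv₁P, hv₁⟩ : ∃ v ∈ P, v ≠ 1 := (Subgroup.bot_or_exists_ne_one P).resolve_left fun h => by
    have := hP.klein.card_four
    rw [h, card_bot] at this
    omega
  have hsqP : ∀ w ∈ P, w * w = 1 := fun w hw => by
    exact congrArg Subtype.val (IsKleinFour.mul_self (⟨w, hw⟩ : P))
  have ho₁ : orderOf v₁ = 2 := orderOf_eq_prime (by rw [sq]; exact hsqP v₁ hv₁P) hv₁
  -- fifteen involutions
  have hI15 : Nat.card I = 15 := by
    have h1 := CfsgLib.Chars.card_isConj_mul_card_centralizer v₁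
    rw [h60, h4 v₁ ho₁] at h1
    have h2 : Nat.card I = Nat.card {w : M // IsConj v₁ w} := by
      refine Nat.card_congr (Equiv.subtypeEquivRight fun w => ⟨fun hw => hP.one v₁ w ho₁ hw, ?_⟩)
      intro hc
      obtain ⟨c, rfl⟩ := isConj_iff.1 hc
      rw [show c * v₁ * c⁻¹ = MulAut.conj c v₁ from rfl, MulEquiv.orderOf_eq, ho₁]
    omega
  have hcomm4 : ∀ i : M, orderOf i = 2 → ∀ a ∈ cz i, ∀ b ∈ cz i, a * b = b * a := by
    intro i hi a ha b hb
    haveI : Fact (Nat.Prime 2) := ⟨Nat.prime_two⟩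
    exact congrArg Subtype.val ((IsPGroup.isMulCommutative_of_card_eq_prime_sq
      (show Nat.card (cz i) = 2 ^ 2 from h4 i hi)).is_comm.comm ⟨a, ha⟩ ⟨b, hb⟩)
  have hfib : ∀ v : I, Nat.card {w : I // Odd (orderOf ((v : M) * w))} = 13 := by
    intro v
    obtain ⟨v, hv⟩ := v
    show Nat.card {w : I // Odd (orderOf (v * (w : M)))} = 13
    have hvv : v * v = 1 := by rw [← sq, ← hv, pow_orderOf_eq_one]
    have hvi : v⁻¹ = v := inv_eq_of_mul_eq_one_right hvv
    -- odd product: equal or not commuting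
    have hiff : ∀ w : I, Odd (orderOf (v * (w : M))) ↔ ((w : M) = v ∨ v * (w : M) ≠ (w : M) * v) := by
      rintro ⟨w, hw⟩
      have hww : w * w = 1 := by rw [← sq, ← hw, pow_orderOf_eq_one]
      constructor
      · intro ho
        by_contra hc
        push Not at hc
        have h2 : (v * w) ^ 2 = 1 := by
          rw [(show Commute v w from hc.2).mul_pow, sq, sq, hvv, hww, one_mul]
        have h3 : orderOf (v * w) ∣ 2 := orderOf_dvd_of_pow_eq_one h2
        rcases (Nat.dvd_prime Nat.prime_two).1 h3 with h | h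
        · rw [orderOf_eq_one_iff, mul_eq_one_iff_eq_inv] at h
          refine hc.1 ?_
          show w = v
          rw [h, inv_eq_of_mul_eq_one_right hww]
        · rw [h] at ho
          exact absurd ho (by decide)
      · intro hw'
        show Odd (orderOf (v * w))
        rcases hw' with h | h
        · simp only at h
          rw [h, hvv, orderOf_one]
          exact odd_one
        · by_contra ho
          obtain ⟨k, hk⟩ := Nat.not_odd_iff_even.1 ho
          set r := v * w with hr
          have hrpos : 0 < orderOf r := orderOf_pos r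
          set i := r ^ k with hidef
          have hi2 : i * i = 1 := by rw [hidef, ← pow_add, ← hk, pow_orderOf_eq_one]
          have hi1 : i ≠ 1 := fun e => absurd (orderOf_le_of_pow_eq_one (by omega) e) (by omega)
          have hio : orderOf i = 2 := orderOf_eq_prime (by rw [sq]; exact hi2) hi1
          have hinv : v * r * v⁻¹ = r⁻¹ := by
            rw [hr, mul_inv_rev, hvi, inv_eq_of_mul_eq_one_right hww, ← mul_assoc v v w, hvv, one_mul]
          have hvi' : v * i = i * v := by
            have e : v * i * v⁻¹ = i := by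
              rw [hidef, ← conj_pow, hinv, inv_pow]
              exact inv_eq_of_mul_eq_one_right hi2
            exact mul_inv_eq_iff_eq_mul.1 e
          have hwi : w * i = i * w := by
            have hri : r * i = i * r := (Commute.self_pow r k).eq
            have hw' : w = v * r := by rw [hr, ← mul_assoc, hvv, one_mul]
            rw [hw', mul_assoc, hri, ← mul_assoc, hvi', mul_assoc]
          exact h (hcomm4 i hio v (mem_centralizer_singleton_iff.2 hvi') w
            (mem_centralizer_singleton_iff.2 hwi))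
    -- the complement: the two other involutions of the centraliser
    have hC : Nat.card {x : M // x ∈ cz v ∧ x ≠ 1 ∧ x ≠ v} = 2 := by
      have h := h4 v hv
      rw [Nat.card_eq_fintype_card, Fintype.card_subtype] at h ⊢
      have he : (Finset.univ.filter fun x : M => x ∈ cz v ∧ x ≠ 1 ∧ x ≠ v) =
          (Finset.univ.filter fun x : M => x ∈ cz v) \ {1, v} := by
        ext x
        simp
      have hsub : ({1, v} : Finset M) ⊆ Finset.univ.filter fun x : M => x ∈ cz v := by
        intro x hx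
        simp only [Finset.mem_insert, Finset.mem_singleton] at hx
        simp only [Finset.mem_filter, Finset.mem_univ, true_and]
        rcases hx with rfl | rfl
        · exact one_mem _
        · exact mem_centralizer_singleton_iff.2 rfl
      have hv1 : (1 : M) ≠ v := fun e => by rw [← e, orderOf_one] at hv; omega
      rw [he, Finset.card_sdiff_of_subset hsub, h, Finset.card_pair hv1]
    have hsplit : Nat.card {w : I // ¬ Odd (orderOf (v * (w : M)))} = 2 := by
      refine Eq.trans ?_ hC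
      refine Nat.card_congr
        { toFun := fun w => ⟨w.1.1, ?_⟩, invFun := fun x => ⟨⟨x.1, ?_⟩, ?_⟩,
          left_inv := fun w => rfl, right_inv := fun x => rfl }
      · have hw := w.2
        rw [hiff] at hw
        push Not at hw
        refine ⟨mem_centralizer_singleton_iff.2 hw.2.symm, fun e => ?_, hw.1⟩
        have := w.1.2
        rw [e, orderOf_one] at this
        omega
      · -- every element of the centraliser is an involution
        obtain ⟨hx, hx1, -⟩ := x.2
        obtain ⟨c, hc⟩ := isConj_iff.1 (hP.one v₁ v ho₁ hv)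
        have hPle : P.map (MulAut.conj c).toMonoidHom ≤ cz v := by
          rintro _ ⟨p, hp, rfl⟩
          refine mem_centralizer_singleton_iff.2 ?_
          rw [← hc]
          simp only [MulEquiv.toMonoidHom_eq_coe, MonoidHom.coe_coe, MulAut.conj_apply]
          have hpv : p * v₁ = v₁ * p := congrArg Subtype.val
            (mul_comm_of_exponent_two hP.klein.exponent_two (⟨p, hp⟩ : P) ⟨v₁, hv₁P⟩)
          calc c * p * c⁻¹ * (c * v₁ * c⁻¹) = c * (p * v₁) * c⁻¹ := by group
            _ = c * (v₁ * p) * c⁻¹ := by rw [hpv]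
            _ = c * v₁ * c⁻¹ * (c * p * c⁻¹) := by group
        have heq := eq_of_le_of_card_ge hPle (by
          rw [h4 v hv, card_map_of_injective (f := (MulAut.conj c).toMonoidHom) (MulAut.conj c).injective]
          exact hP.klein.card_four.ge)
        obtain ⟨p, hp, hpx⟩ := heq.ge hx
        refine orderOf_eq_prime ?_ hx1
        rw [← hpx, ← map_pow, sq, hsqP p hp, map_one]
      · rw [hiff]
        push Not
        exact ⟨x.2.2.2, (mem_centralizer_singleton_iff.1 x.2.1).symm⟩
    have htot := Nat.card_congr (Equiv.sumCompl fun w : I => Odd (orderOf (v * (w : M))))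
    rw [Nat.card_sum, hsplit, hI15] at htot
    omega
  calc Nat.card {p : M × M // orderOf p.1 = 2 ∧ orderOf p.2 = 2 ∧ Odd (orderOf (p.1 * p.2))}
      = Nat.card (Σ v : I, {w : I // Odd (orderOf ((v : M) * w))}) := by
        refine Nat.card_congr
          { toFun := fun p => ⟨⟨p.1.1, p.2.1⟩, ⟨⟨p.1.2, p.2.2.1⟩, p.2.2.2⟩⟩
            invFun := fun q => ⟨(q.1.1, q.2.1.1), q.1.2, q.2.1.2, q.2.2⟩
            left_inv := fun p => rfl
            right_inv := fun q => rfl }
    _ = 195 := by
        rw [Nat.card_sigma, Finset.sum_congr rfl (fun v _ => hfib v), Finset.sum_const,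
          Finset.card_univ, ← Nat.card_eq_fintype_card, hI15]
        rfl

end Pairs

variable {G : Type u} [Group G] [Finite G] {S : Sylow 2 G} {φ : F4 → F4 → F4 → G} {t : G}
  {A₀ L : Subgroup G} {M : Type u} [Group M] [Finite M] {π : ↥L →* M}

theorem kill (hS : Setup S φ) (hF : Facts S φ) (hsA : Small φ)
    (hcz : ∀ z ∈ SZ φ, z ≠ 1 → cz z ≤ normalizer (S : Set G)) (hd : HasDiag S φ)
    (hZt : ∀ b ∈ SB φ, b ≠ 1 → ZType φ b) (htA : t ∈ SA φ) (htZ : t ∉ SZ φ)
    (hT : TData S φ t A₀ L π) (hcore : core t = ⊥) (h60 : Nat.card M = 60)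
    (h4 : ∀ v : M, orderOf v = 2 → Nat.card (cz v) = 4) : False := by
  classical
  haveI : Fact (Nat.Prime 2) := ⟨Nat.prime_two⟩
  have hm : HasMu S φ := by
    obtain ⟨h, -, hh, m, hm1, hs⟩ := hT.mu
    exact ⟨h, hh, m, hm1, hs⟩
  obtain ⟨hscal, -⟩ := exists_scal hS hd hm
  obtain ⟨hfusZ, hfusA⟩ := fused hS hd hm
  have hinj := injective hT hcore
  set z : G := φ 0 0 1 with hzdef
  have hzZ : z ∈ SZ φ := hS.mem_SZ.2 ⟨1, rfl⟩
  have hz1 : z ≠ 1 := fun e => one_ne_zero (hS.eq_one_iff.1 e).2.2
  have hzo : orderOf z = 2 := orderOf_eq_prime (hS.elem_SA.2 z (hS.SZ_le_SA hzZ)) hz1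
  have ht1 : t ≠ 1 := fun e => htZ (e ▸ one_mem _)
  have hto : orderOf t = 2 := orderOf_eq_prime (hS.elem_SA.2 t htA) ht1
  have hznt : ¬ IsConj z t := fun hc =>
    hF.not_ztype_A hsA t htA htZ ⟨1, one_ne_zero, hc⟩
  -- the two classes
  have hclassA : ∀ x ∈ SA φ, x ∉ SZ φ → IsConj t x := by
    intro x hx hxZ
    obtain ⟨a, c, rfl⟩ := hS.mem_SA.1 hx
    obtain ⟨a₀, c₀, he⟩ := hS.mem_SA.1 htA
    rw [← he] at htZ ⊢
    refine hfusA a₀ c₀ a c ?_ ?_
    · rintro rfl; exact htZ (hS.mem_SZ.2 ⟨c₀, rfl⟩)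
    · rintro rfl; exact hxZ (hS.mem_SZ.2 ⟨c, rfl⟩)
  have hclassB : ∀ x ∈ SB φ, x ≠ 1 → IsConj z x := by
    intro x hx hx1
    obtain ⟨c, hc0, hc⟩ := hZt x hx hx1
    exact (hfusZ c hc0).trans hc
  have hclass : ∀ g : G, orderOf g = 2 → IsConj g z ∨ IsConj g t := by
    intro g hg
    obtain ⟨x, hx, hxg⟩ := hF.exists_conj g hg
    have hx1 : x ≠ 1 := by
      rintro rfl
      obtain ⟨c, hc⟩ := isConj_iff.1 hxg
      rw [mul_one, mul_inv_cancel] at hc
      rw [← hc, orderOf_one] at hg
      omega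
    rcases hx with hx | hx
    · by_cases hxZ : x ∈ SZ φ
      · exact Or.inl (hxg.symm.trans (hclassB x (hS.SZ_le_SB hxZ) hx1).symm)
      · exact Or.inr (hxg.symm.trans (hclassA x hx hxZ).symm)
    · exact Or.inl (hxg.symm.trans (hclassB x hx hx1).symm)
  -- the centraliser of `z`
  have hker : ∀ g ∈ cz z, ∀ m, Scal φ g 1 m → g ∈ S := by
    intro g hg m hgs
    have hm1 : m = 1 := by
      have e := hgs.2.2.2 1
      simp only [cj, one_mul, mul_one] at e
      rw [show g * φ 0 0 1 * g⁻¹ = φ 0 0 1 by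
        rw [← hzdef, mem_centralizer_singleton_iff.1 hg, mul_inv_cancel_right]] at e
      exact ((hS.inj _ _ _ _ _ _ e).2.2).symm
    subst hm1
    obtain ⟨a, c, he⟩ := hS.mem_SA.1 htA
    have ha : a ≠ 0 := by
      rintro rfl
      exact htZ (he ▸ hS.mem_SZ.2 ⟨c, rfl⟩)
    obtain ⟨c', hc'⟩ := scal_cj hS hgs a 0 c
    simp only [cj, one_mul, he] at hc'
    set s := φ 0 ((c' + c) * a⁻¹) 0 with hs
    have hst : s * t * s⁻¹ = φ a 0 c' := by
      rw [hs, ← he, hS.conj]
      congr 1
      rw [zero_mul, zero_add, mul_comm (c' + c), ← mul_assoc, mul_inv_cancel₀ ha, one_mul]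
      have key : ∀ p q : F4, q + (p + q) = p := by decide
      exact key _ _
    have hsS : s ∈ S := hS.mem ..
    have hsz : s * z = z * s := by
      rw [hs, hzdef]
      exact ((hS.commute_iff ..).2 (by simp)).eq
    have hgt : s⁻¹ * g ∈ cz t := by
      refine mem_centralizer_singleton_iff.2 ?_
      calc s⁻¹ * g * t = s⁻¹ * (g * t * g⁻¹) * g := by group
        _ = s⁻¹ * (s * t * s⁻¹) * g := by rw [hc', hst]
        _ = t * (s⁻¹ * g) := by group
    have hgz : s⁻¹ * g * z = z * (s⁻¹ * g) := by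
      calc s⁻¹ * g * z = s⁻¹ * (z * g) := by rw [mul_assoc, mem_centralizer_singleton_iff.1 hg]
        _ = s⁻¹ * (z * s) * (s⁻¹ * g) := by group
        _ = s⁻¹ * (s * z) * (s⁻¹ * g) := by rw [hsz]
        _ = z * (s⁻¹ * g) := by group
    have := mul_mem hsS (hS.SA_le (cent_tz hS hT hcore h4 hzZ hz1 hgt hgz))
    simpa using this
  have hScz : (S : Subgroup G) ≤ cz z := by
    intro s hs
    have e := (scal_of_mem hS hs).2.2.2 1
    simp only [cj, one_mul] at e
    exact mem_centralizer_singleton_iff.2 (mul_inv_eq_iff_eq_mul.1 e)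
  have hczz : Nat.card (cz z) = 192 := by
    choose gl hgl ml hml hgls using hscal
    have hglz : ∀ l hl, gl l hl ∈ cz z := by
      intro l hl
      have e := (hgls l hl).2.2.2 1
      simp only [cj, hml, mul_one] at e
      exact mem_centralizer_singleton_iff.2 (mul_inv_eq_iff_eq_mul.1 e)
    let Φ : {l : F4 // l ≠ 0} × (S : Subgroup G) → cz z := fun p =>
      ⟨(gl p.1.1 p.1.2)⁻¹ * p.2, mul_mem (inv_mem (hglz _ _)) (hScz p.2.2)⟩
    have hb : Function.Bijective Φ := by
      constructor
      · rintro ⟨⟨l, hl⟩, s, hs⟩ ⟨⟨l', hl'⟩, s', hs'⟩ e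
        have e' : (gl l hl)⁻¹ * s = (gl l' hl')⁻¹ * s' := congrArg Subtype.val e
        have h1 : gl l' hl' = s' * s⁻¹ * gl l hl := by
          calc gl l' hl' = s' * ((gl l' hl')⁻¹ * s')⁻¹ := by group
            _ = s' * ((gl l hl)⁻¹ * s)⁻¹ := by rw [e']
            _ = s' * s⁻¹ * gl l hl := by group
        have h2 := scal_mul hS (scal_of_mem hS (mul_mem hs' (inv_mem hs))) (hgls l hl)
        rw [← h1, one_mul] at h2
        have hll : l' = l := (scal_unique hS (hgls l' hl') h2).1
        subst hll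
        simp only [Prod.mk.injEq, Subtype.mk.injEq, true_and]
        exact mul_left_cancel e'
      · rintro ⟨g, hg⟩
        obtain ⟨l, m, hgs⟩ := hF.scal g (hcz z hzZ hz1 hg)
        have hl : l⁻¹ ≠ 0 := inv_ne_zero hgs.1
        have h2 := scal_mul hS (hgls l⁻¹ hl) hgs
        rw [inv_mul_cancel₀ hgs.1] at h2
        have h3 : gl l⁻¹ hl * g ∈ S := hker _ (mul_mem (hglz _ _) hg) _ h2
        exact ⟨(⟨l⁻¹, hl⟩, ⟨_, h3⟩), Subtype.ext (by simp [Φ])⟩
    rw [← Nat.card_congr (Equiv.ofBijective Φ hb), Nat.card_prod, hS.card_S, Nat.card_eq_fintype_card,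
      show Fintype.card {l : F4 // l ≠ 0} = 3 by decide]
  -- the centraliser of `t`
  have hA₀t : A₀ ≤ cz t := hT.sup ▸ le_sup_right
  have hczt : Nat.card (cz t) = 240 := by
    let Ψ : ↥L × ↥A₀ → cz t := fun p => ⟨p.1.1 * p.2.1, mul_mem (hT.le p.1.2) (hA₀t p.2.2)⟩
    have hb : Function.Bijective Ψ := by
      constructor
      · rintro ⟨⟨l, hl⟩, a, ha⟩ ⟨⟨l', hl'⟩, a', ha'⟩ e
        obtain ⟨rfl, rfl⟩ := decomp_unique hT hl hl' ha ha' (congrArg Subtype.val e)
        rfl
      · rintro ⟨g, hg⟩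
        obtain ⟨l, hl, a, ha, rfl⟩ := decomp hT hg
        exact ⟨(⟨l, hl⟩, ⟨a, ha⟩), rfl⟩
    rw [← Nat.card_congr (Equiv.ofBijective Ψ hb), Nat.card_prod, hT.card₀,
      Nat.card_congr (Equiv.ofBijective π ⟨hinj, hT.surj⟩), h60]
  have hsqA : ∀ x ∈ SA φ, x * x = 1 := fun x hx => by rw [← sq]; exact hS.elem_SA.2 x hx
  have hord2 : ∀ {x y : G}, IsConj x y → orderOf x = 2 → orderOf y = 2 := by
    intro x y hc hx
    obtain ⟨c, rfl⟩ := isConj_iff.1 hc
    rw [show c * x * c⁻¹ = MulAut.conj c x from rfl, MulEquiv.orderOf_eq, hx]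
  have hcomm : ∀ (w u v : G), orderOf w = 2 → orderOf u = 2 → orderOf v = 2 →
      w ∈ zpowers (u * v) → u * w = w * u ∧ v * w = w * v := by
    intro w u v hw hu hv hmem
    have hu2 : u * u = 1 := by rw [← sq, ← hu, pow_orderOf_eq_one]
    have hv2 : v * v = 1 := by rw [← sq, ← hv, pow_orderOf_eq_one]
    have hwi : w⁻¹ = w := inv_eq_of_mul_eq_one_right (by rw [← sq, ← hw, pow_orderOf_eq_one])
    obtain ⟨k, hk⟩ := mem_zpowers_iff.1 hmem
    have hinv : u * (u * v) * u⁻¹ = (u * v)⁻¹ := by
      rw [mul_inv_rev, inv_eq_of_mul_eq_one_right hu2, inv_eq_of_mul_eq_one_right hv2, ← mul_assoc u u v,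
        hu2, one_mul]
    have h1 : u * w * u⁻¹ = w := by
      rw [← hk, ← conj_zpow, hinv, inv_zpow, hk, hwi]
    have h1' : u * w = w * u := mul_inv_eq_iff_eq_mul.1 h1
    refine ⟨h1', ?_⟩
    have h2 : (u * v) * w = w * (u * v) := by
      rw [← hk]; exact ((Commute.refl (u * v)).zpow_right k).eq
    calc v * w = u * ((u * v) * w) := by rw [← mul_assoc, ← mul_assoc, hu2, one_mul]
      _ = u * w * (u * v) := by rw [h2, mul_assoc]
      _ = w * v := by rw [h1', mul_assoc, ← mul_assoc u u v, hu2, one_mul]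
  -- `r(z) = 48`
  have hrz : Nat.card {q : G × G // IsConj z q.1 ∧ IsConj t q.2 ∧ z ∈ zpowers (q.1 * q.2)} = 48 := by
    let Φ : {l : F4 // l ≠ 0} × F4 × F4 →
        {q : G × G // IsConj z q.1 ∧ IsConj t q.2 ∧ z ∈ zpowers (q.1 * q.2)} := fun p =>
      ⟨(φ 0 p.1.1⁻¹ p.2.1, φ p.1.1 0 p.2.2), by
        refine hclassB _ (hS.mem_SB.2 ⟨_, _, rfl⟩) fun e => inv_ne_zero p.1.2 (hS.eq_one_iff.1 e).2.1,
        hclassA _ (hS.mem_SA.2 ⟨_, _, rfl⟩) fun h => by
          obtain ⟨c, hc⟩ := hS.mem_SZ.1 h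
          exact p.1.2 (hS.inj _ _ _ _ _ _ hc).1.symm, by
        refine mem_zpowers_iff.2 ⟨2, ?_⟩
        rw [zpow_two, hS.mul, hS.sq]
        simp only [zero_add, add_zero]
        rw [mul_inv_cancel₀ p.1.2]⟩
    have hb : Function.Bijective Φ := by
      constructor
      · rintro ⟨⟨a, ha⟩, c, d⟩ ⟨⟨a', ha'⟩, c', d'⟩ e
        have e1 := hS.inj _ _ _ _ _ _ (congrArg (fun q => q.1.2) e)
        have e2 := hS.inj _ _ _ _ _ _ (congrArg (fun q => q.1.1) e)
        obtain ⟨rfl, -, rfl⟩ := e1
        obtain ⟨-, -, rfl⟩ := e2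
        rfl
      · rintro ⟨⟨u, v⟩, hu, hv, hmem⟩
        have huo := hord2 hu hzo
        have hvo := hord2 hv hto
        obtain ⟨huz, hvz⟩ := hcomm z u v hzo huo hvo hmem
        have hin : ∀ x : G, orderOf x = 2 → x * z = z * x → x ∈ S := by
          intro x hx hxz
          refine Fusion.RankThreeNormal.mem_sylow_of_normalizes S (k := 1) ?_
            (hcz z hzZ hz1 (mem_centralizer_singleton_iff.2 hxz))
          rw [pow_one, ← hx, pow_orderOf_eq_one]
        have huu : u * u = 1 := by rw [← sq, ← huo, pow_orderOf_eq_one]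
        have hvv : v * v = 1 := by rw [← sq, ← hvo, pow_orderOf_eq_one]
        have huB : u ∈ SB φ := by
          rcases hS.invol u (hin u huo huz) huu with h | h
          · by_contra hn
            exact hznt (hu.trans (hclassA u h fun h' => hn (hS.SZ_le_SB h')).symm)
          · exact h
        have hvA : v ∈ SA φ ∧ v ∉ SZ φ := by
          have hnB : v ∉ SB φ := fun h =>
            hznt ((hclassB v h fun e => by rw [e, orderOf_one] at hvo; omega).trans hv.symm)
          exact ⟨(hS.invol v (hin v hvo hvz) hvv).resolve_right hnB, fun h => hnB (hS.SZ_le_SB h)⟩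
        obtain ⟨b, c, rfl⟩ := hS.mem_SB.1 huB
        obtain ⟨a, d, rfl⟩ := hS.mem_SA.1 hvA.1
        have ha : a ≠ 0 := fun h => hvA.2 (hS.mem_SZ.2 ⟨d, by rw [h]⟩)
        simp only [hS.mul, zero_add, add_zero, mul_zero] at hmem
        obtain ⟨i, hi⟩ := mem_powers_iff_mem_zpowers.2 hmem
        simp only at hi
        set r := φ a b (c + d) with hr
        have hr2 : r ^ 2 = φ 0 0 (a * b) := by rw [sq, hr, hS.sq]
        have hr4 : r ^ 4 = 1 := by
          rw [show (4 : ℕ) = 2 * 2 from rfl, pow_mul, hr2, sq, hS.sq]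
          simp [hS.one]
        have hab : a * b = 1 := by
          rw [← Nat.div_add_mod i 4, pow_add, pow_mul, hr4, one_pow, one_mul] at hi
          have hlt : i % 4 < 4 := Nat.mod_lt _ (by norm_num)
          interval_cases h : i % 4
          · rw [pow_zero] at hi
            exact absurd hi.symm hz1
          · rw [pow_one, hr] at hi
            exact absurd (hS.inj _ _ _ _ _ _ hi).1 ha
          · rw [hr2] at hi
            exact (hS.inj _ _ _ _ _ _ hi).2.2
          · rw [pow_succ, hr2, hr, hS.mul, zero_add] at hi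
            exact absurd (hS.inj _ _ _ _ _ _ hi).1 ha
        refine ⟨(⟨a, ha⟩, c, d), Subtype.ext ?_⟩
        simp only [Φ]
        rw [← eq_inv_of_mul_eq_one' hab]
    rw [← Nat.card_congr (Equiv.ofBijective Φ hb), Nat.card_eq_fintype_card]
    decide
  -- `r(t) = 195`
  have hordπ : ∀ l : ↥L, orderOf (π l) = orderOf (l : G) := fun l => by
    rw [orderOf_injective π hinj, Subgroup.orderOf_coe]
  have hLA : ∀ l : ↥L, orderOf (l : G) = 2 → ∀ a ∈ A₀,
      ∃ c : ↥L, ∃ z' ∈ SZ φ, z' ≠ 1 ∧ (c : G) * l * (c : G)⁻¹ = z' ∧ (c : G) * a * (c : G)⁻¹ = a := by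
    intro l hl a ha
    have hzL : z ∈ L := hT.Z_le hzZ
    obtain ⟨x, hx⟩ := isConj_iff.1 (hT.khyp.one (π l) (π ⟨z, hzL⟩) (by rw [hordπ]; exact hl)
      (by rw [hordπ]; exact hzo))
    obtain ⟨c, rfl⟩ := hT.surj x
    rw [← map_inv, ← map_mul, ← map_mul] at hx
    refine ⟨c, z, hzZ, hz1, congrArg Subtype.val (hinj hx), ?_⟩
    rw [← commute₀ hT hcore ha (hT.le c.2), mul_inv_cancel_right]
  have hrt : Nat.card {q : G × G // IsConj z q.1 ∧ IsConj t q.2 ∧ t ∈ zpowers (q.1 * q.2)} = 195 := by
    rw [← card_odd_pairs h60 hT.khyp h4]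
    symm
    let e := Equiv.ofBijective π ⟨hinj, hT.surj⟩
    have he : ∀ v : M, π (e.symm v) = v := e.apply_symm_apply
    have hA1 : ∀ a ∈ A₀, a ≠ 1 → a ∈ SA φ ∧ a ∉ SZ φ := fun a ha ha1 =>
      ⟨hT.le₀ ha, fun hZ => ha1 (by
        have hm : a ∈ A₀ ⊓ SZ φ := ⟨ha, hZ⟩
        rwa [hT.inf₀, mem_bot] at hm)⟩
    have hmixed : ∀ l : ↥L, ∀ a ∈ A₀, a ≠ 1 → orderOf (l : G) = 2 → IsConj t ((l : G) * a) := by
      intro l a ha ha1 hl
      obtain ⟨c, z', hz', -, hc1, hc2⟩ := hLA l hl a ha
      have hmem : z' * a ∉ SZ φ := fun h =>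
        (hA1 a ha ha1).2 (by simpa using mul_mem (inv_mem hz') h)
      refine (hclassA _ (mul_mem (hS.SZ_le_SA hz') (hT.le₀ ha)) hmem).trans
        (isConj_iff.2 ⟨(c : G)⁻¹, ?_⟩)
      rw [← hc1]
      calc (c : G)⁻¹ * ((c : G) * l * (c : G)⁻¹ * a) * (c : G)⁻¹⁻¹
          = l * ((c : G)⁻¹ * (a * c)) := by group
        _ = l * ((c : G)⁻¹ * (c * a)) := by rw [commute₀ hT hcore ha (hT.le c.2)]
        _ = l * a := by group
    let Ω : {p : M × M // orderOf p.1 = 2 ∧ orderOf p.2 = 2 ∧ Odd (orderOf (p.1 * p.2))} →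
        {q : G × G // IsConj z q.1 ∧ IsConj t q.2 ∧ t ∈ zpowers (q.1 * q.2)} := fun p =>
      ⟨((e.symm p.1.1 : ↥L), (e.symm p.1.2 : ↥L) * t), by
        have h1 : orderOf ((e.symm p.1.1 : ↥L) : G) = 2 := by rw [← hordπ, he]; exact p.2.1
        obtain ⟨c, z', hz', hz'1, hc, -⟩ := hLA _ h1 1 (one_mem _)
        exact (hclassB z' (hS.SZ_le_SB hz') hz'1).trans (isConj_iff.2 ⟨(c : G)⁻¹, by rw [← hc]; group⟩),
        hmixed _ t hT.mem₀ ht1 (by rw [← hordπ, he]; exact p.2.2.1), by
        set r := ((e.symm p.1.1 : ↥L) : G) * ((e.symm p.1.2 : ↥L) : G) with hr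
        have hro : Odd (orderOf r) := by
          rw [hr, ← Subgroup.coe_mul, ← hordπ, map_mul, he, he]; exact p.2.2.2
        refine mem_zpowers_iff.2 ⟨(orderOf r : ℤ), ?_⟩
        show (((e.symm p.1.1 : ↥L) : G) * (((e.symm p.1.2 : ↥L) : G) * t)) ^ (orderOf r : ℤ) = t
        rw [zpow_natCast, ← mul_assoc, ← hr]
        have hc : Commute r t := (commute₀ hT hcore hT.mem₀
          (mul_mem (hT.le (e.symm p.1.1).2) (hT.le (e.symm p.1.2).2))).symm
        rw [hc.mul_pow, pow_orderOf_eq_one, one_mul]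
        obtain ⟨k, hk⟩ := hro
        rw [hk, pow_succ, pow_mul, show t ^ 2 = 1 by rw [← hto]; exact pow_orderOf_eq_one t, one_pow,
          one_mul]⟩
    refine Nat.card_congr (Equiv.ofBijective Ω ⟨?_, ?_⟩)
    · rintro ⟨⟨v, w⟩, hp⟩ ⟨⟨v', w'⟩, hp'⟩ h
      have h1 := congrArg (fun q => q.1.1) h
      have h2 := congrArg (fun q => q.1.2) h
      simp only [Ω] at h1 h2
      have e1 : v = v' := e.symm.injective (Subtype.ext h1)
      have e2 : w = w' := e.symm.injective (Subtype.ext (mul_right_cancel h2))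
      subst e1 e2
      rfl
    · rintro ⟨⟨u, v⟩, hu, hv, hmem⟩
      have huo := hord2 hu hzo
      have hvo := hord2 hv hto
      obtain ⟨hut, hvt⟩ := hcomm t u v hto huo hvo hmem
      obtain ⟨l, hl, a, ha, rfl⟩ := decomp hT (mem_centralizer_singleton_iff.2 hut)
      obtain ⟨l', hl', a', ha', rfl⟩ := decomp hT (mem_centralizer_singleton_iff.2 hvt)
      have hsqL : ∀ l ∈ L, ∀ a ∈ A₀, orderOf (l * a) = 2 → l = 1 ∨ orderOf l = 2 := by
        intro l hl a ha ho
        have hla : Commute l a := (commute₀ hT hcore ha (hT.le hl)).symm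
        have e : l ^ 2 * a ^ 2 = 1 * 1 := by rw [← hla.mul_pow, ← ho, pow_orderOf_eq_one, one_mul]
        obtain ⟨h1, -⟩ := decomp_unique hT (pow_mem hl 2) (one_mem _) (pow_mem ha 2) (one_mem _) e
        by_cases hl1 : l = 1
        · exact Or.inl hl1
        · exact Or.inr (orderOf_eq_prime h1 hl1)
      have ha1 : a = 1 := by
        by_contra ha1
        refine hznt (hu.trans ?_)
        rcases hsqL l hl a ha huo with rfl | ho
        · rw [one_mul]
          exact (hclassA a (hA1 a ha ha1).1 (hA1 a ha ha1).2).symm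
        · exact (hmixed ⟨l, hl⟩ a ha ha1 ho).symm
      subst ha1
      rw [mul_one] at huo hu hmem
      have hcc : Commute (l * l') a' := (commute₀ hT hcore ha' (hT.le (mul_mem hl hl'))).symm
      obtain ⟨k, hk⟩ := mem_powers_iff_mem_zpowers.2 hmem
      simp only at hk
      rw [← mul_assoc, hcc.mul_pow, show t = 1 * t from (one_mul t).symm] at hk
      obtain ⟨hk1, hk2⟩ := decomp_unique hT (pow_mem (mul_mem hl hl') k) (one_mem _) (pow_mem ha' k)
        hT.mem₀ hk
      have ha'2 : a' ^ 2 = 1 := hS.elem_SA.2 a' (hT.le₀ ha')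
      have hkodd : Odd k := by
        by_contra hke
        obtain ⟨j, rfl⟩ := Nat.not_odd_iff_even.1 hke
        rw [← two_mul, pow_mul, ha'2, one_pow] at hk2
        exact ht1 hk2.symm
      have ha't : a' = t := by
        obtain ⟨j, rfl⟩ := hkodd
        rwa [pow_succ, pow_mul, ha'2, one_pow, one_mul] at hk2
      have hodd : Odd (orderOf (l * l')) := hkodd.of_dvd_nat (orderOf_dvd_of_pow_eq_one hk1)
      have hl'o : orderOf l' = 2 := by
        refine (hsqL l' hl' a' ha' hvo).resolve_left fun h => ?_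
        rw [h, mul_one, huo] at hodd
        exact absurd hodd (by decide)
      refine ⟨⟨(π ⟨l, hl⟩, π ⟨l', hl'⟩), by rw [hordπ]; exact huo, by rw [hordπ]; exact hl'o,
        by rw [← map_mul, hordπ]; exact hodd⟩, Subtype.ext ?_⟩
      have hs : ∀ x : ↥L, e.symm (π x) = x := e.symm_apply_apply
      simp only [Ω, hs, mul_one, ha't]
  -- the order
  have hG : Nat.card G = 48960 := by
    have hne : z ≠ t := fun h => hznt (h ▸ IsConj.refl z)
    have h := Cfsg.Agent.S1875.result z t hzo hto hznt {z, t}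
      (by
        intro w hw
        simp only [Finset.mem_insert, Finset.mem_singleton] at hw
        rcases hw with rfl | rfl <;> assumption)
      (by
        intro g hg
        rcases hclass g hg with hc | hc
        · refine ⟨z, Finset.mem_insert_self _ _, hc, fun w hw hwc => ?_⟩
          simp only [Finset.mem_insert, Finset.mem_singleton] at hw
          rcases hw with rfl | rfl
          · rfl
          · exact absurd (hc.symm.trans hwc) hznt
        · refine ⟨t, Finset.mem_insert_of_mem (Finset.mem_singleton_self _), hc, fun w hw hwc => ?_⟩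
          simp only [Finset.mem_insert, Finset.mem_singleton] at hw
          rcases hw with rfl | rfl
          · exact absurd (hwc.symm.trans hc) hznt
          · rfl)
    have hczz' : Nat.card ↥(Subgroup.centralizer ({z} : Set G)) = 192 := hczz
    have hczt' : Nat.card ↥(Subgroup.centralizer ({t} : Set G)) = 240 := hczt
    rw [Finset.sum_pair hne, hczz', hczt', hrz, hrt] at h
    norm_num at h
    exact_mod_cast h
  -- Sylow's theorem for seventeen
  haveI : Fact (Nat.Prime 17) := ⟨by norm_num⟩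
  obtain ⟨g, hg⟩ := exists_prime_orderOf_dvd_card' (G := G) 17 (by rw [hG]; norm_num)
  have hcw : ∀ w : G, orderOf w = 2 → ¬ 17 ∣ Nat.card (cz w) := by
    intro w hw
    have : Nat.card (cz w) = 192 ∨ Nat.card (cz w) = 240 := by
      rcases hclass w hw with hc | hc
      · obtain ⟨c, hc'⟩ := isConj_iff.1 hc.symm
        left
        rw [← hczz]
        refine (Nat.card_congr (Equiv.subtypeEquiv (MulAut.conj c).toEquiv fun x => ?_)).symm
        simp only [MulEquiv.toEquiv_eq_coe, EquivLike.coe_coe, MulAut.conj_apply, ← hc',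
          mem_centralizer_singleton_iff]
        constructor
        · intro h
          calc c * x * c⁻¹ * (c * z * c⁻¹) = c * (x * z) * c⁻¹ := by group
            _ = c * (z * x) * c⁻¹ := by rw [h]
            _ = c * z * c⁻¹ * (c * x * c⁻¹) := by group
        · intro h
          calc x * z = c⁻¹ * (c * x * c⁻¹ * (c * z * c⁻¹)) * c := by group
            _ = c⁻¹ * (c * z * c⁻¹ * (c * x * c⁻¹)) * c := by rw [h]
            _ = z * x := by group
      · obtain ⟨c, hc'⟩ := isConj_iff.1 hc.symm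
        right
        rw [← hczt]
        refine (Nat.card_congr (Equiv.subtypeEquiv (MulAut.conj c).toEquiv fun x => ?_)).symm
        simp only [MulEquiv.toEquiv_eq_coe, EquivLike.coe_coe, MulAut.conj_apply, ← hc',
          mem_centralizer_singleton_iff]
        constructor
        · intro h
          calc c * x * c⁻¹ * (c * t * c⁻¹) = c * (x * t) * c⁻¹ := by group
            _ = c * (t * x) * c⁻¹ := by rw [h]
            _ = c * t * c⁻¹ * (c * x * c⁻¹) := by group
        · intro h
          calc x * t = c⁻¹ * (c * x * c⁻¹ * (c * t * c⁻¹)) * c := by group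
            _ = c⁻¹ * (c * t * c⁻¹ * (c * x * c⁻¹)) * c := by rw [h]
            _ = t * x := by group
    rcases this with h | h <;> rw [h] <;> norm_num
  set C := centralizer (zpowers g : Set G) with hC
  have hCg : C = cz g := by rw [hC, zpowers_eq_closure, centralizer_closure]
  set N := normalizer (zpowers g : Set G) with hN
  have hCN : C ≤ N := centralizer_le_normalizer _
  have hCodd : ¬ 2 ∣ Nat.card C := by
    intro h2
    obtain ⟨w, hw⟩ := exists_prime_orderOf_dvd_card' (G := C) 2 h2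
    rw [← Subgroup.orderOf_coe] at hw
    refine hcw _ hw (hg ▸ Subgroup.orderOf_dvd_natCard _ (mem_centralizer_singleton_iff.2 ?_))
    exact (mem_centralizer_singleton_iff.1 (hCg.le w.2)).symm
  set e := C.relIndex N with hedef
  have hker' : (zpowers g).normalizerMonoidHom.ker = C.subgroupOf N := normalizerMonoidHom_ker _
  have hcardAut : Nat.card (MulAut (zpowers g)) = 16 := by
    rw [IsCyclic.card_mulAut, Nat.card_zpowers, hg, Nat.totient_prime (by norm_num)]
  have he16 : e ∣ 16 := by
    have key := card_dvd_of_injective _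
      (QuotientGroup.kerLift_injective (zpowers g).normalizerMonoidHom)
    rw [hker', ← Subgroup.index, hcardAut] at key
    exact key
  have he4 : e ∣ 4 := by
    obtain ⟨j, hj, hje⟩ := (Nat.dvd_prime_pow Nat.prime_two).1 (show e ∣ 2 ^ 4 from he16)
    rw [hje]
    refine (pow_dvd_pow 2 (show j ≤ 2 from ?_)).trans (by norm_num)
    by_contra hj2
    -- a generator of the image would give an element of order eight
    set f := (zpowers g).normalizerMonoidHom with hf
    haveI : IsCyclic (MulAut (zpowers g)) := by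
      haveI : Fact (Nat.card (zpowers g)).Prime := ⟨by rw [Nat.card_zpowers, hg]; norm_num⟩
      exact (IsCyclic.mulAutMulEquiv (zpowers g)).isCyclic.2 (by
        rw [Nat.card_zpowers, hg]; infer_instance)
    haveI : IsCyclic f.range := inferInstance
    obtain ⟨⟨x, n, rfl⟩, hx⟩ := IsCyclic.exists_ofOrder_eq_natCard (α := f.range)
    have hr : Nat.card f.range = e := by rw [← Subgroup.index_ker, hker']; rfl
    rw [← Subgroup.orderOf_coe, hr, hje] at hx
    have h8 : 8 ∣ orderOf n := by
      refine dvd_trans ?_ (orderOf_map_dvd f n)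
      exact (show (8 : ℕ) ∣ 2 ^ j from (pow_dvd_pow 2 (show 3 ≤ j by omega))).trans hx.symm.dvd
    set y : G := (n : G) ^ (orderOf n / 8) with hy
    have hyo : orderOf y = 8 := by
      rw [hy, orderOf_pow_of_dvd (Nat.div_ne_zero_iff.2 ⟨by norm_num,
        Nat.le_of_dvd (orderOf_pos n) h8⟩) (by rw [Subgroup.orderOf_coe]; exact Nat.div_dvd_of_dvd h8),
        Subgroup.orderOf_coe, Nat.div_div_self h8 (orderOf_pos n).ne']
    obtain ⟨T, hT'⟩ := (IsPGroup.of_card (n := 3) (show Nat.card (zpowers y) = 2 ^ 3 by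
      rw [Nat.card_zpowers, hyo]; norm_num)).exists_le_sylow
    obtain ⟨c, hc⟩ := MulAction.exists_smul_eq G T S
    have hcS : c * y * c⁻¹ ∈ S := by
      show c * y * c⁻¹ ∈ (S : Subgroup G)
      rw [← hc, CfsgLib.Transfer.mem_coe_smul_sylow_iff,
        show c⁻¹ * (c * y * c⁻¹) * c = y by group]
      exact hT' (mem_zpowers y)
    obtain ⟨a, b, d, hd'⟩ := hS.surj _ hcS
    have h4' : (c * y * c⁻¹) ^ 4 = 1 := by
      rw [← hd', show (4 : ℕ) = 2 * 2 from rfl, pow_mul, sq, sq, hS.sq, hS.sq]
      simp [hS.one]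
    have := orderOf_dvd_of_pow_eq_one h4'
    rw [show c * y * c⁻¹ = MulAut.conj c y from rfl, MulEquiv.orderOf_eq, hyo] at this
    norm_num at this
  have hcard : Nat.card N = Nat.card C * e := by
    rw [← Subgroup.card_mul_index (C.subgroupOf N),
      Nat.card_congr (subgroupOfEquivOfLe hCN).toEquiv]
    rfl
  let P : Sylow 17 G := Sylow.ofCard (zpowers g) (by
    rw [Nat.card_zpowers, hg, hG, show (48960 : ℕ) = 17 ^ 1 * 2880 by norm_num,
      Nat.factorization_mul (by norm_num) (by norm_num), Finsupp.add_apply,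
      Nat.Prime.factorization_pow (by norm_num : Nat.Prime 17),
      Nat.factorization_eq_zero_of_not_dvd (by norm_num : ¬ 17 ∣ 2880)]
    simp)
  have hmod : N.index % 17 = 1 := by
    have h1 := card_sylow_modEq_one 17 G
    rw [P.card_eq_index_normalizer] at h1
    exact h1
  have hC765 : Nat.card C ∈ (765 : ℕ).divisors := by
    refine Nat.mem_divisors.2 ⟨?_, by norm_num⟩
    have h := card_subgroup_dvd_card C
    rw [hG, show (48960 : ℕ) = 2 ^ 6 * 765 by norm_num] at h
    exact (Nat.Coprime.pow_right 6 ((Nat.prime_two.coprime_iff_not_dvd).2 hCodd).symm).dvd_of_dvd_mul_left h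
  have h17C : 17 ∣ Nat.card C := hg ▸ Subgroup.orderOf_dvd_natCard _
    (hCg.ge (mem_centralizer_singleton_iff.2 rfl))
  have hidx : N.index = 48960 / (Nat.card C * e) := by
    rw [← hG, ← N.card_mul_index, hcard, Nat.mul_div_cancel_left]
    exact hcard ▸ Nat.card_pos
  have hdvd : Nat.card C * e ∣ 48960 := hG ▸ hcard ▸ card_subgroup_dvd_card _
  have key : ∀ c ∈ (765 : ℕ).divisors, ∀ e ∈ (4 : ℕ).divisors, 17 ∣ c → c * e ∣ 48960 →
      48960 / (c * e) % 17 ≠ 1 := by decide +kernel
  exact key _ hC765 e (Nat.mem_divisors.2 ⟨he4, by norm_num⟩) h17C hdvd (hidx ▸ hmod)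

end CfsgLib.L34Sylow.EndBS
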