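import Cfsg.Agent.Lib.L34Sylow.EndLLMat

/-!
# Piece 8c: no side small
-/

set_option autoImplicit false
set_option linter.style.haveILetI false
set_option linter.unusedSectionVars false
set_option maxRecDepth 100000
set_option maxHeartbeats 400000

namespace CfsgLib.L34Sylow.EndLL

open Cfsg Subgroup

universe u

variable {G : Type u} [Group G] [Finite G] {S : Sylow 2 G} {φ : F4 → F4 → F4 → G}
  {ψ : F4 → F4 → G}

/-- The element `s`, its complement and the data for the transfer. -/
theorem exists_threeHyp (D : LL S φ) (P : Psi φ ψ) (h192 : Nat.card (cz (φ 0 0 1)) = 192) :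
    ∃ s e j : G, ThreeHyp s e j := by
  classical
  haveI : Fact (Nat.Prime 2) := ⟨Nat.prime_two⟩
  haveI : Fact (Nat.Prime 3) := ⟨Nat.prime_three⟩
  obtain ⟨h, l, m, E⟩ := D.exists_helt h192
  obtain ⟨s, hsN, hs, hs3⟩ := P.exists_scalar D E
  have hl0 := E.scal.1
  have hne : ∀ {n : G} {M : M4}, Acts ψ n M → M ≠ mone → n ≠ 1 := by
    intro n M hn hM e
    exact hM (P.acts_uniq (e ▸ hn) P.acts_one)
  have hs1 : s ≠ 1 := hne hs fun e => E.ne (congrArg (·.1) e)
  have hso : orderOf s = 3 := orderOf_eq_prime hs3 hs1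
  -- the lifts
  have hex : ∀ M : {M : M4 // mdet M ≠ 0},
      ∃ n ∈ normalizer (SA φ : Set G), Commute n s ∧ Acts ψ n M.1 := fun M =>
    P.exists_comm D E hsN hs M.1 M.2
  choose c hcN hcs hca using hex
  have huq : ∀ (n : G) (M : {M : M4 // mdet M ≠ 0}), n ∈ normalizer (SA φ : Set G) → Commute n s →
      Acts ψ n M.1 → n = c M := fun n M hn hc h =>
    P.comm_uniq D E hsN hs hn (hcN M) hc (hcs M) h (hca M)
  have hmul : ∀ M N : {M : M4 // mdet M ≠ 0},
      c M * c N = c ⟨mmul M.1 N.1, by rw [mdet_mul]; exact mul_ne_zero M.2 N.2⟩ := fun M N =>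
    huq _ _ (mul_mem (hcN M) (hcN N)) ((hcs M).mul_left (hcs N)) (P.acts_mul (hca M) (hca N))
  have hone : ∀ (hM : mdet mone ≠ 0), c (⟨mone, hM⟩ : {M : M4 // mdet M ≠ 0}) = 1 := fun hM =>
    (huq 1 ⟨mone, hM⟩ (one_mem _) (Commute.one_left s) P.acts_one).symm
  have hcinj : Function.Injective c := fun M N e =>
    Subtype.ext (P.acts_uniq (hca M) (e ▸ hca N))
  -- the involution
  have hd1 : mdet ((1, 1, 0, 1) : M4) ≠ 0 := by decide
  set u := c ⟨(1, 1, 0, 1), hd1⟩ with hu
  have huo : orderOf u = 2 := by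
    refine orderOf_eq_prime (p := 2) ?_ (hne (M := ((1, 1, 0, 1) : M4)) (hca ⟨_, hd1⟩) (by decide))
    rw [pow_two, hu, hmul, ← hone (show mdet mone ≠ 0 by decide)]
    exact congrArg c (Subtype.ext (show mmul ((1, 1, 0, 1) : M4) (1, 1, 0, 1) = mone by decide))
  have hus : Commute u s := hcs _
  obtain ⟨h12, hcomm, hsq⟩ := D.inf_cz E h192 huo hso hus.symm
  -- the order of the centraliser
  set K := cz s with hK
  let Z : Subgroup K := (zpowers s).subgroupOf K
  have hsK : zpowers s ≤ K := zpowers_le.2 (mem_centralizer_singleton_iff.2 rfl)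
  haveI : Z.Normal := ⟨fun v hv g => by
    obtain ⟨i, hi⟩ := mem_zpowers_iff.1 (show (v : G) ∈ zpowers s from hv)
    show (g : G) * v * (g : G)⁻¹ ∈ zpowers s
    have hg : Commute (g : G) s := mem_centralizer_singleton_iff.1 g.2
    rw [← hi, (hg.zpow_right i).eq, mul_inv_cancel_right]
    exact zpow_mem (mem_zpowers s) i⟩
  have hZ : Nat.card Z = 3 := by
    rw [Nat.card_congr (subgroupOfEquivOfLe hsK).toEquiv, Nat.card_zpowers, hso]
  let π := QuotientGroup.mk' Z
  let W : Subgroup K := (cz u ⊓ cz s).subgroupOf K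
  let V := W.map π
  have hWc : Nat.card W = 12 := by
    rw [Nat.card_congr (subgroupOfEquivOfLe inf_le_right).toEquiv, h12]
  have hZW : Z ≤ W := fun v hv => by
    obtain ⟨i, hi⟩ := mem_zpowers_iff.1 (show (v : G) ∈ zpowers s from hv)
    refine mem_subgroupOf.2 ⟨mem_centralizer_singleton_iff.2 ?_, v.2⟩
    rw [← hi]; exact hus.symm.zpow_left i
  have hV4 : Nat.card V = 4 := by
    have e := W.card_mul_index
    have e2 := index_map_eq (H := W) (QuotientGroup.mk'_surjective Z)
      (by rw [QuotientGroup.ker_mk']; exact hZW)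
    have e3 := V.card_mul_index
    rw [← index_eq_card Z] at e3
    have e4 := Z.card_mul_index
    rw [hZ] at e4
    rw [show V.index = W.index from e2] at e3
    rw [hWc] at e
    have hpos : 0 < W.index := Nat.pos_of_ne_zero index_ne_zero_of_finite
    refine Nat.eq_of_mul_eq_mul_right hpos ?_
    omega
  have hV2 : ∀ v ∈ V, v * v = 1 := by
    rintro _ ⟨w, hw, rfl⟩
    rw [← map_mul]
    exact (QuotientGroup.eq_one_iff _).2 (hsq w (mem_subgroupOf.1 hw))
  haveI : IsKleinFour V := by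
    refine ⟨hV4, Nat.dvd_antisymm (Monoid.exponent_dvd.2 fun v =>
      orderOf_dvd_of_pow_eq_one (by rw [pow_two]; exact Subtype.ext (hV2 v.1 v.2))) ?_⟩
    haveI : Nontrivial V := Finite.one_lt_card_iff_nontrivial.1 (by rw [hV4]; norm_num)
    obtain ⟨v, hv⟩ := exists_ne (1 : V)
    have : orderOf v = 2 := orderOf_eq_prime (p := 2) (by
      rw [pow_two]; exact Subtype.ext (hV2 v.1 v.2)) hv
    exact this ▸ Monoid.order_dvd_exponent v
  have hcentV : ∀ v ∈ V, v ≠ 1 → centralizer ({v} : Set (K ⧸ Z)) = V := by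
    intro v hv hv1
    obtain ⟨w, hw, rfl⟩ := hv
    -- an involution over it
    set q : K := w ^ 3 with hq
    have hwmem : (w : G) ∈ cz u ⊓ cz s := mem_subgroupOf.1 hw
    have hqv : π q = π w := by
      rw [hq, map_pow, pow_succ, pow_two, hV2 _ (mem_map_of_mem π hw), one_mul]
    have hq1 : (q : G) ≠ 1 := fun e => hv1 (by
      rw [← hqv, show q = 1 from Subtype.ext e, map_one])
    have hq2 : (q : G) * q = 1 := by
      obtain ⟨i, hi⟩ := mem_zpowers_iff.1 (hsq _ hwmem)
      have hw6 : ((w : G) * w) ^ (3 : ℕ) = 1 := by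
        rw [← hi, ← zpow_natCast, ← zpow_mul, mul_comm, zpow_mul, zpow_natCast, hs3, one_zpow]
      rw [← hw6, hq, SubmonoidClass.coe_pow, ← pow_two, ← pow_two, ← pow_mul, ← pow_mul]
    have hqo : orderOf (q : G) = 2 := orderOf_eq_prime (p := 2) (by rw [pow_two, hq2]) hq1
    have hqm : (q : G) ∈ cz u ⊓ cz s := by rw [hq, SubmonoidClass.coe_pow]; exact pow_mem hwmem 3
    have hqs : Commute (q : G) s := mem_centralizer_singleton_iff.1 hqm.2
    obtain ⟨h12', -, -⟩ := D.inf_cz E h192 hqo hso hqs.symm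
    have heq : cz u ⊓ cz s = cz (q : G) ⊓ cz s := eq_of_le_of_card_ge
      (fun p hp => ⟨mem_centralizer_singleton_iff.2 (hcomm p hp q hqm), hp.2⟩) (by rw [h12, h12'])
    apply le_antisymm
    · intro x hx
      obtain ⟨g, rfl⟩ := QuotientGroup.mk'_surjective Z x
      rw [mem_centralizer_singleton_iff, ← hqv] at hx
      refine ⟨g, mem_subgroupOf.2 ?_, rfl⟩
      rw [heq]
      refine ⟨mem_centralizer_singleton_iff.2 ?_, g.2⟩
      have hx' : (g * q * g⁻¹ * q⁻¹ : K) ∈ Z := by
        rw [← QuotientGroup.eq_one_iff]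
        show π (g * q * g⁻¹ * q⁻¹) = 1
        rw [map_mul, map_mul, map_mul, map_inv, map_inv, hx, mul_inv_cancel_right, mul_inv_cancel]
      obtain ⟨i, hi⟩ := mem_zpowers_iff.1 (show ((g * q * g⁻¹ * q⁻¹ : K) : G) ∈ zpowers s from hx')
      have hcs' : Commute (s ^ i) (q : G) := hqs.symm.zpow_left i
      have hgq : (g : G) * q * (g : G)⁻¹ = s ^ i * q := by
        rw [hi]; simp
      have e1 : (s ^ i) * (s ^ i) = 1 := by
        have e2 : ((g : G) * q * (g : G)⁻¹) * ((g : G) * q * (g : G)⁻¹) = 1 := by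
          rw [conj_mul, hq2]; group
        rw [hgq, mul_assoc, ← mul_assoc (q : G), ← hcs'.eq, mul_assoc (s ^ i) (q : G), hq2,
          mul_one] at e2
        exact e2
      have e3 : (s ^ i) ^ 3 = 1 := by
        rw [← zpow_natCast, ← zpow_mul, mul_comm, zpow_mul, zpow_natCast, hs3, one_zpow]
      have e4 : s ^ i = 1 := orderOf_eq_one_iff.1 (Nat.eq_one_of_dvd_coprimes
        (show Nat.Coprime 2 3 by norm_num)
        (orderOf_dvd_of_pow_eq_one (by rw [pow_two, e1])) (orderOf_dvd_of_pow_eq_one e3))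
      rw [e4, one_mul] at hgq
      exact mul_inv_eq_iff_eq_mul.1 hgq
    · rintro _ ⟨p, hp, rfl⟩
      refine mem_centralizer_singleton_iff.2 ?_
      rw [← map_mul, ← map_mul]
      exact congrArg π (Subtype.ext (hcomm p (mem_subgroupOf.1 hp) w hwmem))
  have hle : Nat.card K ≤ 180 := by
    have e4 := Z.card_mul_index
    rw [hZ, index_eq_card] at e4
    rcases L34Cent.card_cases V hcentV with e | e | e
    · omega
    · obtain ⟨e, -⟩ := e; omega
    · obtain ⟨e, -⟩ := e; omega
  let cK : {M : M4 // mdet M ≠ 0} → K := fun M => ⟨c M, mem_centralizer_singleton_iff.2 (hcs M)⟩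
  have hcK : Function.Bijective cK := by
    refine Function.Injective.bijective_of_nat_card_le (fun M N e => hcinj (congrArg Subtype.val e)) ?_
    rw [Nat.card_eq_fintype_card (α := {M : M4 // mdet M ≠ 0}), card_gl]
    exact hle
  have hsurj : ∀ g ∈ K, ∃ M, c M = g := fun g hg => by
    obtain ⟨M, hM⟩ := hcK.2 ⟨g, hg⟩
    exact ⟨M, congrArg Subtype.val hM⟩
  have hK180 : Nat.card K = 180 := by
    rw [← Nat.card_eq_of_bijective cK hcK, Nat.card_eq_fintype_card, card_gl]
  -- `s` is not real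
  have hnr : ¬ Real' s := by
    rintro ⟨n, hn⟩
    have hnu : Commute (n * u * n⁻¹) s := by
      have : n * s⁻¹ * n⁻¹ = s := by rw [← conj_inv, hn, inv_inv]
      have h' := (Commute.conj_iff n).2 hus.inv_right
      rwa [this] at h'
    obtain ⟨M, hM⟩ := hsurj _ (mem_centralizer_singleton_iff.2 hnu)
    have hMo : orderOf (c M) = 2 := by rw [hM, ← MulAut.conj_apply, MulEquiv.orderOf_eq, huo]
    have hM1 : M.1 ≠ mone := by
      intro e
      have : c M = 1 := by
        rw [show M = ⟨mone, e ▸ M.2⟩ from Subtype.ext e]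
        exact hone _
      rw [this, orderOf_one] at hMo
      norm_num at hMo
    have hM2 : mmul M.1 M.1 = mone := by
      have e2 : c M * c M = 1 := by rw [← pow_two, ← hMo, pow_orderOf_eq_one]
      rw [hmul, ← hone (show mdet mone ≠ 0 by decide)] at e2
      exact congrArg Subtype.val (hcinj e2)
    obtain ⟨X, hX, hXM⟩ := invol_conj M.1 M.2 hM1 hM2
    set k := c ⟨X, hX⟩
    have hk : k * (n * u * n⁻¹) = u * k := by
      rw [← hM, hu, hmul, hmul]
      exact congrArg c (Subtype.ext hXM)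
    have hks : Commute k s := hcs _
    have hkn : Commute (k * n) u := by
      show k * n * u = u * (k * n)
      calc k * n * u = k * (n * u * n⁻¹) * n := by group
        _ = _ := by rw [hk]; group
    have hinv : k * n * s * (k * n)⁻¹ = s⁻¹ := by
      calc k * n * s * (k * n)⁻¹ = k * (n * s * n⁻¹) * k⁻¹ := by group
        _ = _ := by rw [hn, hks.inv_right.eq, mul_inv_cancel_right]
    obtain ⟨g, hgu, hgs⟩ := D.exists_conj_h E h192 huo hso hus.symm
    have hmem : g * (k * n) * g⁻¹ ∈ cz (φ 0 0 1) :=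
      mem_centralizer_singleton_iff.2 (hgu ▸ (Commute.conj_iff g).2 hkn)
    refine D.not_inverted E hmem ?_
    have e : g * (k * n) * g⁻¹ * (g * s * g⁻¹) * (g * (k * n) * g⁻¹)⁻¹ = (g * s * g⁻¹)⁻¹ := by
      calc _ = g * (k * n * s * (k * n)⁻¹) * g⁻¹ := by group
        _ = _ := by rw [hinv]; group
    rcases hgs with e' | e' <;> rw [e'] at e
    · exact e
    · rw [← inv_inj, inv_inv, conj_inv]
      simpa using e
  -- the elements `e` and `j`
  set w := l with hw
  obtain ⟨-, hw2, hw3, hJ, hEinv, hE3⟩ := diag_facts w hl0 E.ne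
  have hdE : mdet ((w, 0, 0, w * w) : M4) ≠ 0 := by
    simpa [mdet] using mul_ne_zero hl0 (mul_ne_zero hl0 hl0)
  have hdE' : mdet ((w * w, 0, 0, w) : M4) ≠ 0 := by
    simpa [mdet] using mul_ne_zero (mul_ne_zero hl0 hl0) hl0
  set e := c ⟨(w, 0, 0, w * w), hdE⟩ with he
  have hei : c ⟨(w * w, 0, 0, w), hdE'⟩ = e⁻¹ := by
    refine eq_inv_of_mul_eq_one_right ?_
    rw [he, hmul, ← hone (show mdet mone ≠ 0 by decide)]
    exact congrArg c (Subtype.ext hEinv)
  have heo : orderOf e = 3 := by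
    refine orderOf_eq_prime (p := 3) ?_ (hne (hca _) fun e' => E.ne (congrArg (·.1) e'))
    rw [pow_succ', pow_two, he, hmul, hmul, ← hone (show mdet mone ≠ 0 by decide)]
    exact congrArg c (Subtype.ext hE3)
  set j := c ⟨(0, 1, 1, 0), by decide⟩ with hj
  have hje : j * e * j⁻¹ = e⁻¹ := by
    rw [mul_inv_eq_iff_eq_mul, ← hei, hj, he, hmul, hmul]
    exact congrArg c (Subtype.ext hJ)
  have hodd : Odd (Nat.card (cz e)) := by
    rw [← Nat.not_even_iff_odd, even_iff_two_dvd]
    intro h2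
    obtain ⟨v, hv⟩ := exists_prime_orderOf_dvd_card' (G := cz e) 2 h2
    rw [← orderOf_coe] at hv
    have hev : Commute e (v : G) := (mem_centralizer_singleton_iff.1 v.2 : Commute (v : G) e).symm
    refine hnr ((D.real_iff E h192 huo hso hus.symm).2 ?_)
    exact (D.real_iff E h192 hv heo hev).1 ⟨j, hje⟩
  have hform : ∀ v ∈ cz s ⊓ cz e, ∃ p d : F4, p ≠ 0 ∧ d ≠ 0 ∧
      ∃ hM : mdet ((p, 0, 0, d) : M4) ≠ 0, c ⟨(p, 0, 0, d), hM⟩ = v := by
    rintro v ⟨hvs, hve⟩
    obtain ⟨⟨⟨p, q, r, d⟩, hM⟩, rfl⟩ := hsurj v hvs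
    have hce : c ⟨(p, q, r, d), hM⟩ * e = e * c ⟨(p, q, r, d), hM⟩ :=
      mem_centralizer_singleton_iff.1 hve
    rw [he, hmul, hmul] at hce
    obtain ⟨hq, hr⟩ := diag_of_comm w hl0 E.ne _ (congrArg Subtype.val (hcinj hce))
    simp only at hq hr
    subst hq hr
    simp only [mdet, mul_zero, zero_mul, add_zero] at hM
    exact ⟨p, d, left_ne_zero_of_mul hM, right_ne_zero_of_mul hM, _, rfl⟩
  have hcard : Nat.card ↥(cz s ⊓ cz e) = 9 := by
    have hdd : ∀ p : {x : F4 // x ≠ 0} × {x : F4 // x ≠ 0},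
        mdet ((p.1.1, 0, 0, p.2.1) : M4) ≠ 0 := fun p => by
      simpa [mdet] using mul_ne_zero p.1.2 p.2.2
    let f : {x : F4 // x ≠ 0} × {x : F4 // x ≠ 0} → ↥(cz s ⊓ cz e) := fun p =>
      ⟨c ⟨_, hdd p⟩, mem_centralizer_singleton_iff.2 (hcs _), mem_centralizer_singleton_iff.2 (by
        rw [he, hmul, hmul]
        exact congrArg c (Subtype.ext (by simp [mmul, mul_comm])))⟩
    have hf : Function.Bijective f := by
      constructor
      · intro p p' ee
        have := congrArg Subtype.val (hcinj (congrArg Subtype.val ee))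
        simp only [Prod.mk.injEq] at this
        exact Prod.ext (Subtype.ext this.1) (Subtype.ext this.2.2.2)
      · rintro ⟨v, hv⟩
        obtain ⟨p, d, hp, hd, hM, rfl⟩ := hform v hv
        exact ⟨(⟨p, hp⟩, ⟨d, hd⟩), Subtype.ext rfl⟩
    rw [← Nat.card_eq_of_bijective f hf, Nat.card_prod, Nat.card_eq_fintype_card]
    decide
  have hrest : ∀ v ∈ cz s ⊓ cz e, v = 1 ∨ v = e ∨ v = e⁻¹ ∨ Nat.card (cz v) = 180 := by
    intro v hv
    obtain ⟨p, d, hp, hd, hM, rfl⟩ := hform v hv
    set v := c ⟨(p, 0, 0, d), hM⟩ with hvdef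
    by_cases hv1 : v = 1
    · exact Or.inl hv1
    have hv3 : v ^ 3 = 1 := by
      rw [pow_succ, pow_two, hvdef, hmul, hmul, ← hone (show mdet mone ≠ 0 by decide)]
      refine congrArg c (Subtype.ext ?_)
      simp [mmul, mone, f4_cube p hp, f4_cube d hd]
    have hvo : orderOf v = 3 := orderOf_eq_prime hv3 hv1
    have done : ∀ x : G, orderOf x = 2 → Commute v x → Nat.card (cz v) = 180 := fun x hx hc => by
      rw [D.card_cz_three E h192 hx hvo hc, ← D.card_cz_three E h192 huo hso hus.symm]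
      exact hK180
    rcases diag_cases w hl0 E.ne p d hp hd with ⟨rfl, rfl⟩ | ⟨rfl, rfl⟩ | ⟨rfl, rfl⟩ | rfl | rfl |
      rfl
    · exact absurd (hone _) hv1
    · exact Or.inr (Or.inl rfl)
    · exact Or.inr (Or.inr (Or.inl hei))
    · refine Or.inr (Or.inr (Or.inr (done u huo ?_)))
      show v * u = u * v
      rw [hvdef, hu, hmul, hmul]
      exact congrArg c (Subtype.ext (by simp [mmul]))
    · refine Or.inr (Or.inr (Or.inr (done (ψ 1 0) (P.ord (by simp)) ?_)))
      have := hca ⟨((1 : F4), 0, 0, d), hM⟩ 1 0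
      simp only [cj, mul_one, mul_zero, add_zero] at this
      exact mul_inv_eq_iff_eq_mul.1 this
    · refine Or.inr (Or.inr (Or.inr (done (ψ 0 1) (P.ord (by simp)) ?_)))
      have := hca ⟨(p, 0, 0, (1 : F4)), hM⟩ 0 1
      simp only [cj, mul_one, mul_zero, zero_add] at this
      exact mul_inv_eq_iff_eq_mul.1 this
  exact ⟨s, e, j, hso, heo, (hcs _).symm, hK180, hcard, hodd, hrest, hcs _, hje⟩

end CfsgLib.L34Sylow.EndLL

namespace CfsgLib.L34Sylow

open Cfsg Subgroup EndLL

universe u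

/-- Piece 8c: no side small. -/
theorem endLL : StmtEndLL.{u} := by
  intro hFs hB hCZ G _ _ S φ hS ih hA hBs hc
  classical
  have D : LL S φ := LL.mk' hFs hB hCZ hS hA hBs hc
  haveI hN : (invSub G).Normal := invSub_normal
  refine ⟨invSub G, hN, ?_, D.index_invSub hFs hB hA, D.centralizer_invSub⟩
  by_cases hL : invSub G = ⊤
  · have hG : Recog.CIT.IsL34 G := by
      rcases D.card_cz_cases with h | h
      · exact D.isL34_of_cit hA hL h
      · exfalso
        obtain ⟨ψ, h1, h2, h3, h4, h5, h6, -, -⟩ := hB hFs G S φ hS hA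
        obtain ⟨s, e, j, T⟩ := exists_threeHyp D ⟨h1, h2, h3, h4, h5, h6⟩ h
        obtain ⟨N, hNn, hodd, hne⟩ := exists_normal_odd T
        haveI := hNn
        exact hne (D.eq_top_of_odd_index hL hodd)
    obtain ⟨F, iF, jF, hF, ⟨f⟩⟩ := hG
    rw [hL]
    exact ⟨F, iF, jF, hF, ⟨(Subgroup.topEquiv).trans f⟩⟩
  · have hm : ∀ a b c, φ a b c ∈ invSub G := fun a b c => S_le_invSub hS (hS.mem a b c)
    have hSL := setup_L hS hm
    have hlt : Nat.card (invSub G) < Nat.card G :=
      lt_of_le_of_ne (Nat.le_of_dvd Nat.card_pos (card_subgroup_dvd_card _))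
        fun e => hL (eq_top_of_card_eq _ e)
    have hsA := not_small_L hFs hB hS hA D.centralizer_SA hm
    have hsB : ¬ SmallB (fun a b c => (⟨φ a b c, hm a b c⟩ : invSub G)) := by
      rw [← small_swap]
      have hcB : centralizer (SA (swap φ) : Set G) ≤ SA (swap φ) :=
        (LL.mk' hFs hB hCZ hS.swap (fun h => hBs ((small_swap φ).1 h))
          (fun h => hA ((smallB_swap φ).1 h)) hc).centralizer_SA
      exact not_small_L hFs hB hS.swap (fun h => hBs ((small_swap φ).1 h)) hcB fun a b c => hm _ _ _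
    obtain ⟨L', hn, hL', hidx, -⟩ := (ih (invSub G) hlt _ _ hSL).ll hsA hsB
    haveI := hn
    have hodd : Odd L'.index := Odd.of_dvd_nat (by decide) hidx
    have htop : L' = ⊤ := by
      suffices hall : ∀ v (hv : v ∈ invSub G), (⟨v, hv⟩ : invSub G) ∈ L' from
        eq_top_iff.2 fun v _ => hall v.1 v.2
      intro v hv
      induction hv using closure_induction with
      | mem w hw =>
        set W : invSub G := ⟨w, subset_closure hw⟩
        have h1 : orderOf (QuotientGroup.mk' L' W) ∣ 2 :=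
          (Subgroup.orderOf_mk w (subset_closure hw)).trans hw ▸ orderOf_map_dvd _ W
        have h2 : orderOf (QuotientGroup.mk' L' W) ∣ L'.index := by
          rw [index_eq_card]; exact orderOf_dvd_natCard _
        exact (QuotientGroup.eq_one_iff W).1 (orderOf_eq_one_iff.1
          (Nat.eq_one_of_dvd_coprimes (Nat.coprime_two_left.2 hodd) h1 h2))
      | one => exact L'.one_mem
      | mul p q hp hq i j => exact L'.mul_mem i j
      | inv p hp i => exact L'.inv_mem i
    obtain ⟨F, iF, jF, hF, ⟨f⟩⟩ := hL'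
    subst htop
    exact ⟨F, iF, jF, hF, ⟨(Subgroup.topEquiv (G := invSub G)).symm.trans f⟩⟩

end CfsgLib.L34Sylow
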