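import Cfsg.Agent.Lib.L34Sylow.Coords
import Cfsg.Agent.Lib.Base.Cores

/-!
# No side small, trivial cores: the centraliser of an involution
-/

set_option autoImplicit false
set_option linter.style.haveILetI false
set_option linter.unusedSectionVars false

namespace CfsgLib.L34Sylow.EndLL

open Cfsg Subgroup

universe u

theorem f4_orbit : ∀ l : F4, l ≠ 0 → l ≠ 1 → ∀ c : F4, c ≠ 0 →
    c = 1 ∨ c = l * l ∨ c = l * l * (l * l) := by decide

theorem f4_sq_eq_one : ∀ l : F4, l * l = 1 → l = 1 := by decide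

theorem f4_cube : ∀ l : F4, l ≠ 0 → l * l * l = 1 := by decide

variable {G : Type u} [Group G] {S : Sylow 2 G} {φ : F4 → F4 → F4 → G}

/-- The hypotheses. -/
structure LL (S : Sylow 2 G) (φ : F4 → F4 → F4 → G) : Prop where
  hS : Setup S φ
  facts : Facts S φ
  ztA : ∀ x ∈ SA φ, x ≠ 1 → ZType φ x
  ztB : ∀ x ∈ SB φ, x ≠ 1 → ZType φ x
  diag : HasDiag S φ
  cz_le : ∀ g ∈ cz (φ 0 0 1), g ∈ normalizer (S : Set G)
  cores : CoresTrivial G

/-- The hypotheses hold when neither side is small. -/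
theorem LL.mk' [Finite G] (hFs : StmtFacts.{u}) (hB : StmtBig.{u}) (hCZ : StmtCentZ.{u})
    (hS : Setup S φ) (hA : ¬ Small φ) (hBs : ¬ SmallB φ) (hc : CoresTrivial G) : LL S φ := by
  obtain ⟨_, -, -, -, -, -, -, hzA, hd⟩ := hB hFs G S φ hS hA
  obtain ⟨_, -, -, -, -, -, -, hzB, -⟩ := hB hFs G S _ hS.swap (fun h => hBs ((small_swap φ).1 h))
  refine ⟨hS, hFs G S φ hS, hzA, fun x hx h1 => ?_, hd, fun g hg => ?_, hc⟩
  · exact (ztype_swap φ x).1 (hzB x (by rwa [SA_swap]) h1)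
  · have hne : φ 0 0 1 ≠ 1 := fun h => absurd (hS.eq_one_iff.1 h).2.2 (by decide)
    obtain ⟨x, hx, n, hn, -, rfl⟩ := hCZ hFs G S φ hS _ (hS.mem_SZ.2 ⟨1, rfl⟩) hne g hg
    rw [hc _ (orderOf_eq_prime (p := 2) (by
      rw [pow_two, hS.sq, mul_zero, hS.one]) hne)] at hx
    rwa [mem_bot.1 hx, one_mul]

namespace LL

variable (D : LL S φ)
include D

theorem z_ne : φ 0 0 1 ≠ (1 : G) := fun h => absurd (D.hS.eq_one_iff.1 h).2.2 (by decide)

theorem ord_z : orderOf (φ 0 0 1) = 2 :=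
  orderOf_eq_prime (p := 2) (by rw [pow_two, D.hS.sq, mul_zero, D.hS.one]) D.z_ne

theorem comm_Z (c : F4) {g : G} (hg : g ∈ S) : Commute g (φ 0 0 c) := by
  obtain ⟨a, b, d, rfl⟩ := D.hS.surj g hg
  exact (D.hS.commute_iff ..).2 (by simp)

theorem S_le : (S : Subgroup G) ≤ cz (φ 0 0 1) := fun _ hg =>
  mem_centralizer_singleton_iff.2 (D.comm_Z 1 hg)

/-- One class of involutions. -/
theorem one_class {u : G} (hu : orderOf u = 2) : IsConj (φ 0 0 1) u := by
  obtain ⟨x, hx, hxu⟩ := D.facts.exists_conj u hu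
  have hx1 : x ≠ 1 := by
    rintro rfl
    obtain ⟨g, hg⟩ := isConj_iff.1 hxu
    rw [mul_one, mul_inv_cancel] at hg
    rw [← hg, orderOf_one] at hu
    norm_num at hu
  obtain ⟨c, hc, hcx⟩ := hx.elim (fun h => D.ztA x h hx1) fun h => D.ztB x h hx1
  refine IsConj.trans ?_ (hcx.trans hxu)
  obtain ⟨h, -, l, hl1, hl⟩ := D.diag
  have step : ∀ c, IsConj (φ 0 0 c) (φ 0 0 (l * l * c)) := fun c =>
    isConj_iff.2 ⟨h, hl.2.2.2 c⟩
  rcases f4_orbit l hl.1 hl1 c hc with rfl | rfl | rfl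
  · exact IsConj.refl _
  · simpa using step 1
  · simpa [mul_assoc] using (step 1).trans (step _)

theorem scal_of {g : G} (hg : g ∈ cz (φ 0 0 1)) :
    ∃ l m, Scal φ g l m ∧ l * m = 1 := by
  obtain ⟨l, m, hs⟩ := D.facts.scal g (D.cz_le g hg)
  refine ⟨l, m, hs, ?_⟩
  have h := hs.2.2.2 1
  rw [cj, (mem_centralizer_singleton_iff.1 hg : g * _ = _), mul_inv_cancel_right] at h
  have := (D.hS.inj _ _ _ _ _ _ h).2.2
  simpa using this.symm

theorem scal_uniq {g : G} {l m l' m' : F4} (h : Scal φ g l m) (h' : Scal φ g l' m') :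
    l = l' ∧ m = m' := by
  obtain ⟨c, hc⟩ := h.2.2.1 1 1
  obtain ⟨c', hc'⟩ := h'.2.2.1 1 1
  obtain ⟨h1, h2, -⟩ := D.hS.inj _ _ _ _ _ _ (hc.symm.trans hc')
  exact ⟨by simpa using h1, by simpa using h2⟩

theorem scal_mul {g g' : G} {l m l' m' : F4} (h : Scal φ g l m) (h' : Scal φ g' l' m') :
    Scal φ (g * g') (l * l') (m * m') := by
  refine ⟨mul_ne_zero h.1 h'.1, mul_ne_zero h.2.1 h'.2.1, fun a b => ?_, fun c => ?_⟩
  · obtain ⟨c', hc'⟩ := h'.2.2.1 a b
    obtain ⟨c, hc⟩ := h.2.2.1 (l' * a) (m' * b)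
    refine ⟨c + l * m * c', ?_⟩
    have hz := h.2.2.2 c'
    simp only [cj] at hc hc' hz ⊢
    rw [D.hS.split (l' * a) (m' * b) c'] at hc'
    rw [show g * g' * φ a b 0 * (g * g')⁻¹ = g * (g' * φ a b 0 * g'⁻¹) * g⁻¹ by group, hc',
      ← conj_mul, hc, hz, D.hS.mul]
    simp [mul_assoc]
  · have hz' := h'.2.2.2 c
    have hz := h.2.2.2 (l' * m' * c)
    simp only [cj] at hz hz' ⊢
    rw [show g * g' * φ 0 0 c * (g * g')⁻¹ = g * (g' * φ 0 0 c * g'⁻¹) * g⁻¹ by group, hz', hz]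
    congr 1
    ring

theorem scal_one : Scal φ (1 : G) 1 1 :=
  ⟨one_ne_zero, one_ne_zero, fun a b => ⟨0, by simp [cj]⟩, fun c => by simp [cj]⟩

theorem scal_mem_S {g : G} (hg : g ∈ S) : Scal φ g 1 1 := by
  obtain ⟨x, y, w, rfl⟩ := D.hS.surj g hg
  refine ⟨one_ne_zero, one_ne_zero, fun a b => ⟨0 + (x * b + a * y), ?_⟩, fun c => ?_⟩
  · rw [cj, D.hS.conj, one_mul, one_mul]
  · rw [cj, D.hS.conj]
    simp

/-- The first scalar of an element of the centraliser. -/
noncomputable def lv (g : cz (φ 0 0 1)) : F4 := (D.scal_of g.2).choose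

theorem lv_spec (g : cz (φ 0 0 1)) : ∃ m, Scal φ (g : G) (D.lv g) m ∧ D.lv g * m = 1 :=
  (D.scal_of g.2).choose_spec

theorem lv_eq {g : cz (φ 0 0 1)} {l m : F4} (h : Scal φ (g : G) l m) : D.lv g = l := by
  obtain ⟨m', hm', -⟩ := D.lv_spec g
  exact (D.scal_uniq hm' h).1

/-- The first scalar as a homomorphism. -/
noncomputable def lhom : cz (φ 0 0 1) →* F4 where
  toFun := D.lv
  map_one' := D.lv_eq (g := 1) (by exact D.scal_one)
  map_mul' g g' := by
    obtain ⟨m, hm, -⟩ := D.lv_spec g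
    obtain ⟨m', hm', -⟩ := D.lv_spec g'
    exact D.lv_eq (g := g * g') (D.scal_mul hm hm')

variable [Finite G]

theorem centralizer_S : centralizer (S : Set G) ≤ S := by
  classical
  haveI : Fact (Nat.Prime 2) := ⟨Nat.prime_two⟩
  set C := centralizer (S : Set G) with hC
  have hCz : C ≤ cz (φ 0 0 1) := fun g hg =>
    mem_centralizer_singleton_iff.2 (mem_centralizer_iff.1 hg _ (D.hS.mem ..)).symm
  have hCn : normalizer (S : Set G) ≤ normalizer (C : Set G) := by
    intro g hg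
    refine mem_normalizer_iff.2 fun v => ?_
    simp only [SetLike.mem_coe, hC, mem_centralizer_iff]
    constructor
    · intro h x hx
      have h1 := h _ ((mem_normalizer_iff''.1 hg x).1 hx)
      calc x * (g * v * g⁻¹) = g * ((g⁻¹ * x * g) * v) * g⁻¹ := by group
        _ = g * (v * (g⁻¹ * x * g)) * g⁻¹ := by rw [h1]
        _ = _ := by group
    · intro h x hx
      have h1 := h _ ((mem_normalizer_iff.1 hg x).1 hx)
      calc x * v = g⁻¹ * ((g * x * g⁻¹) * (g * v * g⁻¹)) * g := by group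
        _ = g⁻¹ * ((g * v * g⁻¹) * (g * x * g⁻¹)) * g := by rw [h1]
        _ = _ := by group
  -- a complement of the centre
  let Z := (SZ φ).subgroupOf C
  have hZle : SZ φ ≤ C := fun g hg => mem_centralizer_iff.2 fun x hx => by
    obtain ⟨c, rfl⟩ := D.hS.mem_SZ.1 hg
    exact (D.comm_Z c hx).eq
  haveI : Z.Normal := ⟨fun n hn g => by
    obtain ⟨c, hc⟩ := D.hS.mem_SZ.1 hn
    have hc' : φ 0 0 c = (n : G) := hc
    have : (g : G) * n * (g : G)⁻¹ = n := by
      rw [← hc', ← (mem_centralizer_iff.1 g.2 _ (D.hS.mem 0 0 c)), mul_inv_cancel_right]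
    show _ ∈ SZ φ
    have hn' : (n : G) ∈ SZ φ := hn
    show (g : G) * n * (g : G)⁻¹ ∈ SZ φ
    rwa [this]⟩
  have hodd : Odd Z.index := by
    rw [← Nat.not_even_iff_odd, even_iff_two_dvd]
    intro h2
    rw [index_eq_card] at h2
    obtain ⟨q, hq⟩ := exists_prime_orderOf_dvd_card' (G := C ⧸ Z) 2 h2
    obtain ⟨g, rfl⟩ := QuotientGroup.mk_surjective q
    have hP : IsPGroup 2 ↥((zpowers g).map C.subtype ⊔ Z.map C.subtype) := by
      rw [← Subgroup.map_sup]
      refine IsPGroup.map ?_ _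
      have hz : IsPGroup 2 ↥((zpowers g ⊔ Z).map (QuotientGroup.mk' Z)) := by
        rw [Subgroup.map_sup, QuotientGroup.map_mk'_self, sup_bot_eq, MonoidHom.map_zpowers]
        exact IsPGroup.of_card (n := 1) (by rw [Nat.card_zpowers, pow_one]; exact hq)
      have hker : IsPGroup 2 (QuotientGroup.mk' Z).ker := by
        rw [QuotientGroup.ker_mk']
        refine IsPGroup.of_card (n := 2) ?_
        rw [Nat.card_congr (subgroupOfEquivOfLe hZle).toEquiv, D.hS.card_SZ]; norm_num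
      exact (hz.comap_of_ker_isPGroup _ hker).to_le (le_comap_map _ _)
    set P₀ := (zpowers g).map C.subtype ⊔ Z.map C.subtype
    have hgC : P₀ ≤ C := sup_le (map_subtype_le _) (map_subtype_le _)
    have hPS : IsPGroup 2 ↥((S : Subgroup G) ⊔ P₀) := by
      rw [sup_comm]
      exact hP.to_sup_of_normal_right' S.2
        (hgC.trans fun x hx => D.cz_le x (hCz hx))
    have hgS : (g : G) ∈ (S : Subgroup G) := by
      have := S.3 hPS le_sup_left
      rw [← this]
      exact mem_sup_right (mem_sup_left (mem_map_of_mem _ (mem_zpowers g)))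
    have hgZ : g ∈ Z := by
      show (g : G) ∈ SZ φ
      rw [← D.facts.center]
      exact ⟨hgS, g.2⟩
    rw [(QuotientGroup.eq_one_iff g).2 hgZ, orderOf_one] at hq
    norm_num at hq
  obtain ⟨H, hH⟩ := exists_right_complement'_of_coprime (N := Z) (by
    rw [Nat.card_congr (subgroupOfEquivOfLe hZle).toEquiv, D.hS.card_SZ]
    exact Nat.Coprime.pow_left 2 (Nat.coprime_two_left.2 hodd))
  have hHodd : Odd (Nat.card H) := by
    rw [← hH.symm.index_eq_card] at *
    exact hodd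
  have hmem : ∀ g : C, Odd (orderOf g) → g ∈ H := by
    intro g hg
    obtain ⟨⟨zz, hh⟩, hzh⟩ := hH.2 g
    simp only at hzh
    have hz2 : (zz : C) * zz = 1 := by
      obtain ⟨c, hc⟩ := D.hS.mem_SZ.1 zz.2
      exact Subtype.ext (by
        rw [coe_mul, show ((zz : C) : G) = φ 0 0 c from hc.symm, D.hS.sq, mul_zero, D.hS.one]
        rfl)
    have hcomm : Commute (zz : C) hh := by
      obtain ⟨c, hc⟩ := D.hS.mem_SZ.1 zz.2
      exact Subtype.ext (by
        simp only [coe_mul, show ((zz : C) : G) = φ 0 0 c from hc.symm]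
        exact (mem_centralizer_iff.1 (hh : C).2 _ (D.hS.mem 0 0 c)))
    obtain ⟨k, hk⟩ := hg
    have h1 : (zz : C) ^ (2 * k + 1) = zz := by
      rw [pow_succ, pow_mul, pow_two, hz2, one_pow, one_mul]
    have h2 : g ^ (2 * k + 1) = 1 := hk ▸ pow_orderOf_eq_one g
    rw [← hzh, hcomm.mul_pow, h1] at h2
    have h3 : (zz : C) ∈ H := by
      rw [eq_inv_of_mul_eq_one_left h2]
      exact inv_mem (pow_mem hh.2 _)
    rw [← hzh]
    exact mul_mem h3 hh.2
  -- it lies in the core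
  set z := φ 0 0 1
  let N : Subgroup (cz z) := (H.map C.subtype).subgroupOf (cz z)
  haveI : N.Normal := ⟨fun n hn g => by
    obtain ⟨v, hv, hvn⟩ := hn
    have hgn := hCn (D.cz_le g g.2)
    refine ⟨⟨(g : G) * v * (g : G)⁻¹, (mem_normalizer_iff.1 hgn v).1 v.2⟩, hmem _ ?_, by
      show (g : G) * (v : G) * (g : G)⁻¹ = _
      rw [show (v : G) = (n : G) from hvn]; rfl⟩
    rw [← orderOf_coe]
    show Odd (orderOf ((g : G) * v * (g : G)⁻¹))
    rw [← MulAut.conj_apply, MulEquiv.orderOf_eq, orderOf_coe]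
    have hd := orderOf_dvd_natCard (⟨v, hv⟩ : H)
    rw [Subgroup.orderOf_mk] at hd
    exact hHodd.of_dvd_nat hd⟩
  have hNodd : Odd (Nat.card N) := by
    rw [Nat.card_congr (subgroupOfEquivOfLe ((map_subtype_le H).trans hCz)).toEquiv,
      card_map_of_injective C.subtype_injective]
    exact hHodd
  have hbot : N = ⊥ := by
    have h1 := Base.le_pPrimeCore (p := 2) (N := N) (Nat.coprime_two_right.2 hNodd)
    have h2 : (pPrimeCore 2 ↥(cz z)).map (cz z).subtype = ⊥ := D.cores z D.ord_z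
    rw [map_eq_bot_iff_of_injective _ (cz z).subtype_injective] at h2
    exact le_bot_iff.1 (h2 ▸ h1)
  intro g hg
  obtain ⟨⟨zz, hh⟩, hzh⟩ := hH.2 ⟨g, hg⟩
  have hh1 : ((hh : C) : G) = 1 := by
    have : (⟨((hh : C) : G), hCz (hh : C).2⟩ : cz z) ∈ N := ⟨hh, hh.2, rfl⟩
    rw [hbot] at this
    exact congrArg Subtype.val (mem_bot.1 this)
  have e : ((zz : C) : G) * ((hh : C) : G) = g := congrArg Subtype.val hzh
  rw [hh1, mul_one] at e
  exact e ▸ D.hS.SZ_le_SA.trans D.hS.SA_le zz.2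

/-- An element of the centraliser with trivial scalar lies in `S`. -/
theorem mem_S_of_lv {g : G} (hg : g ∈ cz (φ 0 0 1)) (h : Scal φ g 1 1) : g ∈ S := by
  classical
  haveI : Fact (Nat.Prime 2) := ⟨Nat.prime_two⟩
  haveI : NeZero (orderOf g) := ⟨(orderOf_pos g).ne'⟩
  -- an element of odd order with trivial scalars centralises `S`
  have key : ∀ x ∈ cz (φ 0 0 1), Scal φ x 1 1 → Odd (orderOf x) → x = 1 := by
    intro x hx hs hodd
    have hfix : ∀ v ∈ S, x * x * v * (x * x)⁻¹ = v := by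
      intro v hv
      obtain ⟨a, b, c, rfl⟩ := D.hS.surj v hv
      obtain ⟨d, hd⟩ := hs.2.2.1 a b
      simp only [cj, one_mul] at hd
      have hz : ∀ c, x * φ 0 0 c * x⁻¹ = φ 0 0 c := fun c => by simpa [cj] using hs.2.2.2 c
      have h1 : ∀ c, x * φ a b c * x⁻¹ = φ a b (d + c) := fun c => by
        rw [D.hS.split a b c, ← conj_mul, hd, hz, D.hS.mul]
        simp
      rw [show x * x * φ a b c * (x * x)⁻¹ = x * (x * φ a b c * x⁻¹) * x⁻¹ by group, h1, h1,
        ← add_assoc, f4_char, zero_add]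
    obtain ⟨k, hk⟩ := hodd
    have hx2 : x * x ∈ centralizer (S : Set G) := mem_centralizer_iff.2 fun v hv =>
      (mul_inv_eq_iff_eq_mul.1 (hfix v hv)).symm
    have hxS : x ∈ (S : Subgroup G) := by
      refine D.centralizer_S ?_
      have : x = ((x * x) ^ k)⁻¹ := by
        refine eq_inv_of_mul_eq_one_left ?_
        rw [← pow_two, ← pow_mul, ← pow_succ', ← hk, pow_orderOf_eq_one]
      rw [this]
      exact inv_mem (pow_mem hx2 k)
    obtain ⟨i, hi⟩ := IsPGroup.exists_orderOf_eq_pow S.2 (⟨x, hxS⟩ : (S : Subgroup G))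
    rw [Subgroup.orderOf_mk] at hi
    rw [← orderOf_eq_one_iff, hi]
    rcases Nat.eq_zero_or_pos i with rfl | h0
    · rfl
    · rw [hi] at hk
      exact absurd (hk ▸ dvd_pow_self 2 h0.ne') (by omega)
  -- the kernel of the scalar map is a 2-group
  set K := (D.lhom).ker
  have hK : IsPGroup 2 K := by
    intro x
    obtain ⟨k, m, hm, hord⟩ := Nat.exists_eq_pow_mul_and_not_dvd (orderOf_pos x).ne' 2 (by norm_num)
    refine ⟨k, Subtype.ext (Subtype.ext ?_)⟩
    have hx : Scal φ ((x : cz (φ 0 0 1)) : G) 1 1 := by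
      obtain ⟨m', h', hlm⟩ := D.lv_spec x.1
      have h1 : D.lv x.1 = 1 := x.2
      rw [h1, one_mul] at hlm
      rwa [h1, hlm] at h'
    refine key _ (pow_mem x.1.2 _) ?_ ?_
    · clear hord
      induction 2 ^ k with
      | zero => simpa using D.scal_one
      | succ n ih => rw [pow_succ]; simpa using D.scal_mul ih hx
    · rw [orderOf_coe, orderOf_coe,
        orderOf_pow' _ (pow_ne_zero _ (by norm_num : (2 : ℕ) ≠ 0)), hord,
        Nat.gcd_mul_right_left, Nat.mul_div_cancel_left _ (pow_pos (by norm_num) k)]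
      exact Nat.odd_iff.2 (by omega)
  have hSK : (S : Subgroup G) ≤ K.map (cz (φ 0 0 1)).subtype := fun v hv =>
    ⟨⟨v, D.S_le hv⟩, D.lv_eq (D.scal_mem_S hv), rfl⟩
  show g ∈ (S : Subgroup G)
  rw [← S.3 (hK.map _) hSK]
  exact ⟨⟨g, hg⟩, D.lv_eq (g := ⟨g, hg⟩) h, rfl⟩

theorem card_cz_cases : Nat.card (cz (φ 0 0 1)) = 64 ∨ Nat.card (cz (φ 0 0 1)) = 192 := by
  classical
  let f : cz (φ 0 0 1) →* F4ˣ := D.lhom.toHomUnits
  have hker : f.ker = (S : Subgroup G).subgroupOf (cz (φ 0 0 1)) := by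
    ext g
    rw [MonoidHom.mem_ker, mem_subgroupOf, Units.ext_iff]
    show D.lv g = 1 ↔ _
    refine ⟨fun h => ?_, fun h => D.lv_eq (D.scal_mem_S h)⟩
    obtain ⟨m, hm, hlm⟩ := D.lv_spec g
    rw [h, one_mul] at hlm
    rw [h, hlm] at hm
    exact D.mem_S_of_lv g.2 hm
  have h1 := f.ker.card_mul_index
  rw [index_ker, hker, Nat.card_congr (subgroupOfEquivOfLe D.S_le).toEquiv, D.hS.card_S] at h1
  have h3 : Nat.card f.range ∣ 3 := by
    refine (card_subgroup_dvd_card _).trans ?_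
    rw [Nat.card_units, Nat.card_eq_fintype_card]
    decide
  rcases (Nat.dvd_prime Nat.prime_three).1 h3 with h | h <;> rw [h] at h1 <;> omega

/-- The centraliser of every involution is conjugate to that of `z`. -/
theorem card_cz_eq {u : G} (hu : orderOf u = 2) : Nat.card (cz u) = Nat.card (cz (φ 0 0 1)) := by
  obtain ⟨g, rfl⟩ := isConj_iff.1 (D.one_class hu)
  refine (Nat.card_congr (Equiv.subtypeEquiv (MulAut.conj g).toEquiv fun v => ?_)).symm
  simp only [mem_centralizer_singleton_iff, MulEquiv.toEquiv_eq_coe, MulEquiv.coe_toEquiv]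
  rw [← MulAut.conj_apply, ← map_mul, ← map_mul, (MulAut.conj g).injective.eq_iff]

end LL

end CfsgLib.L34Sylow.EndLL
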