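import Cfsg.Agent.Lib.L34Sylow.EndLLBasic

/-!
# No side small: elements of order three commuting with involutions when `|C(z)| = 192`
-/

set_option autoImplicit false
set_option linter.style.haveILetI false
set_option linter.unusedSectionVars false

namespace CfsgLib.L34Sylow.EndLL

open Cfsg Subgroup

universe u

theorem f4_line : ∀ l a : F4, l ≠ 1 → l * a = a → a = 0 := by decide

theorem f4_pow_cases : ∀ l x : F4, l ≠ 0 → l ≠ 1 → x ≠ 0 → x = 1 ∨ x = l ∨ x = l * l := by decide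

variable {G : Type u} [Group G] {S : Sylow 2 G} {φ : F4 → F4 → F4 → G}

/-- An element is inverted by a conjugation. -/
def Real' (x : G) : Prop := ∃ n : G, n * x * n⁻¹ = x⁻¹

theorem Real'.conj {x : G} (h : Real' x) (g : G) : Real' (g * x * g⁻¹) := by
  obtain ⟨n, hn⟩ := h
  refine ⟨g * n * g⁻¹, ?_⟩
  calc g * n * g⁻¹ * (g * x * g⁻¹) * (g * n * g⁻¹)⁻¹ = g * (n * x * n⁻¹) * g⁻¹ := by group
    _ = _ := by rw [hn]; group

theorem Real'.inv {x : G} (h : Real' x) : Real' x⁻¹ := by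
  obtain ⟨n, hn⟩ := h
  exact ⟨n, by rw [← conj_inv, hn]⟩

/-- The element `h` of order three in the centraliser of `z`. -/
structure HElt (φ : F4 → F4 → F4 → G) (h : G) (l m : F4) : Prop where
  mem : h ∈ cz (φ 0 0 1)
  cube : h ^ 3 = 1
  scal : Scal φ h l m
  ne : l ≠ 1
  lm : l * m = 1

namespace LL

variable (D : LL S φ) [Finite G]
include D

theorem exists_helt (h192 : Nat.card (cz (φ 0 0 1)) = 192) :
    ∃ h l m, HElt φ h l m := by
  classical
  obtain ⟨g, hg⟩ : ∃ g : cz (φ 0 0 1), (g : G) ∉ (S : Subgroup G) := by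
    by_contra hc
    push Not at hc
    have := card_le_of_le (show cz (φ 0 0 1) ≤ (S : Subgroup G) from fun v hv => hc ⟨v, hv⟩)
    rw [h192, D.hS.card_S] at this
    norm_num at this
  have hg1 : D.lv g ≠ 1 := by
    intro h
    obtain ⟨m, hm, hlm⟩ := D.lv_spec g
    rw [h, one_mul] at hlm
    rw [h, hlm] at hm
    exact hg (D.mem_S_of_lv g.2 hm)
  obtain ⟨m, hm, hlm⟩ := D.lv_spec (g ^ 64)
  refine ⟨((g ^ 64 : cz (φ 0 0 1)) : G), D.lv (g ^ 64), m, (g ^ 64).2, ?_, hm, ?_, hlm⟩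
  · rw [← SubmonoidClass.coe_pow, ← pow_mul, show 64 * 3 = 192 by norm_num, ← h192,
      pow_card_eq_one']
    rfl
  · have e : D.lv (g ^ 64) = D.lv g ^ 64 := map_pow D.lhom g 64
    rw [e, show (64 : ℕ) = 3 * 21 + 1 by norm_num, pow_succ, pow_mul]
    obtain ⟨m', hm', -⟩ := D.lv_spec g
    rw [show D.lv g ^ 3 = 1 by rw [pow_succ, pow_two, f4_cube _ hm'.1], one_pow, one_mul]
    exact hg1

variable {h : G} {l m : F4} (E : HElt φ h l m)
include E

theorem ord_h : orderOf h = 3 := by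
  haveI : Fact (Nat.Prime 3) := ⟨Nat.prime_three⟩
  refine orderOf_eq_prime E.cube fun h1 => E.ne ?_
  have := (D.scal_uniq (h1 ▸ E.scal) D.scal_one).1
  exact this

theorem normal_form {g : G} (hg : g ∈ cz (φ 0 0 1)) :
    ∃ v ∈ S, ∃ i : ℕ, g = v * h ^ i := by
  have key : ∀ i : ℕ, D.lv ⟨g, hg⟩ = l ^ i → ∃ v ∈ S, ∃ i : ℕ, g = v * h ^ i := by
    intro i hi
    refine ⟨g * (h ^ i)⁻¹, ?_, i, by group⟩
    set x : cz (φ 0 0 1) := ⟨g, hg⟩ * (⟨h, E.mem⟩ ^ i)⁻¹ with hx
    have hlv : D.lv x = 1 := by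
      have e : D.lhom ((⟨h, E.mem⟩ : cz (φ 0 0 1)) ^ i) = l ^ i := by
        rw [map_pow]
        exact congrArg (· ^ i) (D.lv_eq (g := ⟨h, E.mem⟩) E.scal)
      have e2 := congrArg D.lhom (show x * ⟨h, E.mem⟩ ^ i = ⟨g, hg⟩ by simp [x])
      rw [map_mul, e] at e2
      change D.lv x * l ^ i = D.lv ⟨g, hg⟩ at e2
      rw [hi] at e2
      exact (mul_eq_right₀ (pow_ne_zero i E.scal.1)).1 e2
    obtain ⟨m', hm', hlm⟩ := D.lv_spec x
    rw [hlv, one_mul] at hlm
    rw [hlv, hlm] at hm'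
    exact D.mem_S_of_lv x.2 hm'
  obtain ⟨m', hm', -⟩ := D.lv_spec ⟨g, hg⟩
  rcases f4_pow_cases l _ E.scal.1 E.ne hm'.1 with e | e | e
  · exact key 0 (by simpa using e)
  · exact key 1 (by simpa using e)
  · exact key 2 (by simpa [pow_two] using e)

theorem cent_S {v : G} (hv : v ∈ S) (hc : Commute v h) : v ∈ SZ φ := by
  obtain ⟨a, b, c, rfl⟩ := D.hS.surj v hv
  obtain ⟨d, hd⟩ := E.scal.2.2.1 a b
  have hz := E.scal.2.2.2 c
  simp only [cj] at hd hz
  have e : h * φ a b c * h⁻¹ = φ a b c := by rw [← hc.eq, mul_inv_cancel_right]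
  rw [D.hS.split a b c, ← conj_mul, hd, hz, D.hS.mul, ← D.hS.split] at e
  obtain ⟨ha, hb, -⟩ := D.hS.inj _ _ _ _ _ _ e
  rw [add_zero] at ha hb
  have hm1 : m ≠ 1 := fun e' => E.ne (by simpa [e'] using E.lm)
  rw [f4_line l a E.ne ha, f4_line m b hm1 hb]
  exact D.hS.mem_SZ.2 ⟨c, rfl⟩

theorem comm_hZ (c : F4) : Commute h (φ 0 0 c) := by
  have := E.scal.2.2.2 c
  rw [E.lm, one_mul] at this
  exact mul_inv_eq_iff_eq_mul.1 this

theorem inf_form {g : G} (h1 : g ∈ cz (φ 0 0 1)) (h2 : Commute g h) :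
    ∃ c, ∃ i : ℕ, g = φ 0 0 c * h ^ i := by
  obtain ⟨v, hv, i, rfl⟩ := D.normal_form E h1
  have hc : Commute v h := by
    have h3 := h2.mul_left ((Commute.refl h).pow_left i).inv_left
    rwa [mul_inv_cancel_right] at h3
  obtain ⟨c, rfl⟩ := D.hS.mem_SZ.1 (D.cent_S E hv hc)
  exact ⟨c, i, rfl⟩

theorem card_inf : Nat.card ↥(cz (φ 0 0 1) ⊓ cz h) = 12 := by
  classical
  let f : F4 × Fin 3 → ↥(cz (φ 0 0 1) ⊓ cz h) := fun p =>
    ⟨φ 0 0 p.1 * h ^ (p.2 : ℕ), mul_mem (D.S_le (D.hS.mem ..)) (pow_mem E.mem _),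
      mem_centralizer_singleton_iff.2
        ((D.comm_hZ E p.1).symm.mul_left ((Commute.refl h).pow_left _))⟩
  have hb : Function.Bijective f := by
    constructor
    · rintro ⟨c, i⟩ ⟨c', i'⟩ e
      have e' : φ 0 0 c * h ^ (i : ℕ) = φ 0 0 c' * h ^ (i' : ℕ) := congrArg Subtype.val e
      have e2 : φ 0 0 (c' + c) = h ^ (i' : ℕ) * (h ^ (i : ℕ))⁻¹ := by
        rw [show φ 0 0 (c' + c) = (φ 0 0 c')⁻¹ * φ 0 0 c by rw [D.hS.inv, D.hS.mul]; simp,
          eq_mul_inv_iff_mul_eq, mul_assoc, e', inv_mul_cancel_left]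
      have e3 : (φ 0 0 (c' + c)) = 1 := by
        apply orderOf_eq_one_iff.1
        refine Nat.eq_one_of_dvd_coprimes (show Nat.Coprime 2 3 by norm_num)
          (orderOf_dvd_of_pow_eq_one (by rw [pow_two, D.hS.sq, mul_zero, D.hS.one]))
          (orderOf_dvd_of_pow_eq_one ?_)
        rw [e2, ((Commute.refl h).pow_pow _ _).inv_right.mul_pow, inv_pow, ← pow_mul, ← pow_mul,
          mul_comm (i : ℕ), mul_comm (i' : ℕ), pow_mul, pow_mul, E.cube]
        simp
      have hcc : c = c' := by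
        have := (D.hS.eq_one_iff.1 e3).2.2
        rw [← add_zero c, ← this, ← add_assoc, add_comm c c', add_assoc, f4_char, add_zero]
      subst hcc
      rw [mul_right_inj] at e'
      have := (pow_inj_mod.1 e')
      rw [D.ord_h E, Nat.mod_eq_of_lt i.2, Nat.mod_eq_of_lt i'.2] at this
      exact Prod.ext rfl (Fin.ext this)
    · rintro ⟨g, hg1, hg2⟩
      obtain ⟨c, i, rfl⟩ := D.inf_form E hg1 (mem_centralizer_singleton_iff.1 hg2)
      refine ⟨(c, ⟨i % 3, Nat.mod_lt _ (by norm_num)⟩), Subtype.ext ?_⟩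
      show φ 0 0 c * h ^ (i % 3) = _
      rw [← pow_eq_pow_mod i E.cube]
  rw [← Nat.card_eq_of_bijective f hb, Nat.card_prod, Nat.card_eq_fintype_card,
    Nat.card_eq_fintype_card]
  decide

/-- An element of order three commuting with an involution. -/
theorem exists_conj_h (h192 : Nat.card (cz (φ 0 0 1)) = 192) {u x : G} (hu : orderOf u = 2)
    (hx : orderOf x = 3) (hc : Commute x u) :
    ∃ g : G, g * u * g⁻¹ = φ 0 0 1 ∧ (g * x * g⁻¹ = h ∨ g * x * g⁻¹ = h⁻¹) := by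
  classical
  haveI : Fact (Nat.Prime 3) := ⟨Nat.prime_three⟩
  obtain ⟨g, hg⟩ := isConj_iff.1 (D.one_class hu).symm
  have hxm : g * x * g⁻¹ ∈ cz (φ 0 0 1) :=
    mem_centralizer_singleton_iff.2 (hg ▸ (Commute.conj_iff g).2 hc)
  have hs : ∀ y : cz (φ 0 0 1), orderOf y = 3 →
      ∃ P : Sylow 3 (cz (φ 0 0 1)), (P : Subgroup _) = zpowers y := by
    intro y hy
    obtain ⟨P, hP⟩ := (IsPGroup.of_card (n := 1)
      (by rw [Nat.card_zpowers, hy, pow_one]) : IsPGroup 3 (zpowers y)).exists_le_sylow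
    refine ⟨P, (eq_of_le_of_card_ge hP ?_).symm⟩
    rw [P.card_eq_multiplicity, h192, Nat.card_zpowers, hy,
      show (192 : ℕ) = 2 ^ 6 * 3 by norm_num, Nat.factorization_mul (by norm_num) (by norm_num),
      Finsupp.add_apply, Nat.Prime.factorization_self Nat.prime_three,
      Nat.factorization_eq_zero_of_not_dvd (by norm_num : ¬ 3 ∣ 2 ^ 6)]
    norm_num
  have hxo : orderOf (⟨g * x * g⁻¹, hxm⟩ : cz (φ 0 0 1)) = 3 := by
    rw [Subgroup.orderOf_mk, ← MulAut.conj_apply, MulEquiv.orderOf_eq, hx]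
  obtain ⟨P, hP⟩ := hs ⟨h, E.mem⟩ (by rw [Subgroup.orderOf_mk]; exact D.ord_h E)
  obtain ⟨Q, hQ⟩ := hs _ hxo
  obtain ⟨c, hcc⟩ := MulAction.exists_smul_eq (cz (φ 0 0 1)) Q P
  have hm : MulAut.conj c ⟨g * x * g⁻¹, hxm⟩ ∈ ((c • Q : Sylow 3 _) : Subgroup (cz (φ 0 0 1))) :=
    ⟨_, by rw [hQ]; exact mem_zpowers _, rfl⟩
  rw [hcc, hP, mem_zpowers_iff_mem_range_orderOf, Subgroup.orderOf_mk, D.ord_h E,
    Finset.mem_image] at hm
  obtain ⟨i, hi, hie⟩ := hm
  rw [Finset.mem_range] at hi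
  refine ⟨(c : G) * g, ?_, ?_⟩
  · rw [show (c : G) * g * u * ((c : G) * g)⁻¹ = c * (g * u * g⁻¹) * (c : G)⁻¹ by group, hg,
      mem_centralizer_singleton_iff.1 c.2, mul_inv_cancel_right]
  · have e : (c : G) * g * x * ((c : G) * g)⁻¹ = h ^ i := by
      rw [show (c : G) * g * x * ((c : G) * g)⁻¹ = c * (g * x * g⁻¹) * (c : G)⁻¹ by group]
      exact (congrArg Subtype.val hie).symm
    interval_cases i
    · exfalso
      rw [pow_zero, conj_eq_one_iff] at e
      rw [e, orderOf_one] at hx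
      norm_num at hx
    · exact Or.inl (e.trans (pow_one h))
    · refine Or.inr (e.trans (eq_inv_of_mul_eq_one_left ?_))
      rw [← pow_succ]; exact E.cube

/-- The centralisers of an involution and of such an element meet in an abelian group of order 12
whose squares are powers of the element. -/
theorem inf_cz (h192 : Nat.card (cz (φ 0 0 1)) = 192) {u x : G} (hu : orderOf u = 2)
    (hx : orderOf x = 3) (hc : Commute x u) :
    Nat.card ↥(cz u ⊓ cz x) = 12 ∧ (∀ p ∈ cz u ⊓ cz x, ∀ q ∈ cz u ⊓ cz x, Commute p q) ∧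
      ∀ p ∈ cz u ⊓ cz x, p * p ∈ zpowers x := by
  obtain ⟨g, hgu, hgx⟩ := D.exists_conj_h E h192 hu hx hc
  have hzh : zpowers (g * x * g⁻¹) = zpowers h := by
    rcases hgx with e | e <;> rw [e]
    exact zpowers_inv
  have hiff : ∀ p, p ∈ cz u ⊓ cz x ↔ g * p * g⁻¹ ∈ cz (φ 0 0 1) ⊓ cz h := by
    intro p
    rw [mem_inf, mem_inf, mem_centralizer_singleton_iff, mem_centralizer_singleton_iff,
      mem_centralizer_singleton_iff, mem_centralizer_singleton_iff, ← hgu]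
    refine and_congr (Commute.conj_iff g).symm ?_
    rcases hgx with e | e
    · rw [← e]; exact (Commute.conj_iff g).symm
    · rw [inv_eq_iff_eq_inv.1 e.symm]
      exact ((Commute.inv_right_iff).trans (Commute.conj_iff g)).symm
  refine ⟨?_, ?_, ?_⟩
  · rw [← D.card_inf E]
    exact Nat.card_congr ((MulAut.conj g).toEquiv.subtypeEquiv hiff)
  · intro p hp q hq
    obtain ⟨c, i, e1⟩ := D.inf_form E ((hiff p).1 hp).1 (mem_centralizer_singleton_iff.1 ((hiff p).1 hp).2)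
    obtain ⟨c', i', e2⟩ := D.inf_form E ((hiff q).1 hq).1 (mem_centralizer_singleton_iff.1 ((hiff q).1 hq).2)
    refine (Commute.conj_iff g).1 ?_
    rw [e1, e2]
    exact ((D.comm_Z c' (D.hS.mem 0 0 c)).mul_right ((D.comm_hZ E c).symm.pow_right i')).mul_left
      (((D.comm_hZ E c').pow_left i).mul_right ((Commute.refl h).pow_pow i i'))
  · intro p hp
    obtain ⟨c, i, e1⟩ := D.inf_form E ((hiff p).1 hp).1 (mem_centralizer_singleton_iff.1 ((hiff p).1 hp).2)
    have e2 : g * (p * p) * g⁻¹ ∈ zpowers (g * x * g⁻¹) := by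
      rw [← conj_mul, e1, hzh]
      rw [show φ 0 0 c * h ^ i * (φ 0 0 c * h ^ i) = φ 0 0 c * φ 0 0 c * (h ^ i * h ^ i) by
        rw [mul_assoc, ← mul_assoc (h ^ i), ((D.comm_hZ E c).pow_left i).eq]; group,
        D.hS.sq, mul_zero, D.hS.one, one_mul, ← pow_add]
      exact pow_mem (mem_zpowers h) _
    obtain ⟨j, hj⟩ := mem_zpowers_iff.1 e2
    exact mem_zpowers_iff.2 ⟨j, (MulAut.conj g).injective (by
      rw [map_zpow]; exact hj)⟩

/-- All these elements have centralisers of the same order. -/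
theorem card_cz_three (h192 : Nat.card (cz (φ 0 0 1)) = 192) {u x : G} (hu : orderOf u = 2)
    (hx : orderOf x = 3) (hc : Commute x u) : Nat.card (cz x) = Nat.card (cz h) := by
  obtain ⟨g, -, hgx⟩ := D.exists_conj_h E h192 hu hx hc
  refine Nat.card_congr ((MulAut.conj g).toEquiv.subtypeEquiv fun p => ?_)
  simp only [mem_centralizer_singleton_iff]
  show _ ↔ Commute (g * p * g⁻¹) h
  rcases hgx with e | e
  · rw [← e]; exact (Commute.conj_iff g).symm
  · rw [inv_eq_iff_eq_inv.1 e.symm]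
    exact ((Commute.inv_right_iff).trans (Commute.conj_iff g)).symm

/-- Such an element is real exactly when `h` is. -/
theorem real_iff (h192 : Nat.card (cz (φ 0 0 1)) = 192) {u x : G} (hu : orderOf u = 2)
    (hx : orderOf x = 3) (hc : Commute x u) : Real' x ↔ Real' h := by
  obtain ⟨g, -, hgx⟩ := D.exists_conj_h E h192 hu hx hc
  constructor
  · intro hr
    rcases hgx with e | e
    · exact e ▸ hr.conj g
    · exact inv_inv h ▸ (e ▸ hr.conj g).inv
  · intro hr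
    have : Real' (g * x * g⁻¹) := by
      rcases hgx with e | e <;> rw [e]
      exacts [hr, hr.inv]
    simpa [mul_assoc] using this.conj g⁻¹

/-- `h` is not inverted inside the centraliser of `z`. -/
theorem not_inverted {n : G} (hn : n ∈ cz (φ 0 0 1)) : n * h * n⁻¹ ≠ h⁻¹ := by
  intro e
  apply E.ne
  apply f4_sq_eq_one
  set hh : cz (φ 0 0 1) := ⟨h, E.mem⟩
  have e' : ⟨n, hn⟩ * hh * ⟨n, hn⟩⁻¹ * hh = 1 := Subtype.ext (by
    show n * h * n⁻¹ * h = 1
    rw [e, inv_mul_cancel])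
  have e2 := congrArg D.lhom e'
  rw [map_mul, map_one, map_mul, map_mul, mul_comm (D.lhom ⟨n, hn⟩), mul_assoc (D.lhom hh),
    ← map_mul, mul_inv_cancel, map_one, mul_one] at e2
  rw [← D.lv_eq (g := hh) E.scal]
  exact e2

end LL

end CfsgLib.L34Sylow.EndLL
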