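import Cfsg.Agent.S0116
import Cfsg.Agent.Lib.PLocal.MaximalClass
import Cfsg.Agent.Lib.Transfer.TransferFixed

/-!
# A transfer to a group of order nine

An element `s` of order three with centraliser of order `180` meeting a Sylow three-subgroup `P` in
`⟨s, e⟩`, where `e` has odd centraliser, is fused in `P` only into its own coset of `P'`; so it
survives in the transfer to `P / P'`.
-/

set_option autoImplicit false
set_option linter.style.haveILetI false

namespace CfsgLib.L34Sylow.EndLL

open Subgroup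
open scoped commutatorElement

universe u

/-- An automorphism of odd order of a group of order dividing nine has order dividing three. -/
theorem aut_cube {V : Type u} [Group V] [Finite V] (hV : Nat.card V ∣ 9) (α : MulAut V) {m : ℕ}
    (hm : Odd m) (hα : α ^ m = 1) : α ^ 3 = 1 := by
  classical
  haveI := Fintype.ofFinite V
  refine MulEquiv.ext fun v => ?_
  show (α ^ 3 : MulAut V) v = v
  by_cases hv : v = 1
  · simp [hv]
  -- the period of `v`
  set k := Function.minimalPeriod (fun w => α w) v with hk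
  have hpow : ∀ n : ℕ, (fun w => α w)^[n] v = (α ^ n : MulAut V) v := by
    intro n
    induction n with
    | zero => rfl
    | succ n ih => rw [Function.iterate_succ_apply', ih, pow_succ']; rfl
  have hper : Function.IsPeriodicPt (fun w => α w) m v := by
    show (fun w => α w)^[m] v = v
    rw [hpow, hα]; rfl
  have hkm : k ∣ m := hper.minimalPeriod_dvd
  have hkodd : Odd k := hm.of_dvd_nat hkm
  have hk0 : 0 < k := hkodd.pos
  -- the orbit and its inverse
  let O : Finset V := (Finset.range k).image fun n => (α ^ n : MulAut V) v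
  have hOcard : O.card = k := by
    rw [Finset.card_image_of_injOn, Finset.card_range]
    intro a ha b hb h
    exact Function.iterate_injOn_Iio_minimalPeriod (f := fun w => α w) (x := v)
      (Finset.mem_range.1 ha) (Finset.mem_range.1 hb) (by simpa only [hpow] using h)
  have hv2 : v⁻¹ ≠ v := by
    intro e
    apply hv
    have h2 : v ^ 2 = 1 := by rw [sq]; nth_rewrite 1 [← e]; exact inv_mul_cancel v
    have h9 : v ^ 9 = 1 := orderOf_dvd_iff_pow_eq_one.1 ((orderOf_dvd_natCard v).trans hV)
    rw [show (9 : ℕ) = 2 * 4 + 1 by norm_num, pow_succ, pow_mul, h2, one_pow, one_mul] at h9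
    exact h9
  have hdis : Disjoint O (O.image fun w => w⁻¹) := by
    rw [Finset.disjoint_left]
    intro w hw hw'
    obtain ⟨a, ha, rfl⟩ := Finset.mem_image.1 hw
    obtain ⟨x, hx, hxe⟩ := Finset.mem_image.1 hw'
    obtain ⟨b, hb, rfl⟩ := Finset.mem_image.1 hx
    -- a power of the automorphism inverts `v`
    obtain ⟨d, hd⟩ : ∃ d : ℕ, (α ^ d : MulAut V) v = v⁻¹ := by
      refine ⟨(m - 1) * a + b, ?_⟩
      have e1 : (α ^ ((m - 1) * a)) * α ^ a = 1 := by
        rw [← pow_add, show (m - 1) * a + a = m * a by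
          conv_rhs => rw [show m = (m - 1) + 1 by have := hm.pos; omega, add_mul, one_mul],
          pow_mul, hα, one_pow]
      have e2 := congrArg (fun w => (α ^ ((m - 1) * a) : MulAut V) w) hxe
      simp only [map_inv] at e2
      rw [← MulAut.mul_apply, ← MulAut.mul_apply, e1, ← pow_add] at e2
      rw [← inv_inv ((α ^ ((m - 1) * a + b) : MulAut V) v), e2]; rfl
    have h2 : Function.IsPeriodicPt (fun w => α w) (2 * d) v := by
      show (fun w => α w)^[2 * d] v = v
      rw [hpow, two_mul, pow_add, MulAut.mul_apply, hd, map_inv, hd, inv_inv]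
    have h3 : k ∣ d :=
      (Nat.Coprime.dvd_mul_left hkodd.coprime_two_right).1 h2.minimalPeriod_dvd
    have h4 : (fun w => α w)^[d] v = v := Function.isPeriodicPt_iff_minimalPeriod_dvd.2 h3
    rw [hpow, hd] at h4
    exact hv2 h4
  have hnot : (1 : V) ∉ O ∪ O.image fun w => w⁻¹ := by
    intro h
    rcases Finset.mem_union.1 h with h' | h'
    · obtain ⟨a, -, e⟩ := Finset.mem_image.1 h'
      exact hv (by simpa using e)
    · obtain ⟨x, hx, e⟩ := Finset.mem_image.1 h'
      obtain ⟨a, -, rfl⟩ := Finset.mem_image.1 hx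
      exact hv (by simpa using e)
  have hle : 2 * k + 1 ≤ Nat.card V := by
    have h1 := Finset.card_insert_of_notMem hnot
    rw [Finset.card_union_of_disjoint hdis, Finset.card_image_of_injective _ inv_injective,
      hOcard] at h1
    have h2 := Finset.card_le_univ (insert 1 (O ∪ O.image fun w => w⁻¹))
    rw [Nat.card_eq_fintype_card]
    omega
  have h9 : Nat.card V ≤ 9 := Nat.le_of_dvd (by norm_num) hV
  have hk3 : k ∣ 3 := by
    obtain ⟨i, hi⟩ := hkodd
    have : k = 1 ∨ k = 3 := by omega
    rcases this with e | e <;> rw [e]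
    exact one_dvd _
  have := Function.isPeriodicPt_iff_minimalPeriod_dvd.2 hk3
  rw [← hpow]
  exact this

variable {G : Type u} [Group G]

/-- The commutator coset of an element with small centraliser in a finite group. -/
theorem index_commutator_le [Finite G] (Q : Subgroup G) (x : Q)
    (h : Nat.card (centralizer ({x} : Set Q)) ≤ 9) : (commutator Q).index ≤ 9 := by
  classical
  have h1 : (centralizer ({x} : Set Q)).index ≤ Nat.card (commutator Q) := by
    let f : Q ⧸ centralizer ({x} : Set Q) → commutator Q := fun q =>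
      ⟨⁅q.out, x⁆, commutator_mem_commutator (mem_top _) (mem_top _)⟩
    rw [index_eq_card]
    refine Nat.card_le_card_of_injective f fun p q e => ?_
    have e' : ⁅p.out, x⁆ = ⁅q.out, x⁆ := congrArg Subtype.val e
    rw [commutatorElement_def, commutatorElement_def] at e'
    have e2 : p.out * x * p.out⁻¹ = q.out * x * q.out⁻¹ := mul_right_cancel e'
    rw [← QuotientGroup.out_eq' p, ← QuotientGroup.out_eq' q, QuotientGroup.eq,
      mem_centralizer_singleton_iff]
    calc p.out⁻¹ * q.out * x = p.out⁻¹ * (q.out * x * q.out⁻¹) * q.out := by group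
      _ = _ := by rw [← e2]; group
  have h2 := (commutator Q).card_mul_index
  rw [← (centralizer ({x} : Set Q)).card_mul_index] at h2
  have h4 : Nat.card (commutator Q) * (commutator Q).index ≤ Nat.card (commutator Q) * 9 := by
    rw [h2, mul_comm (Nat.card (commutator Q)) 9]
    exact Nat.mul_le_mul h h1
  exact Nat.le_of_mul_le_mul_left h4 Nat.card_pos

/-- Conjugation by an element of a group of odd order normalising a 3-subgroup with small
commutator factor moves elements only inside the classes of the normaliser in the Sylow subgroup. -/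
theorem conj_step [Finite G] {K : Type u} [Group K] [Finite K] (hK : Odd (Nat.card K))
    (P : Sylow 3 K) (Q : Subgroup K) (hQP : Q ≤ P) (hQ : Nat.card (Q ⧸ commutator Q) ∣ 9)
    (hsyl : ¬ 3 ∣ ((P : Subgroup K) ⊓ normalizer (Q : Set K)).relIndex (normalizer (Q : Set K)))
    {n x : K} (hn : n ∈ normalizer (Q : Set K)) (hx : x ∈ Q) :
    ∀ hy : n⁻¹ * x * n ∈ (P : Subgroup K), ∀ hx' : x ∈ (P : Subgroup K),
      (QuotientGroup.mk (⟨n⁻¹ * x * n, hy⟩ : (P : Subgroup K)) :
        (P : Subgroup K) ⧸ commutator (P : Subgroup K)) = QuotientGroup.mk ⟨x, hx'⟩ := by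
  classical
  intro hy hx'
  haveI : Fact (Nat.Prime 3) := ⟨Nat.prime_three⟩
  let N := normalizer (Q : Set K)
  let α : N →* MulAut (Q ⧸ commutator Q) :=
    { toFun := fun g => QuotientGroup.congr _ _
        (Q.normalizerMonoidHom g)
        (characteristic_iff_map_eq.1 inferInstance _)
      map_one' := MulEquiv.ext fun v => by
        induction v using QuotientGroup.induction_on with
        | H v => simp
      map_mul' := fun g g' => MulEquiv.ext fun v => by
        induction v using QuotientGroup.induction_on with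
        | H v =>
          simp only [map_mul]
          rfl }
  have hI : IsPGroup 3 α.range := by
    rintro ⟨β, g, rfl⟩
    refine ⟨1, Subtype.ext ?_⟩
    show (α g) ^ (3 ^ 1) = 1
    refine aut_cube hQ (α g) (m := orderOf g) ?_ ?_
    · exact hK.of_dvd_nat ((orderOf_dvd_natCard g).trans (card_subgroup_dvd_card N))
    · rw [← map_pow, pow_orderOf_eq_one, map_one]
  -- the Sylow subgroup of the normaliser induces all of it
  let R := ((P : Subgroup K) ⊓ N).subgroupOf N
  have hmap : R.map α.rangeRestrict = ⊤ := by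
    rw [← index_eq_one]
    obtain ⟨i, hi⟩ := IsPGroup.iff_card.1 hI
    refine Nat.eq_one_of_dvd_coprimes (Nat.Coprime.pow_left i ?_) (hi ▸ index_dvd_card _)
      (index_map_dvd (H := R) α.rangeRestrict_surjective)
    exact Nat.prime_three.coprime_iff_not_dvd.2 (by
      rwa [← relIndex_top_right, ← subgroupOf_self, relIndex_subgroupOf le_rfl])
  obtain ⟨r, hr, hre'⟩ : α.rangeRestrict ⟨n⁻¹, inv_mem hn⟩ ∈ R.map α.rangeRestrict := by
    rw [hmap]; trivial
  have hre : α r = α ⟨n⁻¹, inv_mem hn⟩ := congrArg Subtype.val hre'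
  obtain ⟨hrP, hrN⟩ : (r : K) ∈ (P : Subgroup K) ∧ (r : K) ∈ N := hr
  have h4 : (QuotientGroup.mk (Q.normalizerMonoidHom r ⟨x, hx⟩) : Q ⧸ commutator Q) =
      QuotientGroup.mk (Q.normalizerMonoidHom ⟨n⁻¹, inv_mem hn⟩ ⟨x, hx⟩) :=
    congrArg (fun β : MulAut (Q ⧸ commutator Q) => β (QuotientGroup.mk ⟨x, hx⟩)) hre
  rw [QuotientGroup.eq] at h4
  have h5 := Subgroup.mem_map_of_mem (Subgroup.inclusion hQP) h4
  have h6 : (commutator Q).map (Subgroup.inclusion hQP) ≤ commutator (P : Subgroup K) := by
    rw [_root_.commutator_def, _root_.commutator_def, map_commutator]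
    exact commutator_mono le_top le_top
  have h7 := h6 h5
  have e1 : (Subgroup.inclusion hQP) ((Q.normalizerMonoidHom r ⟨x, hx⟩)⁻¹ *
      Q.normalizerMonoidHom ⟨n⁻¹, inv_mem hn⟩ ⟨x, hx⟩) =
      (⟨(r : K), hrP⟩ * ⟨x, hx'⟩ * ⟨(r : K), hrP⟩⁻¹ : (P : Subgroup K))⁻¹ *
        ⟨n⁻¹ * x * n, hy⟩ := by
    apply Subtype.ext
    simp
  rw [e1, ← QuotientGroup.eq] at h7
  rw [← h7, QuotientGroup.mk_mul, QuotientGroup.mk_mul, QuotientGroup.mk_inv]
  have hc : ∀ a b : (P : Subgroup K) ⧸ commutator (P : Subgroup K), a * b = b * a := by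
    intro a b
    induction a using QuotientGroup.induction_on with
    | H a => induction b using QuotientGroup.induction_on with
      | H b =>
        rw [← QuotientGroup.mk_mul, ← QuotientGroup.mk_mul, QuotientGroup.eq, mul_inv_rev,
          show b⁻¹ * a⁻¹ * (b * a) = ⁅b⁻¹, a⁻¹⁆ by simp [commutatorElement_def, mul_assoc]]
        exact commutator_mem_commutator (mem_top _) (mem_top _)
  rw [hc ((⟨(r : K), hrP⟩ : (P : Subgroup K)) : (P : Subgroup K) ⧸ commutator (P : Subgroup K)),
    mul_inv_cancel_right]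

/-- What is used about `s`, `e` and `j`. -/
structure ThreeHyp (s e j : G) : Prop where
  ord_s : orderOf s = 3
  ord_e : orderOf e = 3
  comm : Commute s e
  card_s : Nat.card (centralizer ({s} : Set G)) = 180
  card_se : Nat.card ↥(centralizer ({s} : Set G) ⊓ centralizer ({e} : Set G)) = 9
  odd_e : Odd (Nat.card (centralizer ({e} : Set G)))
  rest : ∀ v ∈ centralizer ({s} : Set G) ⊓ centralizer ({e} : Set G),
    v = 1 ∨ v = e ∨ v = e⁻¹ ∨ Nat.card (centralizer ({v} : Set G)) = 180
  js : Commute j s
  je : j * e * j⁻¹ = e⁻¹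

variable [Finite G]

/-- The centraliser of a conjugate of `s` in a 3-subgroup has order at most nine. -/
theorem card_le_nine {v : G} (hv : Nat.card (centralizer ({v} : Set G)) = 180) {Q : Subgroup G}
    (hQ : IsPGroup 3 Q) (h : ∀ q ∈ Q, Commute q v) : Nat.card Q ∣ 9 := by
  haveI : Fact (Nat.Prime 3) := ⟨Nat.prime_three⟩
  obtain ⟨i, hi⟩ := IsPGroup.iff_card.1 hQ
  have hd : Nat.card Q ∣ 9 * 20 := by
    rw [show 9 * 20 = 180 by norm_num, ← hv]
    exact card_dvd_of_le fun q hq => mem_centralizer_singleton_iff.2 (h q hq)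
  exact (Nat.Coprime.dvd_mul_right (hi ▸ Nat.Coprime.pow_left i (by norm_num))).1 hd

variable {s e j : G}

/-- A Sylow three-subgroup containing `s` and `e` centralises `e`. -/
theorem sylow_le (T : ThreeHyp s e j) (P : Sylow 3 G)
    (hP : centralizer ({s} : Set G) ⊓ centralizer ({e} : Set G) ≤ (P : Subgroup G)) :
    (P : Subgroup G) ≤ centralizer ({e} : Set G) := by
  classical
  haveI : Fact (Nat.Prime 3) := ⟨Nat.prime_three⟩
  have hs : s ∈ (P : Subgroup G) := hP ⟨mem_centralizer_singleton_iff.2 rfl,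
    mem_centralizer_singleton_iff.2 T.comm⟩
  have he : e ∈ (P : Subgroup G) := hP ⟨mem_centralizer_singleton_iff.2 T.comm.symm,
    mem_centralizer_singleton_iff.2 rfl⟩
  haveI : Nontrivial (P : Subgroup G) := ⟨⟨⟨e, he⟩, 1, fun h => by
    have := T.ord_e
    rw [show e = 1 from congrArg Subtype.val h, orderOf_one] at this
    norm_num at this⟩⟩
  haveI : Nontrivial (center (P : Subgroup G)) := P.2.center_nontrivial
  obtain ⟨c, hc⟩ := exists_ne (1 : center (P : Subgroup G))
  set ζ : G := ((c.1 : (P : Subgroup G)) : G) with hζ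
  have hζc : ∀ p ∈ (P : Subgroup G), Commute p ζ := fun p hp =>
    congrArg Subtype.val (mem_center_iff.1 c.2 ⟨p, hp⟩)
  have hζm : ζ ∈ centralizer ({s} : Set G) ⊓ centralizer ({e} : Set G) :=
    ⟨mem_centralizer_singleton_iff.2 (hζc s hs).symm,
      mem_centralizer_singleton_iff.2 (hζc e he).symm⟩
  rcases T.rest ζ hζm with h | h | h | h
  · exact absurd (Subtype.ext (Subtype.ext h)) hc
  · exact fun p hp => mem_centralizer_singleton_iff.2 (h ▸ hζc p hp)
  · exact fun p hp => mem_centralizer_singleton_iff.2 (by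
      have := h ▸ hζc p hp
      exact (Commute.inv_right_iff.1 this))
  · have hd := card_le_nine h P.2 hζc
    have heq := eq_of_le_of_card_ge hP (by rw [T.card_se]; exact Nat.le_of_dvd (by norm_num) hd)
    exact heq ▸ inf_le_right

/-- A conjugate of `s` in that subgroup is conjugate under the centraliser of `e`. -/
theorem conj_in_cent (T : ThreeHyp s e j) {g : G} (hg : Commute (g⁻¹ * s * g) e) :
    ∃ k ∈ centralizer ({e} : Set G), g⁻¹ * s * g = k⁻¹ * s * k := by
  classical
  haveI : Fact (Nat.Prime 3) := ⟨Nat.prime_three⟩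
  set H := centralizer ({s} : Set G) with hH
  have h1 : g * e * g⁻¹ ∈ H := by
    refine mem_centralizer_singleton_iff.2 ?_
    calc g * e * g⁻¹ * s = g * (e * (g⁻¹ * s * g)) * g⁻¹ := by group
      _ = g * ((g⁻¹ * s * g) * e) * g⁻¹ := by rw [hg.eq]
      _ = _ := by group
  let E := (H ⊓ centralizer ({e} : Set G)).subgroupOf H
  have hE : Nat.card E = 3 ^ 2 := by
    rw [Nat.card_congr (subgroupOfEquivOfLe inf_le_left).toEquiv, T.card_se]; norm_num
  obtain ⟨PE, hPE⟩ := (IsPGroup.of_card hE).exists_le_sylow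
  have hPEe : E = (PE : Subgroup H) := by
    refine eq_of_le_of_card_ge hPE ?_
    obtain ⟨i, hi⟩ := IsPGroup.iff_card.1 PE.2
    have hd : Nat.card PE ∣ 9 * 20 := by
      rw [show 9 * 20 = 180 by norm_num, ← T.card_s]; exact card_subgroup_dvd_card _
    rw [hE]
    exact Nat.le_of_dvd (by norm_num)
      ((Nat.Coprime.dvd_mul_right (hi ▸ Nat.Coprime.pow_left i (by norm_num))).1 hd)
  have hge : orderOf (g * e * g⁻¹) = 3 := by
    rw [← MulAut.conj_apply, MulEquiv.orderOf_eq, T.ord_e]
  have hX : IsPGroup 3 (zpowers (⟨g * e * g⁻¹, h1⟩ : H)) :=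
    IsPGroup.of_card (n := 1) (by rw [Nat.card_zpowers, ← orderOf_coe, pow_one]; exact hge)
  obtain ⟨PX, hPX⟩ := hX.exists_le_sylow
  obtain ⟨c, hc⟩ := MulAction.exists_smul_eq H PX PE
  have h2 : (c : G) * (g * e * g⁻¹) * (c : G)⁻¹ ∈ H ⊓ centralizer ({e} : Set G) := by
    have hm : MulAut.conj c ⟨g * e * g⁻¹, h1⟩ ∈ ((c • PX : Sylow 3 H) : Subgroup H) :=
      ⟨_, hPX (mem_zpowers _), rfl⟩
    rw [hc, ← hPEe] at hm
    exact hm
  obtain ⟨d, hds, hde⟩ : ∃ d, Commute d s ∧ d * g * e * (d * g)⁻¹ = e := by
    have hcs : Commute (c : G) s := mem_centralizer_singleton_iff.1 c.2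
    have ord : orderOf ((c : G) * (g * e * g⁻¹) * (c : G)⁻¹) = 3 := by
      rw [← MulAut.conj_apply, MulEquiv.orderOf_eq, hge]
    rcases T.rest _ h2 with h | h | h | h
    · rw [h, orderOf_one] at ord; norm_num at ord
    · exact ⟨c, hcs, Eq.trans (by group) h⟩
    · refine ⟨j * c, T.js.mul_left hcs, ?_⟩
      calc j * c * g * e * (j * c * g)⁻¹ = j * (c * (g * e * g⁻¹) * (c : G)⁻¹) * j⁻¹ := by group
        _ = j * e⁻¹ * j⁻¹ := by rw [h]
        _ = (j * e * j⁻¹)⁻¹ := by group
        _ = e := by rw [T.je, inv_inv]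
    · exfalso
      have hodd := T.odd_e
      have e1 : Nat.card (centralizer ({(c : G) * (g * e * g⁻¹) * (c : G)⁻¹} : Set G)) =
          Nat.card (centralizer ({e} : Set G)) := by
        rw [show (c : G) * (g * e * g⁻¹) * (c : G)⁻¹ = MulAut.conj ((c : G) * g) e by
          simp [mul_assoc]]
        refine (Nat.card_congr (Equiv.subtypeEquiv (MulAut.conj ((c : G) * g)).toEquiv fun v => ?_)).symm
        simp only [mem_centralizer_singleton_iff, MulEquiv.toEquiv_eq_coe, MulEquiv.coe_toEquiv]
        rw [← map_mul, ← map_mul, (MulAut.conj ((c : G) * g)).injective.eq_iff]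
      rw [← e1, h] at hodd
      exact absurd hodd (by decide)
  refine ⟨d * g, mem_centralizer_singleton_iff.2 (mul_inv_eq_iff_eq_mul.1 hde), ?_⟩
  have : d⁻¹ * s * d = s := by rw [mul_assoc, ← hds.eq, inv_mul_cancel_left]
  calc g⁻¹ * s * g = g⁻¹ * (d⁻¹ * s * d) * g := by rw [this]
    _ = _ := by group

/-- Some normal subgroup has odd index greater than one. -/
theorem exists_normal_odd (T : ThreeHyp s e j) :
    ∃ N : Subgroup G, N.Normal ∧ Odd N.index ∧ N ≠ ⊤ := by
  classical
  haveI : Fact (Nat.Prime 3) := ⟨Nat.prime_three⟩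
  have hE : IsPGroup 3 ↥(centralizer ({s} : Set G) ⊓ centralizer ({e} : Set G)) :=
    IsPGroup.of_card (n := 2) (by rw [T.card_se]; norm_num)
  obtain ⟨P, hP⟩ := hE.exists_le_sylow
  have hPe := sylow_le T P hP
  have hs : s ∈ (P : Subgroup G) := hP ⟨mem_centralizer_singleton_iff.2 rfl,
    mem_centralizer_singleton_iff.2 T.comm⟩
  let K := centralizer ({e} : Set G)
  let PK : Sylow 3 K := P.subtype hPe
  -- conjugates of `s` in `P`
  have hcls : ∀ g : G, g⁻¹ * s * g ∈ (P : Subgroup G) →
      Nat.card (centralizer ({g⁻¹ * s * g} : Set G)) = 180 := by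
    intro g _
    rw [← T.card_s]
    refine Nat.card_congr (Equiv.subtypeEquiv (MulAut.conj g).toEquiv fun v => ?_)
    simp only [mem_centralizer_singleton_iff, MulEquiv.toEquiv_eq_coe, MulEquiv.coe_toEquiv,
      MulAut.conj_apply]
    constructor
    · intro h
      calc g * v * g⁻¹ * s = g * (v * (g⁻¹ * s * g)) * g⁻¹ := by group
        _ = g * ((g⁻¹ * s * g) * v) * g⁻¹ := by rw [h]
        _ = _ := by group
    · intro h
      calc v * (g⁻¹ * s * g) = g⁻¹ * (g * v * g⁻¹ * s) * g := by group
        _ = g⁻¹ * (s * (g * v * g⁻¹)) * g := by rw [h]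
        _ = _ := by group
  -- a 3-subgroup containing one has commutator index dividing nine
  have hidx : ∀ (g : G) (Q : Subgroup K), IsPGroup 3 Q → ∀ hm : g⁻¹ * s * g ∈ (P : Subgroup G),
      (⟨g⁻¹ * s * g, hPe hm⟩ : K) ∈ Q → Nat.card (Q ⧸ commutator Q) ∣ 9 := by
    intro g Q hQ hm hmQ
    obtain ⟨i, hi⟩ := IsPGroup.iff_card.1 (hQ.to_quotient (commutator Q))
    have hle : Nat.card (Q ⧸ commutator Q) ≤ 9 := by
      rw [← index_eq_card]
      refine index_commutator_le Q ⟨_, hmQ⟩ ?_
      let C := (centralizer ({⟨_, hmQ⟩} : Set Q)).map (K.subtype.comp Q.subtype)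
      have hC : Nat.card C ∣ 9 := card_le_nine (hcls g hm) ((hQ.to_subgroup _).map _) (by
        rintro _ ⟨q, hq, rfl⟩
        exact congrArg (fun v : Q => ((v : K) : G)) (mem_centralizer_singleton_iff.1 hq))
      rw [card_map_of_injective (f := K.subtype.comp Q.subtype)
        (by exact K.subtype_injective.comp Q.subtype_injective)] at hC
      exact Nat.le_of_dvd (by norm_num) hC
    rw [hi] at hle ⊢
    have : i ≤ 2 := by
      by_contra h
      have := Nat.pow_le_pow_right (show 0 < 3 by norm_num) (show 3 ≤ i by omega)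
      norm_num at this
      omega
    rw [show (9 : ℕ) = 3 ^ 2 by norm_num]
    exact pow_dvd_pow 3 this
  -- the factor group
  let Q₀ := (PK : Subgroup K)
  have hQs : (⟨s, hPe hs⟩ : K) ∈ Q₀ := hs
  let V := Q₀ ⧸ commutator Q₀
  have hcomm : ∀ a b : V, a * b = b * a := by
    intro a b
    induction a using QuotientGroup.induction_on with
    | H a => induction b using QuotientGroup.induction_on with
      | H b =>
        rw [← QuotientGroup.mk_mul, ← QuotientGroup.mk_mul, QuotientGroup.eq, mul_inv_rev,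
          show b⁻¹ * a⁻¹ * (b * a) = ⁅b⁻¹, a⁻¹⁆ by simp [commutatorElement_def, mul_assoc]]
        exact commutator_mem_commutator (mem_top _) (mem_top _)
  letI : CommGroup V := { (inferInstance : Group V) with mul_comm := hcomm }
  set σ : V := QuotientGroup.mk ⟨⟨s, hPe hs⟩, hQs⟩ with hσ
  -- `s` is not in the commutator subgroup
  have hσne : σ ≠ 1 := by
    intro h1
    rw [hσ, QuotientGroup.eq_one_iff] at h1
    have hidx9 : 9 ≤ (commutator Q₀).index := by
      by_cases hc : commutator Q₀ = ⊥
      · rw [hc, mem_bot] at h1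
        have := T.ord_s
        rw [show s = 1 from congrArg (fun v : Q₀ => ((v : K) : G)) h1, orderOf_one] at this
        norm_num at this
      · exact PLocal.sq_le_index_commutator PK.2 hc
    have h9 : (commutator Q₀).index = 9 := by
      refine le_antisymm ?_ hidx9
      rw [index_eq_card]
      exact Nat.le_of_dvd (by norm_num) (hidx 1 Q₀ PK.2 (by simpa using hs) (by simpa using hQs))
    set x : Q₀ := ⟨⟨s, hPe hs⟩, hQs⟩
    -- its class fills its coset
    have hcent : Nat.card (centralizer ({x} : Set Q₀)) ≤ 9 := by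
      let C := (centralizer ({x} : Set Q₀)).map (K.subtype.comp Q₀.subtype)
      have hC : Nat.card C ∣ 9 := card_le_nine T.card_s ((PK.2.to_subgroup _).map _) (by
        rintro _ ⟨q, hq, rfl⟩
        exact congrArg (fun v : Q₀ => ((v : K) : G)) (mem_centralizer_singleton_iff.1 hq))
      rw [card_map_of_injective (f := K.subtype.comp Q₀.subtype)
        (by exact K.subtype_injective.comp Q₀.subtype_injective)] at hC
      exact Nat.le_of_dvd (by norm_num) hC
    let f : Q₀ ⧸ centralizer ({x} : Set Q₀) → {v : commutator Q₀ // v ≠ 1} := fun q =>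
      ⟨⟨q.out * x * q.out⁻¹, (inferInstance : (commutator Q₀).Normal).conj_mem x h1 _⟩, fun h => by
        have e := congrArg (Subtype.val : commutator Q₀ → Q₀) h
        simp only [OneMemClass.coe_one, conj_eq_one_iff] at e
        have := T.ord_s
        rw [show s = 1 from congrArg (fun v : Q₀ => ((v : K) : G)) e, orderOf_one] at this
        norm_num at this⟩
    have hf : Function.Injective f := fun p q h => by
      have e2 : p.out * x * p.out⁻¹ = q.out * x * q.out⁻¹ :=
        congrArg (fun v : {v : commutator Q₀ // v ≠ 1} => (v.1 : Q₀)) h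
      rw [← QuotientGroup.out_eq' p, ← QuotientGroup.out_eq' q, QuotientGroup.eq,
        mem_centralizer_singleton_iff]
      calc p.out⁻¹ * q.out * x = p.out⁻¹ * (q.out * x * q.out⁻¹) * q.out := by group
        _ = _ := by rw [← e2]; group
    have hlt : Nat.card (Q₀ ⧸ centralizer ({x} : Set Q₀)) < Nat.card (commutator Q₀) := by
      refine lt_of_le_of_lt (Nat.card_le_card_of_injective f hf) ?_
      exact Finite.card_subtype_lt (x := 1) (by simp)
    have e1 := (centralizer ({x} : Set Q₀)).card_mul_index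
    rw [index_eq_card] at e1
    have e2 := (commutator Q₀).card_mul_index
    rw [h9] at e2
    have := Nat.mul_le_mul_right (Nat.card (Q₀ ⧸ centralizer ({x} : Set Q₀))) hcent
    omega
  -- fusion
  have hfus : ∀ g : G, ∀ hm : g⁻¹ * s * g ∈ (P : Subgroup G),
      (QuotientGroup.mk ⟨⟨g⁻¹ * s * g, hPe hm⟩, hm⟩ : V) = σ := by
    intro g hm
    obtain ⟨k, hk, hkg⟩ := conj_in_cent T
      (mem_centralizer_singleton_iff.1 (hPe hm) : Commute _ e)
    set kk : K := ⟨k, hk⟩
    set sk : K := ⟨s, hPe hs⟩
    have hA : ({sk} : Set K) ⊆ (PK : Set K) := by rintro _ rfl; exact hs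
    have hAg : (fun a => kk⁻¹ * a * kk) '' {sk} ⊆ (PK : Set K) := by
      rintro _ ⟨_, rfl, rfl⟩
      show (k⁻¹ * s * k) ∈ (P : Subgroup G)
      rw [← hkg]; exact hm
    obtain ⟨n, Q, w, hw, hN, h0, hstep⟩ := Cfsg.Agent.S0116.result PK {sk} kk hA hAg
    have key : ∀ i : ℕ, i ≤ n → ∃ hi : (((List.ofFn w).take i).prod)⁻¹ * sk *
        ((List.ofFn w).take i).prod ∈ Q₀,
        (QuotientGroup.mk ⟨_, hi⟩ : V) = σ := by
      intro i
      induction i with
      | zero =>
        intro _
        refine ⟨by simpa using hQs, ?_⟩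
        rw [hσ]
        congr 1
        exact Subtype.ext (by simp [sk])
      | succ i ih =>
        intro hi
        obtain ⟨hmem, heq⟩ := ih (by omega)
        set y := (((List.ofFn w).take i).prod)⁻¹ * sk * ((List.ofFn w).take i).prod with hy
        have hyQ : y ∈ Q₀ ⊓ (Q ⟨i, by omega⟩ : Subgroup K) := by
          rcases Nat.eq_zero_or_pos i with rfl | hpos
          · have h00 := h0 (by omega) (Set.mem_singleton sk)
            have ey : y = sk := by simp [y]
            rw [ey]; exact h00
          · obtain ⟨i', rfl⟩ : ∃ i', i = i' + 1 := ⟨i - 1, by omega⟩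
            have hi' : i' + 1 < n := by omega
            exact hstep ⟨i', by omega⟩ hi' ⟨sk, rfl, rfl⟩
        obtain ⟨hwN, hrel, -⟩ := hN ⟨i, by omega⟩
        have hnext : (((List.ofFn w).take (i + 1)).prod)⁻¹ * sk *
            ((List.ofFn w).take (i + 1)).prod = (w ⟨i, by omega⟩)⁻¹ * y * w ⟨i, by omega⟩ := by
          rw [List.take_succ_eq_append_getElem (by simpa using (by omega : i < n)), List.prod_append,
            List.prod_singleton, List.getElem_ofFn, hy, mul_inv_rev]
          group
        have hmem' : (w ⟨i, by omega⟩)⁻¹ * y * w ⟨i, by omega⟩ ∈ Q₀ :=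
          ((mem_normalizer_iff''.1 hwN y).1 hyQ).1
        obtain ⟨g', hg'⟩ : ∃ g' : G, (y : G) = g'⁻¹ * s * g' :=
          ⟨((((List.ofFn w).take i).prod : K) : G), by simp [y, sk]⟩
        have hQc := hidx g' (Q₀ ⊓ (Q ⟨i, by omega⟩ : Subgroup K)) (PK.2.to_le inf_le_left)
          (hg' ▸ (hyQ.1 : (y : G) ∈ (P : Subgroup G)))
          (by
            convert hyQ using 1
            exact Subtype.ext hg'.symm)
        have hstep' := conj_step (G := G) T.odd_e PK _ inf_le_left hQc hrel hwN hyQ hmem' hmem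
        refine ⟨hnext ▸ hmem', ?_⟩
        rw [← heq, ← hstep']
        congr 1
        exact Subtype.ext hnext
    obtain ⟨hi, hfin⟩ := key n le_rfl
    rw [← hfin]
    congr 1
    apply Subtype.ext
    apply Subtype.ext
    show g⁻¹ * s * g = _
    simp only [List.take_of_length_le (le_of_eq (List.length_ofFn (f := w))), hw, hkg]
    simp [kk, sk]
  -- the transfer
  let φ : (P : Subgroup G) →* V :=
    (QuotientGroup.mk' (commutator Q₀)).comp
      (MonoidHom.mk' (fun p => (⟨⟨p.1, hPe p.2⟩, p.2⟩ : Q₀)) fun p q => rfl)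
  letI : Fintype (G ⧸ (P : Subgroup G)) := Fintype.ofFinite _
  have hV3 : IsPGroup 3 V := PK.2.to_quotient _
  have hσ3 : σ ^ 3 = 1 := by
    rw [hσ, ← QuotientGroup.mk_pow, ← QuotientGroup.mk_one]
    congr 1
    exact Subtype.ext (Subtype.ext (by
      simpa using orderOf_dvd_iff_pow_eq_one.1 T.ord_s.dvd))
  have htr : MonoidHom.transfer φ s ≠ 1 := by
    rw [Transfer.transfer_eq_prod_fixedVal φ s (by
      intro k hk hks g h
      rw [T.ord_s] at hks
      obtain rfl : k = 3 := by
        rcases (Nat.dvd_prime Nat.prime_three).1 hks with e' | e' <;> omega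
      have e3 : g⁻¹ * s ^ 3 * g = 1 := by
        rw [orderOf_dvd_iff_pow_eq_one.1 T.ord_s.dvd, mul_one, inv_mul_cancel]
      rw [show (⟨_, h⟩ : (P : Subgroup G)) = 1 from Subtype.ext e3, map_one])]
    have hval : ∀ q : G ⧸ (P : Subgroup G),
        Transfer.fixedVal φ s q = if s • q = q then σ else 1 := by
      intro q
      induction q using QuotientGroup.induction_on with
      | H g =>
        split
        · next hfix =>
          have hm := (Transfer.mem_iff_smul_eq s g).2 hfix
          rw [Transfer.fixedVal_of_mem φ s hm]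
          exact hfus g hm
        · next hfix => exact Transfer.fixedVal_of_ne φ s hfix
    rw [Finset.prod_congr rfl fun q _ => hval q, Finset.prod_ite, Finset.prod_const_one, mul_one,
      Finset.prod_const]
    intro h
    apply hσne
    have hmod := (IsPGroup.of_card (n := 1)
      (by rw [Nat.card_zpowers, T.ord_s, pow_one]) : IsPGroup 3 (zpowers s))
      |>.card_modEq_card_fixedPoints (G ⧸ (P : Subgroup G))
    have hfix : Nat.card (MulAction.fixedPoints (zpowers s) (G ⧸ (P : Subgroup G))) =
        (Finset.univ.filter fun q : G ⧸ (P : Subgroup G) => s • q = q).card := by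
      rw [← Fintype.card_subtype, ← Nat.card_eq_fintype_card]
      refine Nat.card_congr (Equiv.subtypeEquivRight fun q => ?_)
      refine ⟨fun hq => hq ⟨s, mem_zpowers s⟩, fun hq => ?_⟩
      rintro ⟨_, i, rfl⟩
      exact (MulAction.mem_stabilizer_iff.1 (zpow_mem (MulAction.mem_stabilizer_iff.2 hq) i))
    set c := (Finset.univ.filter fun q : G ⧸ (P : Subgroup G) => s • q = q).card
    have hc : ¬ 3 ∣ c := by
      rw [← hfix]
      intro hd
      apply P.not_dvd_index
      rw [index_eq_card]
      exact (Nat.ModEq.dvd_iff hmod dvd_rfl).2 hd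
    refine orderOf_eq_one_iff.1 (Nat.eq_one_of_dvd_coprimes
      (Nat.prime_three.coprime_iff_not_dvd.2 hc) (orderOf_dvd_of_pow_eq_one hσ3)
      (orderOf_dvd_of_pow_eq_one h))
  refine ⟨(MonoidHom.transfer φ).ker, inferInstance, ?_, fun h => htr ?_⟩
  · rw [index_ker]
    obtain ⟨i, hi⟩ := IsPGroup.iff_card.1 (hV3.to_subgroup (MonoidHom.transfer φ).range)
    rw [hi]
    exact Odd.pow (by decide)
  · exact (MonoidHom.mem_ker).1 (by rw [h]; trivial)

end CfsgLib.L34Sylow.EndLL
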