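import Cfsg.Agent.Lib.L34Sylow.EndLLBasic
import Cfsg.Agent.Lib.Classical.Order
import Cfsg.Agent.Lib.Recog.CIT.Main
import Cfsg.Agent.Lib.Recog.CIT.SimpleNormal

/-!
# No side small, trivial cores: the subgroup generated by the involutions
-/

set_option autoImplicit false
set_option linter.style.haveILetI false
set_option linter.unusedSectionVars false

namespace CfsgLib.L34Sylow.EndLL

open Cfsg Subgroup

universe u

variable {G : Type u} [Group G] {S : Sylow 2 G} {φ : F4 → F4 → F4 → G}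

/-- The subgroup generated by the involutions. -/
def invSub (G : Type u) [Group G] : Subgroup G := closure {v | orderOf v = 2}

theorem invSub_normal : (invSub G).Normal := by
  refine ⟨fun n hn g => ?_⟩
  induction hn using closure_induction with
  | mem v hv => exact subset_closure (by simpa [← MulAut.conj_apply, MulEquiv.orderOf_eq] using hv)
  | one => simp
  | mul p q _ _ hp hq => rw [← conj_mul]; exact mul_mem hp hq
  | inv p _ hp => simpa [mul_assoc] using inv_mem hp

theorem mem_invSub {v : G} (hv : v * v = 1) : v ∈ invSub G := by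
  by_cases h : v = 1
  · exact h ▸ one_mem _
  · exact subset_closure (orderOf_eq_prime (p := 2) (by rw [pow_two, hv]) h)

theorem S_le_invSub (hS : Setup S φ) : (S : Subgroup G) ≤ invSub G := by
  intro g hg
  obtain ⟨a, b, c, rfl⟩ := hS.surj g hg
  rw [show φ a b c = φ a 0 (c + a * b) * φ 0 b 0 by
    rw [hS.mul, add_zero, zero_add, add_zero, add_assoc, f4_char, add_zero]]
  exact mul_mem (mem_invSub (by rw [hS.sq, mul_zero, hS.one]))
    (mem_invSub (by rw [hS.sq, zero_mul, hS.one]))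

theorem map_mk_closure {H : Subgroup G} (f : F4 → F4 → G) (hf : ∀ a b, f a b ∈ H) :
    (closure {g : H | ∃ a b, (f a b : G) = g}).map H.subtype = closure {g | ∃ a b, f a b = g} := by
  rw [MonoidHom.map_closure]
  congr 1
  ext g
  constructor
  · rintro ⟨v, ⟨a, b, hab⟩, rfl⟩
    exact ⟨a, b, hab⟩
  · rintro ⟨a, b, rfl⟩
    exact ⟨⟨_, hf a b⟩, ⟨a, b, rfl⟩, rfl⟩

variable [Finite G]

/-- A 2-element lies in the subgroup generated by the involutions. -/
theorem pow_two_mem (hS : Setup S φ) {g : G} {k : ℕ} (h : g ^ 2 ^ k = 1) : g ∈ invSub G := by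
  haveI : Fact (Nat.Prime 2) := ⟨Nat.prime_two⟩
  have hp : IsPGroup 2 (zpowers g) := by
    obtain ⟨i, -, hi⟩ := (Nat.dvd_prime_pow Nat.prime_two).1 (orderOf_dvd_of_pow_eq_one h)
    exact IsPGroup.of_card (n := i) (by rw [Nat.card_zpowers, hi])
  obtain ⟨P, hP⟩ := hp.exists_le_sylow
  obtain ⟨c, hc⟩ := MulAction.exists_smul_eq G S P
  have hg : g ∈ ((c • S : Sylow 2 G) : Subgroup G) := hc ▸ hP (mem_zpowers g)
  obtain ⟨v, hv, rfl⟩ := hg
  exact (invSub_normal (G := G)).conj_mem v (S_le_invSub hS hv) c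

/-- An element of a normaliser of `A` moving the centre, inside the given subgroup. -/
theorem exists_move_L (hFs : StmtFacts.{u}) (hB : StmtBig.{u}) (hS : Setup S φ) (hA : ¬ Small φ)
    (hc : centralizer (SA φ : Set G) ≤ SA φ) :
    ∃ n ∈ normalizer (SA φ : Set G), n ∈ invSub G ∧ n ∉ normalizer (SZ φ : Set G) := by
  obtain ⟨ψ, hmul, hinj, hA', hZ', -, hsl, -, -⟩ := hB hFs G S φ hS hA
  obtain ⟨n, hn, hact⟩ := hsl 1 0 1 1 (by decide)
  refine ⟨n, hn, ?_, fun hz => ?_⟩
  · refine pow_two_mem hS (k := 2) ?_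
    have h2 : n * n ∈ SA φ := hc (mem_centralizer_iff.2 fun v hv => by
      obtain ⟨a, b, rfl⟩ := (hA' v).1 hv
      refine (mul_inv_eq_iff_eq_mul.1 ?_).symm
      rw [show n * n * ψ a b * (n * n)⁻¹ = n * (n * ψ a b * n⁻¹) * n⁻¹ by group]
      have h1 := hact a b
      have h1' := hact (1 * a + 0 * b) (1 * a + 1 * b)
      simp only [cj] at h1 h1'
      rw [h1, h1']
      simp only [one_mul, zero_mul, add_zero]
      rw [← add_assoc, f4_char, zero_add])
    rw [pow_succ, pow_one, pow_mul, pow_two]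
    obtain ⟨a, c, e⟩ := hS.mem_SA.1 h2
    rw [pow_two n, ← e, hS.sq, mul_zero, hS.one]
  · have h1 : cj n (ψ 1 0) ∈ SZ φ := (mem_normalizer_iff.1 hz _).1 ((hZ' _).2 ⟨1, rfl⟩)
    rw [hact] at h1
    obtain ⟨a, ha⟩ := (hZ' _).1 h1
    exact absurd (hinj _ _ _ _ ha).2 (by simp)

/-- The subgroup with its coordinates. -/
theorem not_small_L (hFs : StmtFacts.{u}) (hB : StmtBig.{u}) (hS : Setup S φ) (hA : ¬ Small φ)
    (hc : centralizer (SA φ : Set G) ≤ SA φ) (hm : ∀ a b c, φ a b c ∈ invSub G) :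
    ¬ Small (fun a b c => (⟨φ a b c, hm a b c⟩ : invSub G)) := by
  intro hs
  obtain ⟨n, hn, hnL, hnz⟩ := exists_move_L hFs hB hS hA hc
  set φL : F4 → F4 → F4 → invSub G := fun a b c => ⟨φ a b c, hm a b c⟩
  have hAmap : (SA φL).map (invSub G).subtype = SA φ := by
    have e : {g : invSub G | ∃ a c, φL a 0 c = g} = {g : invSub G | ∃ a c, φ a 0 c = (g : G)} :=
      Set.ext fun g => exists_congr fun a => exists_congr fun c => Subtype.ext_iff
    show (closure {g : invSub G | ∃ a c, φL a 0 c = g}).map _ = _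
    rw [e]
    exact map_mk_closure (fun a c => φ a 0 c) fun a c => hm a 0 c
  have hZmap : (SZ φL).map (invSub G).subtype = SZ φ := by
    have e : {g : invSub G | ∃ c, φL 0 0 c = g} = {g : invSub G | ∃ _ : F4, ∃ c, φ 0 0 c = (g : G)} :=
      Set.ext fun g => ⟨fun ⟨c, hc⟩ => ⟨0, c, congrArg Subtype.val hc⟩,
        fun ⟨_, c, hc⟩ => ⟨c, Subtype.ext hc⟩⟩
    show (closure {g : invSub G | ∃ c, φL 0 0 c = g}).map _ = _
    rw [e, map_mk_closure (fun (_ : F4) c => φ 0 0 c) fun _ c => hm 0 0 c]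
    refine congrArg Subgroup.closure (Set.ext fun g => ?_)
    exact ⟨fun ⟨_, c, hc⟩ => ⟨c, hc⟩, fun ⟨c, hc⟩ => ⟨0, c, hc⟩⟩
  refine hnz (mem_normalizer_iff.2 fun v => ?_)
  have h1 : (⟨n, hnL⟩ : invSub G) ∈ normalizer (SA φL : Set (invSub G)) := by
    refine mem_normalizer_iff.2 fun w => ?_
    rw [← mem_map_iff_mem (invSub G).subtype_injective,
      ← mem_map_iff_mem (invSub G).subtype_injective (K := SA φL), hAmap]
    exact mem_normalizer_iff.1 hn _
  have h2 := hs h1
  constructor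
  · intro hv
    rw [← hZmap] at hv ⊢
    obtain ⟨w, hw, rfl⟩ := hv
    exact ⟨_, (mem_normalizer_iff.1 h2 w).1 hw, rfl⟩
  · intro hv
    rw [← hZmap] at hv ⊢
    obtain ⟨w, hw, hwe⟩ := hv
    refine ⟨_, (mem_normalizer_iff''.1 h2 w).1 hw, ?_⟩
    show n⁻¹ * (w : G) * n = v
    rw [show (w : G) = n * v * n⁻¹ from hwe]
    group

theorem setup_L (hS : Setup S φ) (hm : ∀ a b c, φ a b c ∈ invSub G) :
    Setup (S.subtype (S_le_invSub hS)) (fun a b c => (⟨φ a b c, hm a b c⟩ : invSub G)) where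
  mem a b c := hS.mem a b c
  surj g hg := by
    obtain ⟨a, b, c, h⟩ := hS.surj g hg
    exact ⟨a, b, c, Subtype.ext h⟩
  inj a b c a' b' c' h := hS.inj _ _ _ _ _ _ (congrArg Subtype.val h)
  mul a b c a' b' c' := Subtype.ext (hS.mul ..)
  core_bot := by
    haveI : (invSub G).Normal := invSub_normal
    haveI : (oddCore (invSub G)).Characteristic := Base.pPrimeCore_characteristic 2 (invSub G)
    have h : (oddCore (invSub G)).map (invSub G).subtype ≤ oddCore G := by
      refine Base.le_oddCore ?_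
      rw [card_map_of_injective (invSub G).subtype_injective]
      exact Base.le_oddCore_iff.1 le_rfl
    rw [hS.core_bot, le_bot_iff, map_eq_bot_iff_of_injective _ (invSub G).subtype_injective] at h
    exact h

namespace LL

variable (D : LL S φ)
include D

/-- An involution is not central in the subgroup generated by all of them. -/
theorem centralizer_invSub : centralizer (invSub G : Set G) = ⊥ := by
  rw [eq_bot_iff]
  intro v hv
  haveI : (invSub G).Normal := invSub_normal
  have hZ : ∀ w ∈ centralizer (invSub G : Set G), w ∈ SZ φ := by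
    intro w hw
    have h := Subgroup.centralizer_le (SetLike.coe_subset_coe.2 (S_le_invSub D.hS)) hw
    rw [← D.facts.center]
    exact ⟨D.centralizer_S h, h⟩
  refine mem_bot.2 ?_
  by_contra hne
  have h2 : v * v = 1 := by
    obtain ⟨c, rfl⟩ := D.hS.mem_SZ.1 (hZ v hv)
    rw [D.hS.sq, mul_zero, D.hS.one]
  obtain ⟨g, hg⟩ := isConj_iff.1 ((D.one_class (orderOf_eq_prime (p := 2) (by
    rw [pow_two, h2]) hne)).symm.trans (D.one_class (u := φ 1 0 0) (orderOf_eq_prime (p := 2)
      (by rw [pow_two, D.hS.sq, mul_zero, D.hS.one])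
      fun e => absurd (D.hS.eq_one_iff.1 e).1 one_ne_zero)))
  have h := hZ _ ((inferInstance : (centralizer (invSub G : Set G)).Normal).conj_mem v hv g)
  rw [hg] at h
  obtain ⟨c, hc⟩ := D.hS.mem_SZ.1 h
  exact absurd (D.hS.inj _ _ _ _ _ _ hc).1 (by decide)

theorem centralizer_SA : centralizer (SA φ : Set G) ≤ SA φ := by
  intro g hg
  have hA : ∀ a c, φ a 0 c * g = g * φ a 0 c := fun a c =>
    mem_centralizer_iff.1 hg _ (D.hS.mem_SA.2 ⟨a, c, rfl⟩)
  have hgz : g ∈ cz (φ 0 0 1) := mem_centralizer_singleton_iff.2 (hA 0 1).symm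
  obtain ⟨l, m, hs, hlm⟩ := D.scal_of hgz
  have hl : l = 1 := by
    obtain ⟨c, hc⟩ := hs.2.2.1 1 0
    rw [cj, ← hA 1 0, mul_inv_cancel_right] at hc
    have := (D.hS.inj _ _ _ _ _ _ hc).1
    simpa using this.symm
  rw [hl, one_mul] at hlm
  rw [hl, hlm] at hs
  obtain ⟨a, b, c, rfl⟩ := D.hS.surj g (D.mem_S_of_lv hgz hs)
  have hb := (D.hS.commute_iff a b c 1 0 0).1 (hA 1 0).symm
  rw [mul_zero, zero_add, one_mul] at hb
  exact D.hS.mem_SA.2 ⟨a, c, by rw [hb]⟩

/-- Subgroups of the normaliser moving `z`: the stabiliser has index three. -/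
theorem relIndex_three {M : Subgroup G} (hM : M ≤ normalizer (S : Set G)) {h : G} (hh : h ∈ M)
    {l : F4} (hl : l ≠ 1) (hs : Scal φ h l l) : (cz (φ 0 0 1)).relIndex M = 3 := by
  classical
  have himg : ∀ g : M, ∃ c : F4, c ≠ 0 ∧ (g : G) * φ 0 0 1 * (g : G)⁻¹ = φ 0 0 c := fun g => by
    obtain ⟨l', m', hs'⟩ := D.facts.scal g (hM g.2)
    exact ⟨l' * m' * 1, mul_ne_zero (mul_ne_zero hs'.1 hs'.2.1) one_ne_zero, hs'.2.2.2 1⟩
  choose f hf0 hf using himg
  have heq : ∀ g g' : M, f g = f g' ↔ g⁻¹ * g' ∈ (cz (φ 0 0 1)).subgroupOf M := fun g g' => by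
    rw [mem_subgroupOf, mem_centralizer_singleton_iff]
    constructor
    · intro e
      have e' := (hf g).trans (e ▸ (hf g').symm)
      show (g : G)⁻¹ * g' * φ 0 0 1 = φ 0 0 1 * ((g : G)⁻¹ * g')
      calc (g : G)⁻¹ * g' * φ 0 0 1 = (g : G)⁻¹ * (g' * φ 0 0 1 * (g' : G)⁻¹) * g' := by group
        _ = _ := by rw [← e']; group
    · intro e
      change (g : G)⁻¹ * g' * φ 0 0 1 = φ 0 0 1 * ((g : G)⁻¹ * g') at e
      refine (D.hS.inj _ _ _ _ _ _ ((hf g).symm.trans (Eq.trans ?_ (hf g')))).2.2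
      calc (g : G) * φ 0 0 1 * (g : G)⁻¹
          = g * (φ 0 0 1 * ((g : G)⁻¹ * g')) * (g' : G)⁻¹ := by group
        _ = _ := by rw [← e]; group
  let e : M ⧸ (cz (φ 0 0 1)).subgroupOf M → {c : F4 // c ≠ 0} :=
    fun q => ⟨f q.out, hf0 _⟩
  have hinj : Function.Injective e := fun p q he => by
    rw [← QuotientGroup.out_eq' p, ← QuotientGroup.out_eq' q, QuotientGroup.eq]
    exact (heq _ _).1 (congrArg Subtype.val he)
  have hsurj : Function.Surjective e := by
    rintro ⟨c, hc⟩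
    have hval : ∀ (g : M) (l : F4), Scal φ (g : G) l l →
        e (QuotientGroup.mk g) = ⟨f g, hf0 g⟩ ∧ f g = l * l := by
      intro g l hg
      refine ⟨Subtype.ext ?_, ?_⟩
      · refine (heq _ _).2 ?_
        rw [← QuotientGroup.eq, QuotientGroup.out_eq']
      · have := (D.hS.inj _ _ _ _ _ _ ((hf g).symm.trans (hg.2.2.2 1))).2.2
        simpa using this
    rcases f4_orbit l hs.1 hl c hc with rfl | rfl | rfl
    · obtain ⟨h1, h2⟩ := hval 1 1 (by exact D.scal_one)
      exact ⟨_, h1.trans (Subtype.ext (h2.trans (one_mul 1)))⟩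
    · obtain ⟨h1, h2⟩ := hval ⟨h, hh⟩ l hs
      exact ⟨_, h1.trans (Subtype.ext h2)⟩
    · obtain ⟨h1, h2⟩ := hval (⟨h, hh⟩ * ⟨h, hh⟩) (l * l) (D.scal_mul hs hs)
      exact ⟨_, h1.trans (Subtype.ext h2)⟩
  show ((cz (φ 0 0 1)).subgroupOf M).index = 3
  rw [index_eq_card, Nat.card_eq_of_bijective e ⟨hinj, hsurj⟩, Nat.card_eq_fintype_card]
  decide

/-- The involutions generate a subgroup of index dividing three. -/
theorem index_invSub (hFs : StmtFacts.{u}) (hB : StmtBig.{u}) (hA : ¬ Small φ) :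
    (invSub G).index ∣ 3 := by
  classical
  haveI : Fact (Nat.Prime 2) := ⟨Nat.prime_two⟩
  haveI : (invSub G).Normal := invSub_normal
  have hSL := S_le_invSub D.hS
  have hm : ∀ a b c, φ a b c ∈ invSub G := fun a b c => hSL (D.hS.mem a b c)
  obtain ⟨_, -, -, -, -, -, -, -, hd⟩ := hB hFs (invSub G) _ _ (setup_L D.hS hm)
    (not_small_L hFs hB D.hS hA D.centralizer_SA hm)
  obtain ⟨h, hhN, l, hl, hs⟩ := hd
  -- it acts by the same scalars on `G`
  have hsG : Scal φ (h : G) l l := by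
    refine ⟨hs.1, hs.2.1, fun a b => ?_, fun c => congrArg Subtype.val (hs.2.2.2 c)⟩
    obtain ⟨c, hc⟩ := hs.2.2.1 a b
    exact ⟨c, congrArg Subtype.val hc⟩
  have hhS : (h : G) ∈ normalizer (S : Set G) := by
    refine mem_normalizer_iff.2 fun v => ⟨fun hv => ?_, fun hv => ?_⟩
    · exact (mem_normalizer_iff.1 hhN ⟨v, hSL hv⟩).1 hv
    · have hvL : v ∈ invSub G := by
        have := mul_mem (mul_mem (inv_mem h.2) (hSL hv)) h.2
        simpa [mul_assoc] using this
      exact (mem_normalizer_iff.1 hhN ⟨v, hvL⟩).2 hv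
  have htop : normalizer (S : Set G) ⊔ invSub G = ⊤ := by
    have h1 := Sylow.normalizer_sup_eq_top' S hSL
    exact h1
  set N := normalizer (S : Set G)
  have hidx : (invSub G).index = (invSub G).relIndex N := by
    have h4 := relIndex_mul_index (show invSub G ≤ N ⊔ invSub G from le_sup_right)
    rw [relIndex_sup_right, htop, index_top, mul_one] at h4
    exact h4.symm
  rw [hidx, ← inf_relIndex_right]
  have e1 := D.relIndex_three (M := invSub G ⊓ N) inf_le_right ⟨h.2, hhS⟩ hl hsG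
  have e2 := D.relIndex_three (M := N) le_rfl hhS hl hsG
  have hle : cz (φ 0 0 1) ≤ N := fun g hg => D.cz_le g hg
  set W := cz (φ 0 0 1) ⊓ (invSub G ⊓ N)
  have e3 : W.relIndex (invSub G ⊓ N) = 3 := by rw [inf_relIndex_right]; exact e1
  have e4 := relIndex_mul_relIndex W (invSub G ⊓ N) N inf_le_right inf_le_right
  have e5 := relIndex_mul_relIndex W (cz (φ 0 0 1)) N inf_le_left hle
  rw [e3] at e4
  rw [e2, ← e4, mul_comm 3] at e5
  have e6 : W.relIndex (cz (φ 0 0 1)) = (invSub G ⊓ N).relIndex N :=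
    Nat.eq_of_mul_eq_mul_right (by norm_num) e5
  rw [← e6]
  have hSW : (S : Subgroup G) ≤ W :=
    le_inf D.S_le (le_inf hSL le_normalizer)
  have e7 := relIndex_mul_relIndex (S : Subgroup G) W (cz (φ 0 0 1)) hSW inf_le_left
  have e8 := relIndex_mul_relIndex ⊥ (S : Subgroup G) (cz (φ 0 0 1)) bot_le D.S_le
  rw [relIndex_bot_left, relIndex_bot_left, D.hS.card_S] at e8
  have : (S : Subgroup G).relIndex (cz (φ 0 0 1)) ∣ 3 := by
    rcases D.card_cz_cases with h' | h' <;> rw [h'] at e8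
    · exact ⟨3, by omega⟩
    · exact ⟨1, by omega⟩
  exact (Dvd.intro_left _ e7).trans this

/-- A proper normal subgroup of odd index is excluded when the involutions generate. -/
theorem eq_top_of_normal (hL : invSub G = ⊤) {N : Subgroup G} [N.Normal] {v : G} (hvN : v ∈ N)
    (hv : orderOf v = 2) : N = ⊤ := by
  rw [eq_top_iff, ← hL]
  refine (closure_le _).2 fun w hw => ?_
  obtain ⟨g, rfl⟩ := isConj_iff.1 ((D.one_class hv).symm.trans (D.one_class hw))
  exact (inferInstance : N.Normal).conj_mem v hvN g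

theorem eq_top_of_odd_index (hL : invSub G = ⊤) {N : Subgroup G} [hN : N.Normal]
    (hodd : Odd N.index) : N = ⊤ := by
  rw [eq_top_iff, ← hL]
  refine (closure_le _).2 fun w hw => ?_
  have h1 : orderOf (QuotientGroup.mk' N w) ∣ 2 := hw ▸ orderOf_map_dvd _ w
  have h2 : orderOf (QuotientGroup.mk' N w) ∣ N.index := by
    rw [index_eq_card]; exact orderOf_dvd_natCard _
  have h3 := Nat.eq_one_of_dvd_coprimes (Nat.coprime_two_left.2 hodd) h1 h2
  exact (QuotientGroup.eq_one_iff w).1 (orderOf_eq_one_iff.1 h3)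

/-- All involution centralisers are 2-groups: the group is `PSL₃(4)`. -/
theorem isL34_of_cit (hA : ¬ Small φ) (hL : invSub G = ⊤) (h64 : Nat.card (cz (φ 0 0 1)) = 64) :
    Recog.CIT.IsL34 G := by
  classical
  haveI : Fact (Nat.Prime 2) := ⟨Nat.prime_two⟩
  have hcit : Recog.CIT.CIT G := fun t ht =>
    IsPGroup.of_card (n := 6) ((D.card_cz_eq ht).trans h64)
  have hnc : φ 1 0 0 * φ 0 1 0 ≠ φ 0 1 0 * φ 1 0 0 := fun h =>
    absurd ((D.hS.commute_iff ..).1 h) (by decide)
  have hcore : pCore 2 G = ⊥ := by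
    by_contra hne
    haveI : (pCore 2 G).Normal := pCore_normal 2 G
    have hp : IsPGroup 2 (pCore 2 G) := Base.isPGroup_pCore 2 G
    haveI : Nontrivial (pCore 2 G) := (nontrivial_iff_ne_bot _).2 hne
    obtain ⟨k, hk, hk'⟩ := hp.nontrivial_iff_card.1 inferInstance
    obtain ⟨v, hv⟩ := exists_prime_orderOf_dvd_card' (G := pCore 2 G) 2
      (hk' ▸ dvd_pow_self 2 hk.ne')
    have htop := D.eq_top_of_normal hL v.2 (by rw [orderOf_coe]; exact hv)
    apply hA
    intro g _
    refine D.facts.norm_Z ?_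
    have hS : (S : Subgroup G) = ⊤ := (S.3 (htop ▸ hp) le_top).symm
    refine le_normalizer ?_
    rw [hS]
    trivial
  have hns : ¬ Group.IsSolvable G := by
    intro hs
    haveI := hs
    haveI : Nontrivial G := ⟨⟨_, _, hnc⟩⟩
    have hlt := Group.IsSolvable.commutator_lt_top_of_nontrivial (G := G)
    by_cases hodd : Odd (Nat.card (commutator G))
    · have hb : commutator G = ⊥ := le_bot_iff.1 (D.hS.core_bot ▸ Base.le_oddCore hodd)
      refine hnc ?_
      have h := commutator_mem_commutator (mem_top (φ 1 0 0)) (mem_top (φ 0 1 0))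
      rw [← _root_.commutator_def, hb, mem_bot, commutatorElement_eq_one_iff_mul_comm] at h
      exact h
    · obtain ⟨v, hv⟩ := exists_prime_orderOf_dvd_card' (G := commutator G) 2
        (Nat.not_odd_iff_even.1 hodd).two_dvd
      exact hlt.ne (D.eq_top_of_normal hL v.2 (by rw [orderOf_coe]; exact hv))
  obtain ⟨E, hEn, hEs, hEna, -⟩ := Recog.CIT.exists_simple_normal hcit hns hcore
  haveI := hEn
  have hE : E = ⊤ := by
    by_cases hodd : Odd (Nat.card E)
    · exfalso
      obtain ⟨a, b, hab⟩ := hEna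
      have hb : E = ⊥ := le_bot_iff.1 (D.hS.core_bot ▸ Base.le_oddCore hodd)
      subst hb
      exact hab (Subsingleton.elim _ _)
    · obtain ⟨v, hv⟩ := exists_prime_orderOf_dvd_card' (G := E) 2
        (Nat.not_odd_iff_even.1 hodd).two_dvd
      exact D.eq_top_of_normal hL v.2 (by rw [orderOf_coe]; exact hv)
  subst hE
  haveI : IsSimpleGroup G := (Subgroup.topEquiv (G := G)).symm.isSimpleGroup
  have h128 : ¬ 128 ∣ Nat.card G := by
    intro h
    obtain ⟨P, hP⟩ := Sylow.exists_subgroup_card_pow_prime (G := G) 2 (n := 7) h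
    obtain ⟨Q, hQ⟩ := (IsPGroup.of_card hP).exists_le_sylow
    have h2 := card_le_of_le hQ
    rw [hP, Nat.card_congr (Q.equiv S).toEquiv, D.hS.card_S] at h2
    norm_num at h2
  have h64' : 64 ∣ Nat.card G := D.hS.card_S ▸ card_subgroup_dvd_card _
  rcases Recog.CIT.known_of_cit ⟨_, _, hnc⟩ hcit with ⟨⟨T, DD, q, hd⟩, -⟩ |
    ⟨⟨F, iF, jF, hF, ⟨e⟩⟩, -⟩ | h
  · exfalso
    let TS : Sylow 2 G := ⟨T, hd.isP, fun {Q} hQ hle => hd.maxP Q hQ hle⟩
    obtain ⟨g, hg⟩ := MulAction.exists_smul_eq G S TS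
    have hmem : ∀ v ∈ S, g * v * g⁻¹ ∈ T := fun v hv => by
      have : MulAut.conj g v ∈ ((g • S : Sylow 2 G) : Subgroup G) := ⟨v, hv, rfl⟩
      rw [hg] at this
      exact this
    have h := hd.central _ (hmem _ (D.hS.mem 1 0 0)) (by
      rw [conj_mul, D.hS.sq, mul_zero, D.hS.one]; group) _ (hmem _ (D.hS.mem 0 1 0))
    rw [conj_mul, conj_mul] at h
    exact hnc (mul_left_cancel (mul_right_cancel h)).symm
  · exfalso
    have h1 := Classical.card_PSL_two_mul (F := F)
    rw [← Nat.card_congr e.toEquiv, Nat.card_eq_fintype_card] at h1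
    set q := Fintype.card F with hq
    have hodd : Odd q := by
      rcases hF with h | ⟨hp, -⟩
      · rw [h]; decide
      · rcases hp.eq_two_or_odd' with h2 | h2
        · exfalso
          rw [h2] at h1
          have h3 : Nat.card G ∣ 2 * (2 ^ 2 - 1) := Dvd.intro_left _ h1
          have := Nat.le_of_dvd (by norm_num) (h64'.trans h3)
          norm_num at this
        · exact h2
    have hg2 : Nat.gcd 2 (q - 1) = 2 := by
      obtain ⟨i, hi⟩ := hodd
      rw [hi, Nat.add_sub_cancel]; simp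
    rw [hg2] at h1
    have hA2 : 128 ∣ q * (q ^ 2 - 1) := h1 ▸ mul_dvd_mul (dvd_refl 2) h64'
    have hB2 : ¬ 256 ∣ q * (q ^ 2 - 1) := fun h => h128 (by
      rw [← h1] at h
      exact Nat.dvd_of_mul_dvd_mul_left (by norm_num : 0 < 2) (by norm_num; exact h))
    rcases hF with h | ⟨hp, k, h⟩
    · rw [h] at hA2
      norm_num at hA2
    · rcases Nat.lt_or_ge k 8 with hk | hk
      · rcases h with h | h
        · rw [h] at hA2 hB2 hp
          interval_cases k <;> first | (norm_num at hp; done) | (norm_num at hA2; done) | norm_num at hB2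
        · have hq' : q = 2 ^ k - 1 := by omega
          rw [hq'] at hA2 hB2 hp
          interval_cases k <;> first | (norm_num at hp; done) | (norm_num at hA2; done) | norm_num at hB2
      · apply hB2
        obtain ⟨i, rfl⟩ : ∃ i, k = 8 + i := ⟨k - 8, by omega⟩
        rw [pow_add] at h
        have hsq : q ^ 2 - 1 = (q + 1) * (q - 1) := by
          rw [show q ^ 2 - 1 = q ^ 2 - 1 ^ 2 by norm_num, Nat.sq_sub_sq]
        rw [hsq]
        refine Dvd.dvd.mul_left ?_ _
        rcases h with h | h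
        · exact Dvd.dvd.mul_left ⟨2 ^ i, by omega⟩ _
        · exact Dvd.dvd.mul_right ⟨2 ^ i, by omega⟩ _
  · exact h

end LL

end CfsgLib.L34Sylow.EndLL
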