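import Cfsg.Agent.Lib.L34Sylow.EndLLH
import Cfsg.Agent.Lib.L34Sylow.EndLLTop
import Cfsg.Agent.Lib.L34Sylow.EndLLThree
import Cfsg.Agent.Lib.L34Cent.Four

/-!
# No side small: the complement `GL₂(4)` in the normaliser of `A`
-/

set_option autoImplicit false
set_option linter.style.haveILetI false
set_option linter.unusedSectionVars false
set_option maxRecDepth 100000

namespace CfsgLib.L34Sylow.EndLL

open Cfsg Subgroup

universe u

/-- Matrices of degree two. -/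
abbrev M4 : Type := F4 × F4 × F4 × F4

/-- The determinant. -/
def mdet (M : M4) : F4 := M.1 * M.2.2.2 + M.2.1 * M.2.2.1

/-- The product. -/
def mmul (M N : M4) : M4 :=
  (M.1 * N.1 + M.2.1 * N.2.2.1, M.1 * N.2.1 + M.2.1 * N.2.2.2,
    M.2.2.1 * N.1 + M.2.2.2 * N.2.2.1, M.2.2.1 * N.2.1 + M.2.2.2 * N.2.2.2)

/-- The unit matrix. -/
def mone : M4 := (1, 0, 0, 1)

theorem mdet_mul (M N : M4) : mdet (mmul M N) = mdet M * mdet N := by
  obtain ⟨p, q, r, s⟩ := M
  obtain ⟨a, b, c, d⟩ := N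
  simp only [mdet, mmul]
  linear_combination (p * a * r * b + q * c * s * d) * (f4_char 1)

theorem mat_split : ∀ p q r s q0 : F4, p * s + q * r ≠ 0 →
    let D := p * s + q * r
    let N : M4 := (p, (p * q0 + q) / D, r, (r * q0 + s) / D)
    mdet N = 1 ∧ mmul N (1, q0, 0, D) = (p, q, r, s) := by decide +kernel

theorem det_cases : ∀ D d : F4, D ≠ 0 → d ≠ 0 → d ≠ 1 → D = 1 ∨ D = d ∨ D = d * d := by decide

theorem card_gl : Fintype.card {M : M4 // mdet M ≠ 0} = 180 := by decide +kernel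

theorem invol_conj : ∀ M : M4, mdet M ≠ 0 → M ≠ mone → mmul M M = mone →
    ∃ X : M4, mdet X ≠ 0 ∧ mmul X M = mmul (1, 1, 0, 1) X := by decide +kernel

theorem diag_of_comm : ∀ w : F4, w ≠ 0 → w ≠ 1 → ∀ M : M4,
    mmul M (w, 0, 0, w * w) = mmul (w, 0, 0, w * w) M → M.2.1 = 0 ∧ M.2.2.1 = 0 := by
  decide +kernel

set_option synthInstance.maxSize 2048 in
theorem diag_cases : ∀ w : F4, w ≠ 0 → w ≠ 1 → ∀ p d : F4, p ≠ 0 → d ≠ 0 →
    (p = 1 ∧ d = 1) ∨ (p = w ∧ d = w * w) ∨ (p = w * w ∧ d = w) ∨ p = d ∨ p = 1 ∨ d = 1 := by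
  decide

theorem diag_facts : ∀ w : F4, w ≠ 0 → w ≠ 1 → 1 + w ≠ 0 ∧ w * w ≠ 1 ∧ w * w * w = 1 ∧
    mmul (0, 1, 1, 0) (w, 0, 0, w * w) = mmul (w * w, 0, 0, w) (0, 1, 1, 0) ∧
    mmul (w, 0, 0, w * w) (w * w, 0, 0, w) = mone ∧
    mmul (w, 0, 0, w * w) (mmul (w, 0, 0, w * w) (w, 0, 0, w * w)) = mone := by decide

theorem solve_fix : ∀ w : F4, w ≠ 1 → ∀ a : F4, w * a = a → a = 0 := fun w h a => f4_line w a h

variable {G : Type u} [Group G] {S : Sylow 2 G} {φ : F4 → F4 → F4 → G}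

/-- Coordinates on the first elementary subgroup as a natural module. -/
structure Psi (φ : F4 → F4 → F4 → G) (ψ : F4 → F4 → G) : Prop where
  mul : ∀ a b a' b', ψ a b * ψ a' b' = ψ (a + a') (b + b')
  inj : ∀ a b a' b', ψ a b = ψ a' b' → a = a' ∧ b = b'
  memA : ∀ g, g ∈ SA φ ↔ ∃ a b, ψ a b = g
  memZ : ∀ g, g ∈ SZ φ ↔ ∃ a, ψ a 0 = g
  norm : ∀ n ∈ normalizer (SA φ : Set G), ∃ p q r s : F4, p * s + q * r ≠ 0 ∧
    ∀ a b, cj n (ψ a b) = ψ (p * a + q * b) (r * a + s * b)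
  sl : ∀ p q r s : F4, p * s + q * r = 1 → ∃ n ∈ normalizer (SA φ : Set G),
    ∀ a b, cj n (ψ a b) = ψ (p * a + q * b) (r * a + s * b)

/-- The action by a matrix. -/
def Acts (ψ : F4 → F4 → G) (n : G) (M : M4) : Prop :=
  ∀ a b, cj n (ψ a b) = ψ (M.1 * a + M.2.1 * b) (M.2.2.1 * a + M.2.2.2 * b)

variable {ψ : F4 → F4 → G} (P : Psi φ ψ)
include P

theorem Psi.one : ψ 0 0 = 1 := by
  have := P.mul 0 0 0 0
  rw [add_zero] at this
  exact mul_eq_left.1 this

theorem Psi.sq (a b : F4) : ψ a b * ψ a b = 1 := by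
  rw [P.mul, f4_char, f4_char, P.one]

theorem Psi.inv (a b : F4) : (ψ a b)⁻¹ = ψ a b := inv_eq_of_mul_eq_one_right (P.sq a b)

theorem Psi.ord {a b : F4} (h : (a, b) ≠ (0, 0)) : orderOf (ψ a b) = 2 :=
  orderOf_eq_prime (p := 2) (by rw [pow_two, P.sq]) fun e =>
    h (Prod.ext_iff.2 (P.inj _ _ _ _ (e.trans P.one.symm)))

theorem Psi.acts_mul {n n' : G} {M N : M4} (h : Acts ψ n M) (h' : Acts ψ n' N) :
    Acts ψ (n * n') (mmul M N) := by
  intro a b
  have e1 := h' a b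
  have e2 := h (N.1 * a + N.2.1 * b) (N.2.2.1 * a + N.2.2.2 * b)
  simp only [cj] at e1 e2 ⊢
  rw [show n * n' * ψ a b * (n * n')⁻¹ = n * (n' * ψ a b * n'⁻¹) * n⁻¹ by group, e1, e2]
  simp only [mmul]
  congr 1 <;> ring

theorem Psi.acts_one : Acts ψ (1 : G) mone := by intro a b; simp [cj, mone]

theorem Psi.acts_uniq {n : G} {M N : M4} (h : Acts ψ n M) (h' : Acts ψ n N) : M = N := by
  obtain ⟨p, q, r, s⟩ := M
  obtain ⟨p', q', r', s'⟩ := N
  have h1 := P.inj _ _ _ _ ((h 1 0).symm.trans (h' 1 0))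
  have h2 := P.inj _ _ _ _ ((h 0 1).symm.trans (h' 0 1))
  simp only [mul_one, mul_zero, add_zero, zero_add] at h1 h2
  rw [h1.1, h1.2, h2.1, h2.2]

theorem Psi.acts_of_A {g : G} (hg : g ∈ SA φ) : Acts ψ g mone := by
  intro a b
  obtain ⟨a', b', rfl⟩ := (P.memA g).1 hg
  rw [cj, P.inv, P.mul, P.mul]
  simp only [mone, one_mul, zero_mul, add_zero, zero_add]
  congr 1
  · rw [add_comm a', add_assoc, f4_char, add_zero]
  · rw [add_comm b', add_assoc, f4_char, add_zero]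

variable (D : LL S φ)
include D

theorem Psi.same [Finite G] {n n' : G} (hn : n ∈ normalizer (SA φ : Set G))
    (hn' : n' ∈ normalizer (SA φ : Set G)) {M : M4} (h : Acts ψ n M) (h' : Acts ψ n' M) :
    n⁻¹ * n' ∈ SA φ := by
  have := h
  refine LL.centralizer_SA D (mem_centralizer_iff.2 fun v hv => ?_)
  obtain ⟨a, b, rfl⟩ := (P.memA v).1 hv
  have e := (h' a b).trans (h a b).symm
  simp only [cj] at e
  calc ψ a b * (n⁻¹ * n') = n⁻¹ * (n * ψ a b * n⁻¹) * n' := by group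
    _ = _ := by rw [← e]; group

variable [Finite G] {h : G} {l m : F4} (E : HElt φ h l m)
include E

theorem Psi.exists_acts (M : M4) (hM : mdet M ≠ 0) :
    ∃ n ∈ normalizer (SA φ : Set G), Acts ψ n M := by
  have hN : h ∈ normalizer (SA φ : Set G) := D.facts.norm_A (D.cz_le h E.mem)
  obtain ⟨p₀, q₀, r₀, s₀, hdet, hact⟩ := P.norm h hN
  -- it fixes the centre and moves the quotient
  obtain ⟨c, hc⟩ := D.hS.mem_SZ.1 ((P.memZ _).2 ⟨1, rfl⟩)
  have hfix : cj h (ψ 1 0) = ψ 1 0 := by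
    rw [← hc, cj, (D.comm_hZ E c).eq, mul_inv_cancel_right]
  rw [hact] at hfix
  obtain ⟨hp, hr⟩ := P.inj _ _ _ _ hfix
  simp only [mul_one, mul_zero, add_zero] at hp hr
  subst hp hr
  rw [mul_zero, add_zero, one_mul] at hdet
  have hs1 : s₀ ≠ 1 := by
    intro e
    obtain ⟨a, c', hac⟩ := D.hS.mem_SA.1 ((P.memA (ψ 0 1)).2 ⟨0, 1, rfl⟩)
    have h1 := hact 0 1
    simp only [mul_zero, mul_one, zero_add, e] at h1
    have h2 : cj h (ψ 0 1) * ψ 0 1 ∈ SZ φ :=
      (P.memZ _).2 ⟨q₀, by rw [h1, P.mul, add_zero, f4_char]⟩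
    obtain ⟨d, hd⟩ := E.scal.2.2.1 a 0
    have h3 : cj h (ψ 0 1) = φ (l * a) 0 (d + c') := by
      have hz := E.scal.2.2.2 c'
      simp only [cj] at hd hz ⊢
      rw [E.lm, one_mul] at hz
      rw [← hac, D.hS.split a 0 c', ← conj_mul, hd, hz, D.hS.mul]
      simp
    rw [h3, ← hac, D.hS.mul] at h2
    obtain ⟨c'', hc''⟩ := D.hS.mem_SZ.1 h2
    have hla := (D.hS.inj _ _ _ _ _ _ hc'').1
    have ha : a = 0 := f4_line l a E.ne (by
      have := congrArg (· + a) hla.symm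
      simpa [add_assoc, f4_char] using this)
    rw [ha] at hac
    obtain ⟨a', ha'⟩ := (P.memZ _).1 (D.hS.mem_SZ.2 ⟨c', hac⟩)
    exact absurd (P.inj _ _ _ _ ha').2 (by decide)
  have h1 : Acts ψ h (1, q₀, 0, s₀) := hact
  obtain ⟨p, q, r, s⟩ := M
  change p * s + q * r ≠ 0 at hM
  rcases det_cases (p * s + q * r) s₀ hM hdet hs1 with e | e | e
  · exact P.sl p q r s e
  · obtain ⟨d1, d2⟩ := mat_split p q r s q₀ hM
    obtain ⟨n, hn, hna⟩ := P.sl _ _ _ _ d1
    refine ⟨n * h, mul_mem hn hN, ?_⟩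
    have := P.acts_mul (M := (_, _, _, _)) hna h1
    rw [← e] at this
    exact d2 ▸ this
  · obtain ⟨d1, d2⟩ := mat_split p q r s (q₀ + q₀ * s₀) hM
    obtain ⟨n, hn, hna⟩ := P.sl _ _ _ _ d1
    refine ⟨n * (h * h), mul_mem hn (mul_mem hN hN), ?_⟩
    have h2 := P.acts_mul h1 h1
    simp only [mmul, one_mul, zero_mul, mul_zero, add_zero, zero_add] at h2
    have := P.acts_mul (M := (_, _, _, _)) hna h2
    rw [← e] at this
    exact d2 ▸ this

/-- The scalar element. -/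
theorem Psi.exists_scalar : ∃ s ∈ normalizer (SA φ : Set G), Acts ψ s (l, 0, 0, l) ∧ s ^ 3 = 1 := by
  have hl := E.scal.1
  obtain ⟨n, hn, hna⟩ := P.exists_acts D E (l, 0, 0, l) (by
    simpa [mdet] using mul_ne_zero hl hl)
  have hl3 := f4_cube l hl
  have h2 := P.acts_mul hna hna
  have h3 := P.acts_mul h2 hna
  have e3 : mmul (mmul (l, 0, 0, l) (l, 0, 0, l)) (l, 0, 0, l) = mone := by
    simp [mmul, mone, hl3]
  rw [e3] at h3
  have hA : n * n * n ∈ SA φ := by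
    have := P.same D (one_mem _) (mul_mem (mul_mem hn hn) hn) P.acts_one h3
    simpa using this
  have h6 : (n ^ 3) * n ^ 3 = 1 := by
    obtain ⟨a, b, hab⟩ := (P.memA _).1 hA
    rw [show n ^ 3 = n * n * n by rw [pow_succ, pow_two], ← hab, P.sq]
  refine ⟨n ^ 4, pow_mem hn 4, ?_, ?_⟩
  · have := P.acts_mul h3 hna
    rw [show n ^ 4 = n * n * n * n by rw [pow_succ, pow_succ, pow_two]]
    convert this using 1
    simp [mmul, mone]
  · rw [← pow_mul, show 4 * 3 = 3 + 3 + (3 + 3) by norm_num, pow_add, pow_add, h6, one_mul]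

variable {s : G} (hsN : s ∈ normalizer (SA φ : Set G)) (hs : Acts ψ s (l, 0, 0, l))
include hsN hs

theorem Psi.comm_uniq {n n' : G} (hn : n ∈ normalizer (SA φ : Set G))
    (hn' : n' ∈ normalizer (SA φ : Set G)) (hc : Commute n s) (hc' : Commute n' s) {M : M4}
    (h : Acts ψ n M) (h' : Acts ψ n' M) : n = n' := by
  obtain ⟨a, b, hab⟩ := (P.memA _).1 (P.same D hn hn' h h')
  have hfix : cj s (ψ a b) = ψ a b := by
    rw [cj, hab, ← ((hc.inv_left).mul_left hc').eq, mul_inv_cancel_right]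
  rw [hs] at hfix
  obtain ⟨h1, h2⟩ := P.inj _ _ _ _ hfix
  simp only [zero_mul, add_zero, zero_add] at h1 h2
  rw [solve_fix l E.ne a h1, solve_fix l E.ne b h2, P.one] at hab
  exact inv_mul_eq_one.1 hab.symm

theorem Psi.exists_comm (M : M4) (hM : mdet M ≠ 0) :
    ∃ n ∈ normalizer (SA φ : Set G), Commute n s ∧ Acts ψ n M := by
  obtain ⟨n, hn, hna⟩ := P.exists_acts D E M hM
  have h1 := P.acts_mul hna hs
  have h2 := P.acts_mul hs hna
  have e : mmul M (l, 0, 0, l) = mmul (l, 0, 0, l) M := by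
    obtain ⟨p, q, r, t⟩ := M
    simp only [mmul, mul_zero, zero_mul, add_zero, zero_add]
    simp only [mul_comm]
  rw [e] at h1
  have hd := P.same D (mul_mem hsN hn) (mul_mem hn hsN) h2 h1
  -- `n s = s n c`
  obtain ⟨a, b, hab⟩ := (P.memA _).1 hd
  have hl1 : (1 : F4) + l * l ≠ 0 := by
    intro h0
    exact absurd (f4_sq_eq_one l (by linear_combination h0 - f4_char (1 : F4))) E.ne
  -- correct it on the right
  refine ⟨n * ψ (a / (1 + l * l)) (b / (1 + l * l)), mul_mem hn (le_normalizer ((P.memA _).2 ⟨_, _, rfl⟩)),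
    ?_, ?_⟩
  · set a' := a / (1 + l * l) with ha'
    set b' := b / (1 + l * l) with hb'
    have hcj : s * ψ a' b' * s⁻¹ = ψ (l * a') (l * b') := by
      have := hs a' b'
      simpa [cj] using this
    have hns : n * s = s * n * ψ a b := by rw [hab]; group
    have e1 : (1 + l * l) * a' = a := mul_div_cancel₀ a hl1
    have e2 : (1 + l * l) * b' = b := mul_div_cancel₀ b hl1
    show n * ψ a' b' * s = s * (n * ψ a' b')
    have hn1 : s⁻¹ * ψ a' b' * s = ψ (l * l * a') (l * l * b') := by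
      have h3 := hs (l * l * a') (l * l * b')
      simp only [cj, zero_mul, add_zero, zero_add, ← mul_assoc, f4_cube l E.scal.1, one_mul] at h3
      rw [← h3]; group
    calc n * ψ a' b' * s = n * s * (s⁻¹ * ψ a' b' * s) := by group
      _ = s * n * (ψ a b * ψ (l * l * a') (l * l * b')) := by rw [hn1, hns, mul_assoc (s * n)]
      _ = s * n * ψ a' b' := by
        rw [P.mul, ← e1, ← e2]
        have key : ∀ x y : F4, (1 + x * x) * y + x * x * y = y := by decide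
        congr 2 <;> rw [key l _]
      _ = _ := by group
  · intro x y
    have := P.acts_mul hna (P.acts_of_A ((P.memA _).2 ⟨a / (1 + l * l), b / (1 + l * l), rfl⟩)) x y
    rw [show mmul M mone = M by simp [mmul, mone]] at this
    exact this

end CfsgLib.L34Sylow.EndLL
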