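import Cfsg.Agent.Lib.L34Sylow.Fusion
import Cfsg.Agent.Lib.Involutions.StrongEmb

/-!
# Both sides small: the Sylow subgroup is normal (piece 8a)
-/

set_option autoImplicit false
set_option linter.style.haveILetI false
set_option linter.unusedSectionVars false

namespace CfsgLib.L34Sylow

open Cfsg Subgroup

universe u

variable {G : Type u} [Group G] [Finite G] {S : Sylow 2 G} {φ : F4 → F4 → F4 → G}

namespace EndSS

/-- In a group of order twelve with one class of involutions, all with centraliser of order four,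
a Klein four subgroup is normal. -/
theorem normal_of_twelve {M : Type u} [Group M] [Finite M] {P : Subgroup M} (hP : KHyp P)
    (h12 : Nat.card M = 12) (hcz : ∀ v : M, orderOf v = 2 → Nat.card (cz v) = 4) : P.Normal := by
  classical
  haveI := hP.klein
  have h4 : Nat.card P = 4 := hP.klein.card_four
  have hord : ∀ x : P, x ≠ 1 → orderOf (x : M) = 2 := fun x hx => by
    rw [orderOf_coe]
    exact orderOf_eq_prime (by rw [pow_two, IsKleinFour.mul_self]) hx
  obtain ⟨v, hv⟩ : ∃ v : P, v ≠ 1 := by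
    haveI : Nontrivial P := Finite.one_lt_card_iff_nontrivial.1 (by omega)
    exact exists_ne 1
  let f : {x : P // x ≠ 1} → {y : M // IsConj (v : M) y} :=
    fun x => ⟨x.1, hP.one _ _ (hord v hv) (hord _ x.2)⟩
  have hf : Function.Bijective f := by
    refine (Nat.bijective_iff_injective_and_card f).2 ⟨fun x y e => ?_, ?_⟩
    · exact Subtype.ext (Subtype.ext (congrArg (fun z : {y : M // IsConj (v : M) y} => (z : M)) e))
    · have h1 : Nat.card {x : P // x ≠ 1} = 3 := by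
        haveI := Fintype.ofFinite P
        rw [Nat.card_eq_fintype_card, Fintype.card_subtype_compl, ← Nat.card_eq_fintype_card, h4,
          Fintype.card_subtype_eq]
      have h2 := Involutions.card_conjugates_mul (v : M)
      rw [h12, hcz _ (hord v hv)] at h2
      omega
  refine ⟨fun x hx g => ?_⟩
  by_cases hx1 : x = 1
  · simp [hx1]
  have hc : IsConj (v : M) (g * x * g⁻¹) :=
    (hP.one _ _ (hord v hv) (hord ⟨x, hx⟩ (fun e => hx1 (congrArg Subtype.val e)))).trans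
      (isConj_iff.2 ⟨g, rfl⟩)
  obtain ⟨⟨y, hy⟩, hyx⟩ := hf.2 ⟨_, hc⟩
  rw [← show ((y : P) : M) = g * x * g⁻¹ from congrArg Subtype.val hyx]
  exact y.2

/-- The centraliser of an involution of a small side fixes the centre. -/
theorem cz_le (hF : Facts S φ) (hB : SmallB φ) (hcores : CoresTrivial G) {t : G}
    (ht : t ∈ SA φ) (ht1 : t ≠ 1) (hg : TGood S φ t) : cz t ≤ normalizer (SZ φ : Set G) := by
  have hA : SA φ ≤ normalizer (SZ φ : Set G) := (hF.le_A.trans le_normalizer).trans hF.norm_Z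
  have hcore : core t = ⊥ := hcores t (orderOf_eq_prime (hF.elem_A.2 t ht) ht1)
  rcases hg with e | ⟨A₀, L, M, _, _, π, hT, hM, hv⟩
  · rw [e, hcore, bot_sup_eq]
    exact hA
  have h12 : Nat.card M = 12 := hM.elim id fun h => absurd hB h.2
  have hn := normal_of_twelve hT.khyp h12 hv
  have hπ : Function.Injective π := by
    rw [← π.ker_eq_bot_iff, hT.ker, hcore, bot_subgroupOf]
  haveI : ((SZ φ).subgroupOf L).Normal := by
    have := hn.comap π
    rwa [comap_map_eq_self_of_injective hπ] at this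
  rw [← hT.sup]
  exact sup_le ((normal_subgroupOf_iff_le_normalizer hT.Z_le).1 this) (hT.le₀.trans hA)

variable (hFs : StmtFacts.{u}) (hCZ : StmtCentZ.{u}) (h : Setup S φ) (hA : Small φ) (hB : SmallB φ)
  (hg : AllGood S φ) (hcores : CoresTrivial G)
include hFs hCZ h hA hB hg hcores

theorem cz_le_normalizer {z : G} (hz : z ∈ SZ φ) (hz1 : z ≠ 1) :
    cz z ≤ normalizer (S : Set G) := by
  intro g hgz
  obtain ⟨x, hx, n, hn, -, rfl⟩ := hCZ hFs G S φ h z hz hz1 g hgz
  rw [hcores z (orderOf_eq_prime ((hFs G S φ h).elem_A.2 z (h.SZ_le_SA hz)) hz1), mem_bot] at hx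
  rwa [hx, one_mul]

theorem cz_le_norm_Z {x : G} (hx : x ∈ SA φ ∨ x ∈ SB φ) (hx1 : x ≠ 1) :
    cz x ≤ normalizer (SZ φ : Set G) := by
  have hF := hFs G S φ h
  by_cases hz : x ∈ SZ φ
  · exact (cz_le_normalizer hFs hCZ h hA hB hg hcores hz hx1).trans hF.norm_Z
  rcases hx with hx | hx
  · exact cz_le hF hB hcores hx hx1 (hg.1 hA x hx hz)
  · have := cz_le (hFs G S (swap φ) h.swap) ((smallB_swap φ).2 hA) hcores
      (t := x) (by rwa [SA_swap]) hx1 (hg.2 hB x hx hz)
    rwa [SZ_swap] at this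

theorem norm_Z_eq_top : normalizer (SZ φ : Set G) = ⊤ := by
  haveI : Fact (Nat.Prime 2) := ⟨Nat.prime_two⟩
  have hF := hFs G S φ h
  set H := normalizer (SZ φ : Set G) with hH
  have hSH : (S : Subgroup G) ≤ H := le_normalizer.trans hF.norm_Z
  have hNZ : normalizer (S : Set G) ≤ H := hF.norm_Z
  by_contra htop
  have hmove : ∀ t ∈ H, orderOf t = 2 → ∃ c ∈ H, (cj c t ∈ SA φ ∨ cj c t ∈ SB φ) ∧ cj c t ≠ 1 := by
    intro t ht ht2
    have hp : IsPGroup 2 (zpowers t) :=
      IsPGroup.of_card (n := 1) (by rw [Nat.card_zpowers, ht2, pow_one])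
    obtain ⟨c, hc, T, -, hT, hTt, hTS⟩ :=
      exists_common (zpowers_le.2 ht) hSH hp S.2
    rw [S.is_maximal' hT hTS] at hTt
    have h2 : orderOf (cj c t) = 2 := Involutions.conj_invol c ht2
    refine ⟨c, hc, h.invol _ (hTt (cj_mem_cjS (mem_zpowers t))) ?_, fun e => ?_⟩
    · rw [← pow_two, ← h2, pow_orderOf_eq_one]
    · rw [e, orderOf_one] at h2
      omega
  have hctrl : ∀ x y : G, (x ∈ SA φ ∨ x ∈ SB φ) → (y ∈ SA φ ∨ y ∈ SB φ) → x ≠ 1 → y ≠ 1 →
      ∀ g : G, cj g x = y → g ∈ H := by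
    intro x y hx hy hx1 hy1 g hgx
    have hfin : ∀ n ∈ H, cj n x = y → g ∈ H := by
      intro n hn hnx
      have : n⁻¹ * g ∈ H := cz_le_norm_Z hFs hCZ h hA hB hg hcores hx hx1
        (Involutions.conj_eq_iff_inv_mul_mem.1 (hgx.trans hnx.symm))
      simpa using mul_mem hn this
    have hzt : ∀ v ∈ SZ φ, v ≠ 1 → ∀ w, IsConj v w → ZType φ w := by
      intro v hv hv1 w hvw
      obtain ⟨c, rfl⟩ := h.mem_SZ.1 hv
      exact ⟨c, fun hc => hv1 (hc ▸ h.one), hvw⟩
    have hno : ∀ v, (v ∈ SA φ ∨ v ∈ SB φ) → v ∉ SZ φ → ¬ ZType φ v := fun v hv hv' =>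
      hv.elim (fun e => hF.not_ztype_A hA v e hv') (fun e => hF.not_ztype_B hB v e hv')
    have hc1 : IsConj x y := isConj_iff.2 ⟨g, hgx⟩
    by_cases hxz : x ∈ SZ φ
    · by_cases hyz : y ∈ SZ φ
      · obtain ⟨n, hn, e⟩ := hF.fus_Z x hxz g (hgx ▸ hyz)
        exact hfin n (hNZ hn) (e.trans hgx)
      · exact absurd (hzt x hxz hx1 y hc1) (hno y hy hyz)
    by_cases hyz : y ∈ SZ φ
    · exact absurd (hzt y hyz hy1 x hc1.symm) (hno x hx hxz)
    rcases hx with hx | hx <;> rcases hy with hy | hy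
    · obtain ⟨n, hn, e⟩ := hF.fus_A x hx g (hgx ▸ hy)
      exact hfin n (hA hn) (e.trans hgx)
    · exact absurd hc1 (hF.not_conj_AB x hx hxz y hy hyz (hno x (Or.inl hx) hxz))
    · exact absurd hc1.symm (hF.not_conj_AB y hy hyz x hx hxz (hno y (Or.inl hy) hyz))
    · obtain ⟨n, hn, e⟩ := hF.fus_B x hx g (hgx ▸ hy)
      exact hfin n (hB hn) (e.trans hgx)
  have hse : Cfsg.IsStronglyEmbedded H := by
    refine ⟨htop, ?_, fun g hgH => ?_⟩
    · refine even_iff_two_dvd.2 (dvd_trans ?_ (Subgroup.card_dvd_of_le hSH))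
      rw [hF.card_S]
      norm_num
    · rw [Involutions.odd_card_iff]
      rintro t ⟨ht1, ht2⟩ hto
      have hs : g⁻¹ * t * g ∈ H := Involutions.mem_conj_map.1 ht2
      have hso : orderOf (g⁻¹ * t * g) = 2 := by
        simpa using Involutions.conj_invol g⁻¹ hto
      obtain ⟨c, hc, hcm, hc1⟩ := hmove t ht1 hto
      obtain ⟨d, hd, hdm, hd1⟩ := hmove _ hs hso
      have h1 := hctrl _ _ hdm hcm hd1 hc1 (c * g * d⁻¹) (by simp only [cj]; group)
      apply hgH
      have h2 := mul_mem (mul_mem (inv_mem hc) h1) hd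
      rwa [show c⁻¹ * (c * g * d⁻¹) * d = g by group] at h2
  -- one class of involutions
  have hz : φ 0 0 1 ∈ SZ φ := h.mem_SZ.2 ⟨1, rfl⟩
  have ha : φ 1 0 0 ∈ SA φ := h.mem_SA.2 ⟨1, 0, rfl⟩
  have ha' : φ 1 0 0 ∉ SZ φ := fun e => by
    obtain ⟨c, hc⟩ := h.mem_SZ.1 e
    exact zero_ne_one (h.inj _ _ _ _ _ _ hc).1
  have ha2 : orderOf (φ 1 0 0) = 2 :=
    orderOf_eq_prime (hF.elem_A.2 _ ha) fun e => one_ne_zero (h.eq_one_iff.1 e).1
  exact hF.not_ztype_A hA _ ha ha'
    ⟨1, one_ne_zero, Involutions.SE.isConj hse (h.order_two one_ne_zero) ha2⟩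

end EndSS

open EndSS in
/-- Piece 8a. -/
theorem endSS : StmtEndSS.{u} := by
  intro hFs hCZ G _ _ S φ h hA hB hg hcores
  haveI : Fact (Nat.Prime 2) := ⟨Nat.prime_two⟩
  have hF := hFs G S φ h
  haveI : (SZ φ).Normal :=
    normalizer_eq_top_iff.1 (norm_Z_eq_top hFs hCZ h hA hB hg hcores)
  have hz : φ 0 0 1 ∈ SZ φ := h.mem_SZ.2 ⟨1, rfl⟩
  have hCN : centralizer (SZ φ : Set G) ≤ normalizer (S : Set G) :=
    (centralizer_le (Set.singleton_subset_iff.2 hz)).trans
      (cz_le_normalizer hFs hCZ h hA hB hg hcores hz fun e =>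
        one_ne_zero (h.eq_one_iff.1 e).2.2)
  have hSC : (S : Subgroup G) ≤ centralizer (SZ φ : Set G) := fun s hs =>
    mem_centralizer_iff.2 fun z hz' => by
      rw [SetLike.mem_coe, ← hF.center] at hz'
      exact (mem_centralizer_iff.1 hz'.2 s hs).symm
  refine ⟨fun x hx g => ?_⟩
  have h1 : cjS g (S : Subgroup G) ≤ centralizer (SZ φ : Set G) := by
    rintro _ ⟨y, hy, rfl⟩
    exact (inferInstance : (centralizer (SZ φ : Set G)).Normal).conj_mem y (hSC hy) g
  have h2 : IsPGroup 2 ↥((S : Subgroup G) ⊔ cjS g (S : Subgroup G)) :=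
    S.2.to_sup_of_normal_left' (S.2.map _) (h1.trans hCN)
  exact (S.is_maximal' h2 le_sup_left).le (mem_sup_right (cj_mem_cjS hx))

end CfsgLib.L34Sylow
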