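import Cfsg.Agent.Lib.L34Sylow.Coords

/-!
# Fusion in a Sylow subgroup of type `PSL₃(4)`
-/

set_option autoImplicit false
set_option linter.style.haveILetI false

namespace CfsgLib.L34Sylow

open Cfsg Subgroup
open scoped Pointwise

universe u

variable {G : Type u} [Group G]

/-- The conjugate `g K g⁻¹`. -/
abbrev cjS (g : G) (K : Subgroup G) : Subgroup G := K.map (MulAut.conj g).toMonoidHom

theorem mem_cjS {g x : G} {K : Subgroup G} : x ∈ cjS g K ↔ g⁻¹ * x * g ∈ K := by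
  rw [cjS, Subgroup.mem_map_equiv, MulAut.conj_symm_apply]

theorem cj_mem_cjS {g x : G} {K : Subgroup G} (hx : x ∈ K) : cj g x ∈ cjS g K :=
  ⟨x, hx, rfl⟩

theorem cjS_cjS (g k : G) (K : Subgroup G) : cjS g (cjS k K) = cjS (g * k) K := by
  ext x
  rw [mem_cjS, mem_cjS, mem_cjS, show (g * k)⁻¹ * x * (g * k) = k⁻¹ * (g⁻¹ * x * g) * k by group]

theorem cjS_eq_iff {g : G} {K : Subgroup G} : cjS g K = K ↔ g ∈ normalizer (K : Set G) :=
  mem_normalizer_iff_map_conj_eq.symm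

theorem cjS_mono {g : G} {K L : Subgroup G} (h : K ≤ L) : cjS g K ≤ cjS g L := map_mono h

theorem card_cjS (g : G) (K : Subgroup G) : Nat.card (cjS g K) = Nat.card K :=
  Subgroup.card_map_of_injective (MulAut.conj g).injective

variable [Finite G]

/-- Two `2`-subgroups of `K` are brought into a common `2`-subgroup of `K` by an element of `K`. -/
theorem exists_common {K X Y : Subgroup G} (hX : X ≤ K) (hY : Y ≤ K) (hXp : IsPGroup 2 X)
    (hYp : IsPGroup 2 Y) : ∃ c ∈ K, ∃ T : Subgroup G, T ≤ K ∧ IsPGroup 2 T ∧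
      cjS c X ≤ T ∧ Y ≤ T := by
  haveI : Fact (Nat.Prime 2) := ⟨Nat.prime_two⟩
  obtain ⟨T, hT⟩ := (hYp.comap_subtype (K := K)).exists_le_sylow
  obtain ⟨T', hT'⟩ := (hXp.comap_subtype (K := K)).exists_le_sylow
  obtain ⟨c, hc⟩ := MulAction.exists_smul_eq K T' T
  refine ⟨c, c.2, (T : Subgroup K).map K.subtype, map_subtype_le _, T.2.map _, ?_,
    fun y hy => ⟨⟨y, hY hy⟩, hT hy, rfl⟩⟩
  rintro _ ⟨x, hx, rfl⟩
  refine ⟨c * ⟨x, hX hx⟩ * c⁻¹, ?_, rfl⟩
  have h2 : MulAut.conj c • (T' : Subgroup K) = T := congrArg Sylow.toSubgroup hc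
  rw [← h2]
  exact Subgroup.smul_mem_pointwise_smul ⟨x, hX hx⟩ (MulAut.conj c) (T' : Subgroup K) (hT' hx)

/-- Every `2`-subgroup lies in a conjugate of a given Sylow subgroup. -/
theorem exists_le_cjS (S : Sylow 2 G) {X : Subgroup G} (hX : IsPGroup 2 X) :
    ∃ k, cjS k X ≤ S := by
  haveI : Fact (Nat.Prime 2) := ⟨Nat.prime_two⟩
  obtain ⟨T, hT⟩ := hX.exists_le_sylow
  obtain ⟨k, hk⟩ := MulAction.exists_smul_eq G T S
  refine ⟨k, ?_⟩
  rintro _ ⟨x, hx, rfl⟩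
  have h2 : MulAut.conj k • (T : Subgroup G) = S := congrArg Sylow.toSubgroup hk
  rw [← h2]
  exact Subgroup.smul_mem_pointwise_smul x (MulAut.conj k) (T : Subgroup G) (hT hx)

/-- A power of odd exponent of an element normalising a Sylow `2`-subgroup lies in it. -/
theorem exists_odd_pow_mem (S : Sylow 2 G) {n : G} (hn : n ∈ normalizer (S : Set G)) :
    ∃ k : ℕ, Odd k ∧ n ^ k ∈ S := by
  haveI : Fact (Nat.Prime 2) := ⟨Nat.prime_two⟩
  let N : Subgroup G := normalizer ((S : Subgroup G) : Set G)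
  have hle : (S : Subgroup G) ≤ N := le_normalizer
  haveI : ((S : Subgroup G).subgroupOf N).Normal := Subgroup.normal_in_normalizer
  refine ⟨((S : Subgroup G).subgroupOf N).index, ?_, ?_⟩
  · have h1 : ¬ 2 ∣ (S : Subgroup G).index := S.not_dvd_index
    refine Nat.not_even_iff_odd.1 fun he => h1 ?_
    exact (even_iff_two_dvd.1 he).trans (Subgroup.relIndex_dvd_index_of_le hle)
  · exact Subgroup.pow_index_mem (H := (S : Subgroup G).subgroupOf N) ⟨n, hn⟩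

variable {S : Sylow 2 G} {φ : F4 → F4 → F4 → G}

namespace Setup

variable (h : Setup S φ)
include h

omit [Finite G] in
theorem SA_ne_SB : SA φ ≠ SB φ := by
  intro e
  have h1 : φ 1 0 0 ∈ SB φ := e ▸ h.mem_SA.2 ⟨1, 0, rfl⟩
  obtain ⟨b, c, hb⟩ := h.mem_SB.1 h1
  exact zero_ne_one (h.inj _ _ _ _ _ _ hb).1

theorem elem16 {X : Subgroup G} (hX : X ≤ S) (he : ∀ x ∈ X, x * x = 1) (hc : Nat.card X = 16) :
    X = SA φ ∨ X = SB φ := by
  by_cases hA : X ≤ SA φ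
  · exact Or.inl (eq_of_le_of_card_ge hA (by rw [hc, h.card_SA]))
  by_cases hB : X ≤ SB φ
  · exact Or.inr (eq_of_le_of_card_ge hB (by rw [hc, h.card_SB]))
  exfalso
  obtain ⟨x, hx, hx'⟩ := SetLike.not_le_iff_exists.1 hA
  obtain ⟨y, hy, hy'⟩ := SetLike.not_le_iff_exists.1 hB
  have hxB := (h.invol x (hX hx) (he x hx)).resolve_left hx'
  have hyA := (h.invol y (hX hy) (he y hy)).resolve_right hy'
  rcases h.invol _ (hX (mul_mem hx hy)) (he _ (mul_mem hx hy)) with e | e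
  · exact hx' (by simpa using mul_mem e (inv_mem hyA))
  · exact hy' (by simpa using mul_mem (inv_mem hxB) e)

omit [Finite G] in
theorem sq_A {x : G} (hx : x ∈ SA φ) : x * x = 1 := by
  rw [← pow_two]
  exact h.elem_SA.2 x hx

theorem isPGroup_SA : IsPGroup 2 (SA φ) :=
  S.2.to_le h.SA_le

theorem cjS_cases {g : G} (hg : cjS g (SA φ) ≤ S) :
    cjS g (SA φ) = SA φ ∨ cjS g (SA φ) = SB φ := by
  refine h.elem16 hg ?_ (by rw [card_cjS, h.card_SA])
  rintro _ ⟨x, hx, rfl⟩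
  rw [← map_mul, h.sq_A hx, map_one]

theorem norm_SA : normalizer (S : Set G) ≤ normalizer (SA φ : Set G) := by
  intro n hn
  have key : ∀ m ∈ normalizer (S : Set G), cjS m (SA φ) = SA φ ∨ cjS m (SA φ) = SB φ := by
    intro m hm
    refine h.cjS_cases ?_
    rintro _ ⟨x, hx, rfl⟩
    exact (mem_normalizer_iff.1 hm x).1 (h.SA_le hx)
  rcases key n hn with e | e
  · exact cjS_eq_iff.1 e
  exfalso
  obtain ⟨k, hk, hkS⟩ := exists_odd_pow_mem S hn
  have hA : ∀ s ∈ S, cjS s (SA φ) = SA φ := by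
    intro s hs
    refine eq_of_le_of_card_ge ?_ (by rw [card_cjS])
    rintro _ ⟨x, hx, rfl⟩
    obtain ⟨a, b, c, rfl⟩ := h.surj s hs
    obtain ⟨a', c', rfl⟩ := h.mem_SA.1 hx
    exact h.mem_SA.2 ⟨a', _, (h.conj a b c a' 0 c').symm⟩
  -- the square of `n` fixes both
  have hB : cjS n (SB φ) = SA φ := by
    have h2 : cjS (n * n) (SA φ) = SA φ ∨ cjS (n * n) (SA φ) = SB φ := key _ (mul_mem hn hn)
    rw [← cjS_cjS, e] at h2
    refine h2.resolve_right fun e2 => h.SA_ne_SB ?_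
    have hinj : Function.Injective (cjS n) :=
      Subgroup.map_injective (MulAut.conj n).injective
    exact hinj (e.trans e2.symm)
  have hpow : ∀ i : ℕ, cjS (n ^ i) (SA φ) = if Even i then SA φ else SB φ := by
    intro i
    induction i with
    | zero => simp only [Even.zero, if_true, pow_zero]; exact cjS_eq_iff.2 (one_mem _)
    | succ i ih =>
      rw [pow_succ', ← cjS_cjS, ih]
      by_cases hi : Even i
      · rw [if_pos hi, if_neg (Nat.not_even_iff_odd.2 hi.add_one)]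
        exact e
      · rw [if_neg hi, if_pos (Nat.not_even_iff_odd.1 hi).add_one]
        exact hB
  have := hpow k
  rw [hA _ hkS, if_neg (Nat.not_even_iff_odd.2 hk)] at this
  exact h.SA_ne_SB this

theorem norm_SB : normalizer (S : Set G) ≤ normalizer (SB φ : Set G) :=
  SA_swap φ ▸ h.swap.norm_SA

theorem norm_SZ : normalizer (S : Set G) ≤ normalizer (SZ φ : Set G) := by
  intro n hn
  refine cjS_eq_iff.1 (eq_of_le_of_card_ge ?_ (by rw [card_cjS]))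
  intro y hy
  obtain ⟨x, hx, rfl⟩ := hy
  have h1 : cj n x ∈ SA φ :=
    (mem_normalizer_iff.1 (h.norm_SA hn) x).1 (h.SZ_le_SA hx)
  have h2 : cj n x ∈ SB φ :=
    (mem_normalizer_iff.1 (h.norm_SB hn) x).1 (h.SZ_le_SB hx)
  obtain ⟨a, c, ha⟩ := h.mem_SA.1 h1
  obtain ⟨b, c', hb⟩ := h.mem_SB.1 h2
  obtain ⟨rfl, -, -⟩ := h.inj _ _ _ _ _ _ (ha.trans hb.symm)
  exact h.mem_SZ.2 ⟨c, ha⟩

theorem S_le_norm_SA : (S : Subgroup G) ≤ normalizer (SA φ : Set G) :=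
  le_normalizer.trans h.norm_SA

theorem weak_SA {g : G} (hg : cjS g (SA φ) ≤ S) : cjS g (SA φ) = SA φ := by
  refine (h.cjS_cases hg).resolve_right fun e => ?_
  -- `S` and `g S g⁻¹` normalise `g A g⁻¹ = B`
  let K : Subgroup G := normalizer ((SB φ : Subgroup G) : Set G)
  have h1 : (S : Subgroup G) ≤ K := le_normalizer.trans h.norm_SB
  have h2 : cjS g S ≤ K := by
    rintro _ ⟨s, hs, rfl⟩
    refine cjS_eq_iff.1 ?_
    show cjS (g * s * g⁻¹) (SB φ) = SB φ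
    have h4 : cjS g⁻¹ (SB φ) = SA φ := by
      rw [← e, cjS_cjS, inv_mul_cancel]
      exact cjS_eq_iff.2 (one_mem _)
    rw [← cjS_cjS, h4, ← cjS_cjS, cjS_eq_iff.2 (h.S_le_norm_SA hs), e]
  obtain ⟨c, hc, T, -, hT, hTg, hTS⟩ := exists_common h2 h1 (S.2.map _) S.2
  have hTe : T = S := S.is_maximal' hT hTS
  rw [cjS_cjS, hTe] at hTg
  have hn : c * g ∈ normalizer (S : Set G) :=
    cjS_eq_iff.1 (eq_of_le_of_card_ge hTg (by rw [card_cjS]))
  have h5 := cjS_eq_iff.2 (h.norm_SA hn)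
  rw [← cjS_cjS, e, cjS_eq_iff.2 hc] at h5
  exact h.SA_ne_SB h5.symm

theorem fus_SA : ∀ x ∈ SA φ, ∀ g : G, cj g x ∈ SA φ →
    ∃ n ∈ normalizer (SA φ : Set G), cj n x = cj g x := by
  intro x hx g hgx
  have h1 : cjS g (SA φ) ≤ cz (cj g x) := by
    rintro _ ⟨a, ha, rfl⟩
    rw [Involutions.mem_centralizer_singleton]
    have hc : Commute x a := by
      haveI := h.elem_SA.1
      exact congrArg Subtype.val (IsMulCommutative.is_comm.comm (⟨x, hx⟩ : SA φ) ⟨a, ha⟩)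
    exact hc.map (MulAut.conj g).toMonoidHom
  have h2 : SA φ ≤ cz (cj g x) := fun a ha => by
    rw [Involutions.mem_centralizer_singleton]
    haveI := h.elem_SA.1
    exact congrArg Subtype.val (IsMulCommutative.is_comm.comm (⟨cj g x, hgx⟩ : SA φ) ⟨a, ha⟩)
  obtain ⟨c, hc, T, -, hT, hTg, hTA⟩ := exists_common h1 h2 (h.isPGroup_SA.map _) h.isPGroup_SA
  rw [cjS_cjS] at hTg
  obtain ⟨k, hk⟩ := exists_le_cjS S hT
  have e1 := h.weak_SA ((cjS_mono hTA).trans hk)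
  have e2 := h.weak_SA (g := k * (c * g)) (by rw [← cjS_cjS]; exact (cjS_mono hTg).trans hk)
  refine ⟨c * g, cjS_eq_iff.1 ?_, ?_⟩
  · rw [← cjS_cjS k] at e2
    exact Subgroup.map_injective (MulAut.conj k).injective (e2.trans e1.symm)
  · rw [Involutions.mem_centralizer_singleton] at hc
    show c * g * x * (c * g)⁻¹ = g * x * g⁻¹
    rw [show c * g * x * (c * g)⁻¹ = c * (g * x * g⁻¹) * c⁻¹ by group]
    exact mul_inv_eq_iff_eq_mul.2 hc.eq.symm

theorem fus_SZ : ∀ x ∈ SZ φ, ∀ g : G, cj g x ∈ SZ φ →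
    ∃ n ∈ normalizer (S : Set G), cj n x = cj g x := by
  intro x hx g hgx
  haveI : Fact (Nat.Prime 2) := ⟨Nat.prime_two⟩
  have key : ∀ y ∈ SZ φ, y ∈ centralizer ((S : Subgroup G) : Set G) := fun y hy =>
    ((h.center_eq ▸ hy : y ∈ (S : Subgroup G) ⊓ centralizer (S : Set G))).2
  obtain ⟨n, hn, e⟩ := S.conj_eq_normalizer_conj_of_mem_centralizer x g⁻¹ (key x hx)
    (by rw [inv_inv]; exact key _ hgx)
  refine ⟨n⁻¹, inv_mem hn, ?_⟩
  simp only [inv_inv] at e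
  show n⁻¹ * x * n⁻¹⁻¹ = g * x * g⁻¹
  rw [inv_inv, e]

omit [Finite G] in
theorem order_two {c : F4} (hc : c ≠ 0) : orderOf (φ 0 0 c) = 2 :=
  orderOf_eq_prime (by rw [pow_two, h.sq, mul_zero, h.one]) fun e => hc (h.eq_one_iff.1 e).2.2

theorem not_ztype_SA : Small φ → ∀ t ∈ SA φ, t ∉ SZ φ → ¬ ZType φ t := by
  rintro hs t ht ht' ⟨c, -, hz⟩
  obtain ⟨g, hg⟩ := isConj_iff.1 hz
  have hzm : φ 0 0 c ∈ SZ φ := h.mem_SZ.2 ⟨c, rfl⟩
  obtain ⟨n, hn, e⟩ := h.fus_SA _ (h.SZ_le_SA hzm) g (by rw [cj, hg]; exact ht)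
  have h1 := (mem_normalizer_iff.1 (hs hn) _).1 hzm
  exact ht' (hg ▸ (e ▸ h1 : cj g (φ 0 0 c) ∈ SZ φ))

theorem two_part_SA : ∀ t ∈ SA φ, t ∉ SZ φ → ¬ ZType φ t → ¬ 32 ∣ Nat.card (cz t) := by
  intro t ht ht' hz h32
  haveI : Fact (Nat.Prime 2) := ⟨Nat.prime_two⟩
  have hA : SA φ ≤ cz t := fun a ha => by
    rw [Involutions.mem_centralizer_singleton]
    haveI := h.elem_SA.1
    exact congrArg Subtype.val (IsMulCommutative.is_comm.comm (⟨t, ht⟩ : SA φ) ⟨a, ha⟩)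
  obtain ⟨T, hT⟩ := (h.isPGroup_SA.comap_subtype (K := cz t)).exists_le_sylow
  have hT32 : 32 ≤ Nat.card ((T : Subgroup (cz t)).map (cz t).subtype) := by
    rw [Subgroup.card_map_of_injective (cz t).subtype_injective]
    exact Nat.le_of_dvd Nat.card_pos
      ((show (32 : ℕ) = 2 ^ 5 by norm_num) ▸ T.pow_dvd_card_of_pow_dvd_card
        ((show (32 : ℕ) = 2 ^ 5 by norm_num) ▸ h32))
  obtain ⟨k, hk⟩ := exists_le_cjS S (T.2.map (cz t).subtype)
  have e1 : cjS k (SA φ) = SA φ := h.weak_SA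
    ((cjS_mono (g := k) (fun a ha => (⟨⟨a, hA ha⟩, hT ha, rfl⟩ :
      a ∈ (T : Subgroup (cz t)).map (cz t).subtype))).trans hk)
  have ht2 : cj k t ∈ SA φ := e1 ▸ cj_mem_cjS ht
  by_cases hZ : cj k t ∈ SZ φ
  · obtain ⟨c, hc⟩ := h.mem_SZ.1 hZ
    refine hz ⟨c, fun hc0 => ?_, isConj_iff.2 ⟨k⁻¹, ?_⟩⟩
    · subst hc0
      rw [h.one, eq_comm, cj, conj_eq_one_iff] at hc
      exact ht' (hc ▸ one_mem _)
    · rw [hc]
      simp [cj, mul_assoc]
  · have h3 : cjS k ((T : Subgroup (cz t)).map (cz t).subtype) ≤ (S : Subgroup G) ⊓ cz (cj k t) := by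
      refine le_inf hk ?_
      rintro _ ⟨y, ⟨⟨y', hy'⟩, -, rfl⟩, rfl⟩
      rw [Involutions.mem_centralizer_singleton] at hy' ⊢
      exact hy'.map (MulAut.conj k).toMonoidHom
    rw [h.cent_SA _ ht2 hZ] at h3
    have h4 := Nat.le_of_dvd Nat.card_pos (Subgroup.card_dvd_of_le h3)
    rw [card_cjS, h.card_SA] at h4
    omega

theorem not_conj_SA_SB : ∀ a ∈ SA φ, a ∉ SZ φ → ∀ b ∈ SB φ, b ∉ SZ φ → ¬ ZType φ a →
    ¬ IsConj a b := by
  intro a ha ha' b hb hb' hz hab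
  obtain ⟨g, rfl⟩ := isConj_iff.1 hab
  have hzb : ¬ ZType φ (g * a * g⁻¹) := fun ⟨c, hc, hcz⟩ =>
    hz ⟨c, hc, hcz.trans (isConj_iff.2 ⟨g, rfl⟩).symm⟩
  have h1 : cjS g (SA φ) ≤ cz (g * a * g⁻¹) := by
    rintro _ ⟨x, hx, rfl⟩
    rw [Involutions.mem_centralizer_singleton]
    haveI := h.elem_SA.1
    exact (show Commute a x from
      congrArg Subtype.val (IsMulCommutative.is_comm.comm (⟨a, ha⟩ : SA φ) ⟨x, hx⟩)).map
      (MulAut.conj g).toMonoidHom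
  have h2 : SB φ ≤ cz (g * a * g⁻¹) := fun y hy => by
    rw [Involutions.mem_centralizer_singleton]
    haveI := h.elem_SB.1
    exact congrArg Subtype.val (IsMulCommutative.is_comm.comm (⟨_, hb⟩ : SB φ) ⟨y, hy⟩)
  obtain ⟨c, hc, T, hTK, hT, hTg, hTB⟩ :=
    exists_common h1 h2 (h.isPGroup_SA.map _) (S.2.to_le h.SB_le)
  have hbz := h.swap.two_part_SA (g * a * g⁻¹) (by rwa [SA_swap]) (by rwa [SZ_swap])
    (fun e => hzb ((ztype_swap φ _).1 e))
  haveI : Fact (Nat.Prime 2) := ⟨Nat.prime_two⟩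
  obtain ⟨i, hi⟩ := IsPGroup.iff_card.1 hT
  have hi4 : i ≤ 4 := by
    by_contra hlt
    exact hbz (((show (32 : ℕ) = 2 ^ 5 by norm_num) ▸ pow_dvd_pow 2 (by omega : 5 ≤ i)).trans
      (hi ▸ Subgroup.card_dvd_of_le hTK))
  have hT16 : Nat.card T ≤ 16 := hi ▸ (Nat.pow_le_pow_right (by norm_num) hi4).trans (by norm_num)
  have e1 := eq_of_le_of_card_ge hTB (by rw [h.card_SB]; exact hT16)
  have e2 := eq_of_le_of_card_ge hTg (by rw [card_cjS, card_cjS, h.card_SA]; exact hT16)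
  rw [cjS_cjS, ← e1] at e2
  have e3 := h.weak_SA (g := c * g) (e2 ▸ h.SB_le)
  exact h.SA_ne_SB (e3.symm.trans e2)

theorem exists_conj_invol : ∀ g : G, orderOf g = 2 → ∃ x, (x ∈ SA φ ∨ x ∈ SB φ) ∧ IsConj x g := by
  intro g hg
  haveI : Fact (Nat.Prime 2) := ⟨Nat.prime_two⟩
  have hp : IsPGroup 2 (zpowers g) := IsPGroup.of_card (n := 1) (by rw [Nat.card_zpowers, hg, pow_one])
  obtain ⟨k, hk⟩ := exists_le_cjS S hp
  refine ⟨cj k g, h.invol _ (hk (cj_mem_cjS (mem_zpowers g))) ?_, isConj_iff.2 ⟨k⁻¹, by simp [cj, mul_assoc]⟩⟩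
  have : g * g = 1 := by rw [← pow_two, ← hg, pow_orderOf_eq_one]
  rw [show cj k g * cj k g = k * (g * g) * k⁻¹ by simp [cj, mul_assoc], this]
  group

end Setup

end CfsgLib.L34Sylow
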