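import Cfsg.Agent.Lib.L34Sylow.IndexFourAct
import Cfsg.Agent.Lib.Base.Cores
import Cfsg.Agent.S4216

/-!
# Both sides small and only the second quotient moved: the Sylow subgroup is normal (piece 6b)
-/

set_option autoImplicit false
set_option linter.style.haveILetI false
set_option linter.unusedSectionVars false

namespace CfsgLib.L34Sylow

open Cfsg Subgroup

universe u

variable {G : Type u} [Group G] [Finite G] {S : Sylow 2 G} {φ : F4 → F4 → F4 → G}

namespace IndexFour

theorem coe_mem_normalizer {A C : Subgroup G} (hAC : A ≤ C) {n : C}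
    (hn : n ∈ normalizer ((A.subgroupOf C : Subgroup C) : Set C)) :
    (n : G) ∈ normalizer (A : Set G) := by
  refine mem_normalizer_iff.2 fun x => ⟨fun hx => ?_, fun hx => ?_⟩
  · have := ((mem_normalizer_iff.1 hn) ⟨x, hAC hx⟩).1 (mem_subgroupOf.2 hx)
    simpa [mem_subgroupOf] using this
  · have hxC : x ∈ C := by
      have := mul_mem (mul_mem (inv_mem n.2) (hAC hx)) n.2
      rwa [show (n : G)⁻¹ * ((n : G) * x * (n : G)⁻¹) * n = x by group] at this
    exact mem_subgroupOf.1 (((mem_normalizer_iff.1 hn) ⟨x, hxC⟩).2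
      (by simpa [mem_subgroupOf] using hx))

variable (h : Setup S φ) (hF : Facts S φ) (hA : Small φ) (hB : SmallB φ) (hmu : HasMu S φ)
  (hlam : ¬ HasLam S φ)
include h hF hA hB hmu hlam

/-- The centre is strongly closed. -/
theorem zclosed {v : G} (hv : v ∈ SZ φ) {g : G} (hgv : cj g v ∈ S) : cj g v ∈ SZ φ := by
  by_cases hv1 : v = 1
  · simp [cj, hv1]
  obtain ⟨c, rfl⟩ := h.mem_SZ.1 hv
  have hc : c ≠ 0 := fun e => hv1 (e ▸ h.one)
  have hzt : ZType φ (cj g (φ 0 0 c)) := ⟨c, hc, isConj_iff.2 ⟨g, rfl⟩⟩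
  have hsq : cj g (φ 0 0 c) * cj g (φ 0 0 c) = 1 := by
    rw [← cj_map_mul, h.sq, mul_zero, h.one]
    simp [cj]
  by_contra hno
  rcases hF.invol _ hgv hsq with e | e
  · exact hF.not_ztype_A hA _ e hno hzt
  · exact hF.not_ztype_B hB _ e hno hzt

/-- Modulo `B` the Sylow subgroup is central in its normaliser. -/
theorem comm_mem_B {n s : G} (hn : n ∈ normalizer (S : Set G)) (hs : s ∈ S) :
    (n * s)⁻¹ * (s * n) ∈ SB φ := by
  obtain ⟨m, hm⟩ := exists_scal h hF hmu hlam (inv_mem hn)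
  obtain ⟨a, b, c, rfl⟩ := h.surj s hs
  obtain ⟨d, hd⟩ := hm.2.2.1 a b
  have e : cj n⁻¹ (φ a b c) = φ a (m * b) (d + m * c) := by
    rw [h.split, cj_map_mul, hd, hm.2.2.2, h.mul]
    simp
  rw [show (n * φ a b c)⁻¹ * (φ a b c * n) = (φ a b c)⁻¹ * cj n⁻¹ (φ a b c) by
    simp only [cj]; group, e, h.inv, h.mul]
  exact h.mem_SB.2 ⟨_, _, by rw [f4_char]⟩

theorem inf_commutator_norm :
    (S : Subgroup G) ⊓ ⁅normalizer ((S : Subgroup G) : Set G),
      normalizer ((S : Subgroup G) : Set G)⁆ ≤ SB φ := by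
  haveI : Fact (Nat.Prime 2) := ⟨Nat.prime_two⟩
  set N := normalizer ((S : Subgroup G) : Set G) with hN
  have hSN : (S : Subgroup G) ≤ N := le_normalizer
  have hBN : SB φ ≤ N := hF.le_B.trans hSN
  haveI : ((SB φ).subgroupOf N).Normal :=
    (normal_subgroupOf_iff_le_normalizer hBN).2 hF.norm_B
  set q := QuotientGroup.mk' ((SB φ).subgroupOf N) with hq
  let P : Sylow 2 (↥N ⧸ (SB φ).subgroupOf N) :=
    (S.subtype hSN).mapSurjective (f := q) (QuotientGroup.mk'_surjective _)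
  have hP : ∀ y, y ∈ centralizer ((P : Subgroup (↥N ⧸ (SB φ).subgroupOf N)) : Set (↥N ⧸ (SB φ).subgroupOf N)) := by
    intro y
    obtain ⟨n, rfl⟩ := QuotientGroup.mk'_surjective _ y
    refine mem_centralizer_iff.2 ?_
    rintro _ ⟨s, hs, rfl⟩
    rw [← map_mul, ← map_mul, eq_comm, QuotientGroup.mk'_eq_mk']
    refine ⟨(n * s)⁻¹ * (s * n), mem_subgroupOf.2 ?_, by group⟩
    have := comm_mem_B h hF hA hB hmu hlam n.2 (mem_subgroupOf.1 hs)
    simpa using this
  have hle : normalizer ((P : Subgroup (↥N ⧸ (SB φ).subgroupOf N)) : Set (↥N ⧸ (SB φ).subgroupOf N)) ≤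
      centralizer ((P : Subgroup (↥N ⧸ (SB φ).subgroupOf N)) : Set (↥N ⧸ (SB φ).subgroupOf N)) := fun y _ => hP y
  set f := (MonoidHom.transferSylow P hle).comp q with hf
  have hcomm : _root_.commutator ↥N ≤ f.ker := by
    rw [commutator_def, commutator_le]
    intro a _ b _
    rw [MonoidHom.mem_ker, map_commutatorElement, commutatorElement_eq_one_iff_commute]
    exact Subtype.ext (mem_centralizer_iff.1 (hP ((f b) : ↥N ⧸ (SB φ).subgroupOf N)) _ (f a).2)
  rintro x ⟨hxS, hx⟩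
  rw [← map_subtype_commutator] at hx
  obtain ⟨y, hy, rfl⟩ := hx
  have h1 : q y ∈ (MonoidHom.transferSylow P hle).ker := MonoidHom.mem_ker.2 (hcomm hy)
  have h2 : q y ∈ (P : Subgroup _) := ⟨y, mem_subgroupOf.2 hxS, rfl⟩
  have h3 := (MonoidHom.ker_transferSylow_disjoint P hle _ P.2).le_bot ⟨h1, h2⟩
  rw [mem_bot, hq, QuotientGroup.mk'_apply, QuotientGroup.eq_one_iff] at h3
  exact mem_subgroupOf.1 h3

theorem inf_commutator : (S : Subgroup G) ⊓ _root_.commutator G ≤ SB φ := by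
  haveI : Fact (Nat.Prime 2) := ⟨Nat.prime_two⟩
  rw [Cfsg.Agent.S4216.result S]
  refine sup_le (inf_commutator_norm h hF hA hB hmu hlam) (iSup_le fun g => ?_)
  have hder : ⁅(S : Subgroup G), (S : Subgroup G)⁆ ≤ SZ φ := by
    rw [commutator_le]
    intro x hx y hy
    obtain ⟨a, b, c, rfl⟩ := h.surj x hx
    obtain ⟨a', b', c', rfl⟩ := h.surj y hy
    rw [commutatorElement_def, h.conj, h.inv, h.mul, f4_char a', f4_char b']
    exact h.mem_SZ.2 ⟨_, rfl⟩
  rintro y ⟨hyS, x, hx, rfl⟩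
  exact hF.Z_le_B (zclosed h hF hA hB hmu hlam (hder hx) hyS)

omit hA hB hmu hlam in
/-- A normal subgroup containing `B` and meeting `S` in `B` has it as a Sylow subgroup. -/
theorem exists_sylow {K : Subgroup G} [K.Normal] (hBK : SB φ ≤ K)
    (hSK : (S : Subgroup G) ⊓ K ≤ SB φ) :
    ∃ T : Sylow 2 K, (T : Subgroup K) = (SB φ).subgroupOf K := by
  haveI : Fact (Nat.Prime 2) := ⟨Nat.prime_two⟩
  obtain ⟨T, hT⟩ := ((S.2.to_le hF.le_B).comap_subtype (K := K)).exists_le_sylow
  refine ⟨T, (eq_of_le_of_card_ge hT ?_).symm⟩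
  obtain ⟨k, hk⟩ := exists_le_cjS S (T.2.map K.subtype)
  have h1 : cjS k ((T : Subgroup K).map K.subtype) ≤ SB φ := by
    refine le_trans (le_inf hk ?_) hSK
    rintro _ ⟨x, hx, rfl⟩
    exact (inferInstance : K.Normal).conj_mem x (map_subtype_le _ hx) k
  have h2 := Nat.le_of_dvd Nat.card_pos (card_dvd_of_le h1)
  rwa [card_cjS, card_map_of_injective K.subtype_injective, hF.card_B,
    ← hF.card_B, ← Nat.card_congr (subgroupOfEquivOfLe hBK).toEquiv] at h2

/-- An element of `N(B)` fixing a central involution squares into `C(B)`. -/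
theorem sq_mem {x : G} (hx : x ∈ normalizer (SB φ : Set G))
    (hfix : cj x (φ 0 0 1) = φ 0 0 1) : x * x ∈ centralizer (SB φ : Set G) := by
  obtain ⟨n, hn, hxn⟩ := norm_act h hF hB hx
  obtain ⟨m, hm⟩ := exists_scal h hF hmu hlam hn
  rw [hxn _ (h.mem_SB.2 ⟨0, 1, rfl⟩), hm.2.2.2] at hfix
  have hm1 : m = 1 := by simpa using (h.inj _ _ _ _ _ _ hfix).2.2
  subst hm1
  refine stab_sq h hF ⟨hx, fun z hz => ?_, fun b hb => ?_⟩
  · rw [hxn _ (hF.Z_le_B hz)]
    obtain ⟨c, rfl⟩ := h.mem_SZ.1 hz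
    rw [hm.2.2.2]
    simp
  · rw [hxn b hb]
    obtain ⟨b, c, rfl⟩ := h.mem_SB.1 hb
    obtain ⟨d, hd⟩ := scal_B h hm b c
    rw [hd, h.inv, h.mul, one_mul, f4_char, f4_char]
    exact h.mem_SZ.2 ⟨_, rfl⟩

end IndexFour

open IndexFour in
/-- Piece 6b. -/
theorem indexFour : StmtIndexFour.{u} := by
  intro hFs hAb G _ _ S φ h hA hB hmu hlam
  haveI : Fact (Nat.Prime 2) := ⟨Nat.prime_two⟩
  have hF := hFs G S φ h
  have hBp : IsPGroup 2 (SB φ) := S.2.to_le hF.le_B
  -- a normal subgroup with `B` as Sylow subgroup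
  set K := ((SB φ).map Abelianization.of).comap (Abelianization.of (G := G)) with hK
  haveI : K.Normal := Subgroup.Normal.comap inferInstance _
  have hBK : SB φ ≤ K := le_comap_map _ _
  have hSK : (S : Subgroup G) ⊓ K ≤ SB φ := by
    rintro s ⟨hs, b, hb, e⟩
    have h1 : b⁻¹ * s ∈ _root_.commutator G := by
      rw [← Abelianization.ker_of, MonoidHom.mem_ker, map_mul, map_inv, e, inv_mul_cancel]
    have h2 := inf_commutator h hF hA hB hmu hlam
      (show b⁻¹ * s ∈ (S : Subgroup G) ⊓ _root_.commutator G from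
        ⟨Subgroup.mul_mem _ (Subgroup.inv_mem _ (hF.le_B hb)) hs, h1⟩)
    simpa using mul_mem hb h2
  obtain ⟨T, hT⟩ := exists_sylow h hF hBK hSK
  have hmemT : ∀ x : ↥K, x ∈ T ↔ (x : G) ∈ SB φ := fun x => by
    show x ∈ (T : Subgroup K) ↔ _
    rw [hT, mem_subgroupOf]
  have hmax : ∀ X : Subgroup G, X ≤ K → IsPGroup 2 X → SB φ ≤ X → X ≤ SB φ := by
    intro X hXK hX hBX x hx
    have h1 := T.is_maximal' (hX.comap_subtype (K := K))
      (fun y hy => hBX ((hmemT y).1 hy))
    exact (hmemT ⟨x, hXK hx⟩).1 (h1.le (show (⟨x, hXK hx⟩ : ↥K).val ∈ X from hx))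
  have hcentB : SB φ ≤ centralizer (SB φ : Set G) := fun b hb => mem_centralizer_iff.2 fun c hc => by
    haveI := hF.elem_B.1
    exact congrArg Subtype.val (mul_comm' (⟨c, hc⟩ : SB φ) ⟨b, hb⟩)
  have hnorm : ∀ n ∈ normalizer ((T : Subgroup K) : Set K),
      (n : G) ∈ normalizer (SB φ : Set G) := fun n hn => coe_mem_normalizer hBK (hT ▸ hn)
  have hcent : ∀ n : ↥K, n ∈ centralizer ((T : Subgroup K) : Set K) ↔
      (n : G) ∈ centralizer (SB φ : Set G) := by
    intro n
    rw [mem_centralizer_iff, mem_centralizer_iff]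
    exact ⟨fun e b hb => congrArg Subtype.val (e ⟨b, hBK hb⟩ ((hmemT _).2 hb)),
      fun e x hx => Subtype.ext (e x ((hmemT x).1 hx))⟩
  have hker : ∀ n ∈ normalizer ((T : Subgroup K) : Set K), cj (n : G) (φ 0 0 1) = φ 0 0 1 →
      n ∈ centralizer ((T : Subgroup K) : Set K) := by
    intro n hn hfix
    refine (hcent n).2 ?_
    obtain ⟨k, hk, hk2⟩ := exists_odd_two (n : G)
    have hNn := hnorm n hn
    have h1 : (n : G) ^ k ∈ SB φ := by
      refine hmax (SB φ ⊔ zpowers ((n : G) ^ k)) (sup_le hBK (zpowers_le.2 (pow_mem n.2 k))) ?_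
        le_sup_left (mem_sup_right (mem_zpowers _))
      exact hBp.to_sup_of_normal_left' hk2 (zpowers_le.2 (pow_mem hNn k))
    obtain ⟨j, rfl⟩ := hk
    have h2 := mul_mem (inv_mem (pow_mem (sq_mem h hF hA hB hmu hlam hNn hfix) j)) (hcentB h1)
    rwa [pow_succ, pow_mul, pow_two, inv_mul_cancel_left] at h2
  have hO : oddCore ↥K = ⊥ := by
    refine (map_eq_bot_iff_of_injective _ K.subtype_injective).1 (le_bot_iff.1 ?_)
    rw [← h.core_bot]
    refine Base.le_oddCore ?_
    rw [card_map_of_injective K.subtype_injective]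
    exact Base.odd_card_oddCore _
  have helem : IsElementaryAbelian 2 (T : Subgroup K) := by
    refine ⟨⟨⟨fun x y => Subtype.ext (Subtype.ext ?_)⟩⟩, fun x hx => Subtype.ext ?_⟩
    · exact mem_centralizer_iff.1 (hcentB ((hmemT _).1 y.2)) _ ((hmemT _).1 x.2)
    · simpa using hF.elem_B.2 _ ((hmemT x).1 hx)
  have hcard : Nat.card T = 16 := by
    show Nat.card (T : Subgroup K) = 16
    rw [hT, Nat.card_congr (subgroupOfEquivOfLe hBK).toEquiv, hF.card_B]
  have hdvd : (centralizer ((T : Subgroup K) : Set K)).relIndex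
      (normalizer ((T : Subgroup K) : Set K)) ∣ 3 := by
    set Cm := centralizer ((T : Subgroup K) : Set K) with hCm
    set Nm := normalizer ((T : Subgroup K) : Set K) with hNm
    have hTC : (T : Subgroup K) ≤ Cm := fun x hx =>
      (hcent x).2 (hcentB ((hmemT x).1 hx))
    have hodd : ¬ 2 ∣ Cm.relIndex Nm := fun h2 => T.not_dvd_index
      ((h2.trans (relIndex_dvd_of_le_left Nm hTC)).trans (relIndex_dvd_index_of_le le_normalizer))
    let f : ↥Nm ⧸ Cm.subgroupOf Nm → {c : F4 // c ≠ 0} := fun x =>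
      Quotient.liftOn' x (fun n : ↥Nm => Classical.choose (show
          ∃ c : {c : F4 // c ≠ 0}, cj ((n : ↥K) : G) (φ 0 0 1) = φ 0 0 c.1 by
        obtain ⟨n', hn', e⟩ := norm_act h hF hB (hnorm _ n.2)
        obtain ⟨m, hm⟩ := exists_scal h hF hmu hlam hn'
        refine ⟨⟨m, hm.2.1⟩, ?_⟩
        rw [e _ (h.mem_SB.2 ⟨0, 1, rfl⟩), hm.2.2.2]
        simp)) fun n n' e => by
        have e' := mem_subgroupOf.1 (QuotientGroup.leftRel_apply.1 e)
        have e1 : cj ((n : ↥K) : G) (φ 0 0 1) = cj ((n' : ↥K) : G) (φ 0 0 1) := by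
          have e2 := mem_centralizer_iff_cj.1 ((hcent _).1 e') _ (h.mem_SB.2 ⟨0, 1, rfl⟩)
          conv_lhs => rw [← e2]
          simp only [cj, Subgroup.coe_mul, Subgroup.coe_inv]
          group
        simp only [e1]
    have hf : Function.Injective f := by
      intro x y e
      induction x using Quotient.inductionOn' with | _ n => ?_
      induction y using Quotient.inductionOn' with | _ n' => ?_
      refine Quotient.sound' (QuotientGroup.leftRel_apply.2 (mem_subgroupOf.2 (hker _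
        (mul_mem (inv_mem n.2) n'.2) ?_)))
      have ec : cj ((n : ↥K) : G) (φ 0 0 1) = cj ((n' : ↥K) : G) (φ 0 0 1) := by
        simp only [f, Quotient.liftOn'_mk''] at e
        generalize_proofs p₁ p₂ at e
        rw [Classical.choose_spec p₁, Classical.choose_spec p₂, e]
      simp only [Subgroup.coe_mul, Subgroup.coe_inv, cj_mul]
      rw [← ec, cj_inv_cj]
    have hle : Cm.relIndex Nm ≤ 3 := by
      rw [Subgroup.relIndex, index_eq_card]
      refine (Nat.card_le_card_of_injective f hf).trans (le_of_eq ?_)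
      rw [Nat.card_eq_fintype_card, Fintype.card_subtype_compl, Fintype.card_subtype_eq,
        CfsgLib.Spor.QField.card_eq]
    have hpos : Cm.relIndex Nm ≠ 0 := by
      rw [Subgroup.relIndex]
      exact index_ne_zero_of_finite
    rcases (show Cm.relIndex Nm = 1 ∨ Cm.relIndex Nm = 2 ∨ Cm.relIndex Nm = 3 by omega) with
      e | e | e <;> rw [e] at hodd ⊢ <;> omega
  have hfpf : ∀ n ∈ normalizer ((T : Subgroup K) : Set K),
      n ∉ centralizer ((T : Subgroup K) : Set K) → ∀ x ∈ T, n * x * n⁻¹ = x → x = 1 := by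
    intro n hn hnc x hx e
    obtain ⟨n', hn', he⟩ := norm_act h hF hB (hnorm n hn)
    obtain ⟨m, hm⟩ := exists_scal h hF hmu hlam hn'
    have hxB := (hmemT x).1 hx
    obtain ⟨b, c, hbc⟩ := h.mem_SB.1 hxB
    have hm1 : m ≠ 1 := fun h1 => hnc (hker n hn (by
      rw [he _ (h.mem_SB.2 ⟨0, 1, rfl⟩), hm.2.2.2, h1]
      simp))
    have e1 : cj (n : G) x = x := congrArg Subtype.val e
    have hb : b = 0 := by
      obtain ⟨d, hd⟩ := scal_B h hm b c
      rw [he _ hxB, ← hbc, hd] at e1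
      have := (h.inj _ _ _ _ _ _ e1).2.1
      by_contra hb0
      exact hm1 (mul_right_cancel₀ hb0 (this.trans (one_mul b).symm))
    subst hb
    rw [he _ hxB, ← hbc, hm.2.2.2] at e1
    have h3 := (h.inj _ _ _ _ _ _ e1).2.2
    simp only [one_mul] at h3
    have hc : c = 0 := by
      by_contra hc0
      exact hm1 (mul_right_cancel₀ hc0 (h3.trans (one_mul c).symm))
    refine Subtype.ext ?_
    rw [← hbc, hc, h.one]
    rfl
  have hTn : (T : Subgroup K).Normal := hAb ↥K T helem hcard hO hdvd hfpf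
  rw [hT] at hTn
  haveI hBn : (SB φ).Normal := by
    refine ⟨fun b hb g => ?_⟩
    have hle : cjS g (SB φ) ≤ K := by
      rintro _ ⟨x, hx, rfl⟩
      exact (inferInstance : K.Normal).conj_mem x (hBK hx) g
    refine hmax (SB φ ⊔ cjS g (SB φ)) (sup_le hBK hle) ?_ le_sup_left
      (mem_sup_right (cj_mem_cjS hb))
    exact hBp.to_sup_of_normal_left' (hBp.map _)
      (hle.trans ((normal_subgroupOf_iff_le_normalizer hBK).1 hTn))
  -- `B` is its own centraliser
  have hSC : (S : Subgroup G) ⊓ centralizer (SB φ : Set G) ≤ SB φ := by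
    have ht : φ 0 1 0 ∈ SB φ := h.mem_SB.2 ⟨1, 0, rfl⟩
    have ht' : φ 0 1 0 ∉ SZ φ := fun e => by
      obtain ⟨c, hc⟩ := h.mem_SZ.1 e
      exact zero_ne_one (h.inj _ _ _ _ _ _ hc).2.1
    refine le_trans (inf_le_inf_left _ (centralizer_le (Set.singleton_subset_iff.2 ?_)))
      (hF.cent_B _ ht ht').le
    exact ht
  set C := centralizer (SB φ : Set G) with hC
  obtain ⟨U, hU⟩ := exists_sylow (K := C) h hF hcentB hSC
  have hUc : normalizer ((U : Subgroup C) : Set C) ≤ centralizer ((U : Subgroup C) : Set C) :=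
    fun y _ => mem_centralizer_iff.2 fun x hx => Subtype.ext (by
      rw [SetLike.mem_coe, hU, mem_subgroupOf] at hx
      exact mem_centralizer_iff.1 y.2 _ hx)
  have hOC : oddCore ↥C = ⊥ := by
    refine (map_eq_bot_iff_of_injective _ C.subtype_injective).1 (le_bot_iff.1 ?_)
    rw [← h.core_bot]
    refine Base.le_oddCore ?_
    rw [card_map_of_injective C.subtype_injective]
    exact Base.odd_card_oddCore _
  have hker0 : (MonoidHom.transferSylow U hUc).ker = ⊥ := le_bot_iff.1 (hOC ▸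
    Base.le_oddCore (Nat.odd_iff.2
      (Nat.two_dvd_ne_zero.1 (MonoidHom.not_dvd_card_ker_transferSylow U hUc))))
  have hCB : C ≤ SB φ := by
    intro x hx
    have h1 := (MonoidHom.ker_transferSylow_isComplement' U hUc).sup_eq_top
    rw [hker0, bot_sup_eq] at h1
    have h2 : (⟨x, hx⟩ : ↥C) ∈ (U : Subgroup C) := h1 ▸ mem_top _
    rw [hU, mem_subgroupOf] at h2
    exact h2
  refine normalizer_eq_top_iff.1 (eq_top_iff.2 fun g _ => ?_)
  obtain ⟨n, hn, he⟩ := norm_act h hF hB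
    ((normalizer_eq_top_iff.2 hBn).ge (mem_top g))
  have h1 : n⁻¹ * g ∈ C := mem_centralizer_iff_cj.2 fun b hb => by
    rw [cj_mul, he b hb, cj_inv_cj]
  have h2 : n * (n⁻¹ * g) ∈ normalizer ((S : Subgroup G) : Set G) :=
    mul_mem hn (le_normalizer (hF.le_B (hCB h1)))
  simpa using h2

end CfsgLib.L34Sylow
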