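import Cfsg.Agent.Lib.L34Sylow.Fusion

/-!
# The normaliser of a small elementary subgroup acts as the normaliser of the Sylow subgroup
-/

set_option autoImplicit false
set_option linter.style.haveILetI false
set_option linter.unusedSectionVars false

namespace CfsgLib.L34Sylow.IndexFour

open Cfsg Subgroup

universe u

variable {G : Type u} [Group G]

theorem cj_mul (g h x : G) : cj (g * h) x = cj g (cj h x) := by simp only [cj]; group

theorem cj_map_mul (g x y : G) : cj g (x * y) = cj g x * cj g y := by simp only [cj]; group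

theorem cj_one (x : G) : cj (1 : G) x = x := by simp [cj]

theorem cj_inv_cj (g x : G) : cj g⁻¹ (cj g x) = x := by simp only [cj]; group

theorem cj_cj_inv (g x : G) : cj g (cj g⁻¹ x) = x := by simp only [cj]; group

theorem mem_centralizer_iff_cj {B : Subgroup G} {n : G} :
    n ∈ centralizer (B : Set G) ↔ ∀ b ∈ B, cj n b = b := by
  refine ⟨fun h b hb => mul_inv_eq_iff_eq_mul.2 (mem_centralizer_iff.1 h b hb).symm,
    fun h => mem_centralizer_iff.2 fun b hb => (mul_inv_eq_iff_eq_mul.1 (h b hb)).symm⟩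

/-- Some power of odd exponent generates a two-group. -/
theorem exists_odd_two [Finite G] (x : G) : ∃ k : ℕ, Odd k ∧ IsPGroup 2 (zpowers (x ^ k)) := by
  haveI : Fact (Nat.Prime 2) := ⟨Nat.prime_two⟩
  have hne : orderOf x ≠ 0 := (orderOf_pos x).ne'
  refine ⟨ordCompl[2] (orderOf x), Nat.not_even_iff_odd.1 fun he =>
    Nat.not_dvd_ordCompl Nat.prime_two hne (even_iff_two_dvd.1 he), ?_⟩
  have h1 : (x ^ ordCompl[2] (orderOf x)) ^ 2 ^ (orderOf x).factorization 2 = 1 := by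
    rw [← pow_mul, mul_comm, Nat.ordProj_mul_ordCompl_eq_self, pow_orderOf_eq_one]
  obtain ⟨i, -, hi⟩ := (Nat.dvd_prime_pow Nat.prime_two).1 (orderOf_dvd_of_pow_eq_one h1)
  exact IsPGroup.of_card (n := i) (by rw [Nat.card_zpowers, hi])

/-- The elements centralising the centre and the quotient of the second elementary subgroup by
it. -/
def stab (φ : F4 → F4 → F4 → G) : Subgroup G where
  carrier := {n | n ∈ normalizer (SB φ : Set G) ∧ (∀ z ∈ SZ φ, cj n z = z) ∧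
    ∀ b ∈ SB φ, cj n b * b⁻¹ ∈ SZ φ}
  one_mem' := ⟨one_mem _, fun z _ => cj_one z, fun b _ => by
    rw [cj_one, mul_inv_cancel]; exact one_mem _⟩
  mul_mem' := by
    rintro x y ⟨hx, hxz, hxb⟩ ⟨hy, hyz, hyb⟩
    refine ⟨mul_mem hx hy, fun z hz => by rw [cj_mul, hyz z hz, hxz z hz], fun b hb => ?_⟩
    have e : cj (x * y) b * b⁻¹ = cj y b * b⁻¹ * (cj x b * b⁻¹) := by
      calc cj (x * y) b * b⁻¹ = cj x (cj y b * b⁻¹ * b) * b⁻¹ := by
            rw [cj_mul, inv_mul_cancel_right]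
        _ = cj y b * b⁻¹ * (cj x b * b⁻¹) := by rw [cj_map_mul, hxz _ (hyb b hb), mul_assoc]
    rw [e]
    exact mul_mem (hyb b hb) (hxb b hb)
  inv_mem' := by
    rintro x ⟨hx, hxz, hxb⟩
    refine ⟨inv_mem hx, fun z hz => ?_, fun b hb => ?_⟩
    · conv_lhs => rw [← hxz z hz, cj_inv_cj]
    · have h1 : cj x⁻¹ b ∈ SB φ := (mem_normalizer_iff.1 (inv_mem hx) b).1 hb
      have h2 := hxb _ h1
      rw [cj_cj_inv] at h2
      have h3 := inv_mem h2
      rwa [mul_inv_rev, inv_inv] at h3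

variable [Finite G] {S : Sylow 2 G} {φ : F4 → F4 → F4 → G} (h : Setup S φ) (hF : Facts S φ)
include h hF

theorem le_stab : (S : Subgroup G) ≤ stab φ := by
  intro s hs
  refine ⟨hF.norm_B (le_normalizer hs), fun z hz => ?_, fun b hb => ?_⟩
  · obtain ⟨x, y, w, rfl⟩ := h.surj s hs
    obtain ⟨c, rfl⟩ := h.mem_SZ.1 hz
    rw [cj, h.conj]
    simp
  · obtain ⟨x, y, w, rfl⟩ := h.surj s hs
    obtain ⟨b, c, rfl⟩ := h.mem_SB.1 hb
    refine h.mem_SZ.2 ⟨x * b, ?_⟩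
    rw [cj, h.conj, h.inv, h.mul]
    simp only [f4_char, zero_mul, add_zero]
    congr 1
    have key : ∀ u v : F4, v = u + v + u := by decide
    exact key _ _

theorem stab_comm {x y b : G} (hx : x ∈ stab φ) (hy : y ∈ stab φ) (hb : b ∈ SB φ) :
    cj (x * y) b = cj (y * x) b := by
  obtain ⟨-, hxz, hxb⟩ := hx
  obtain ⟨-, hyz, hyb⟩ := hy
  have e1 : cj (x * y) b = cj y b * b⁻¹ * (cj x b * b⁻¹) * b := by
    calc cj (x * y) b = cj x (cj y b * b⁻¹ * b) := by rw [cj_mul, inv_mul_cancel_right]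
      _ = _ := by rw [cj_map_mul, hxz _ (hyb b hb)]; group
  have e2 : cj (y * x) b = cj x b * b⁻¹ * (cj y b * b⁻¹) * b := by
    calc cj (y * x) b = cj y (cj x b * b⁻¹ * b) := by rw [cj_mul, inv_mul_cancel_right]
      _ = _ := by rw [cj_map_mul, hyz _ (hxb b hb)]; group
  haveI := hF.elem_B.1
  have e3 := congrArg Subtype.val (mul_comm'
    (⟨_, hF.Z_le_B (hyb b hb)⟩ : SB φ) ⟨_, hF.Z_le_B (hxb b hb)⟩)
  simp only [Subgroup.coe_mul] at e3
  rw [e1, e2, e3]

theorem stab_sq {x : G} (hx : x ∈ stab φ) : x * x ∈ centralizer (SB φ : Set G) := by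
  refine mem_centralizer_iff_cj.2 fun b hb => ?_
  have e : cj (x * x) b = cj x b * b⁻¹ * (cj x b * b⁻¹) * b := by
    calc cj (x * x) b = cj x (cj x b * b⁻¹ * b) := by rw [cj_mul, inv_mul_cancel_right]
      _ = _ := by rw [cj_map_mul, hx.2.1 _ (hx.2.2 b hb)]; group
  rw [e, ← pow_two, hF.elem_B.2 _ (hF.Z_le_B (hx.2.2 b hb)), one_mul]

/-- An element of the stability group acts as a power of odd exponent of itself. -/
theorem stab_odd_pow {x : G} (hx : x ∈ stab φ) {k : ℕ} (hk : Odd k) {b : G} (hb : b ∈ SB φ) :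
    cj (x ^ k) b = cj x b := by
  obtain ⟨j, rfl⟩ := hk
  rw [pow_succ', cj_mul, pow_mul, pow_two,
    mem_centralizer_iff_cj.1 (pow_mem (stab_sq h hF hx) j) b hb]

theorem stab_act {x : G} (hx : x ∈ stab φ) :
    ∃ s ∈ S, ∀ b ∈ SB φ, cj x b = cj s b := by
  obtain ⟨k, hk, hk2⟩ := exists_odd_two x
  obtain ⟨c, hc, T, -, hT, hTx, hTS⟩ :=
    exists_common (zpowers_le.2 (pow_mem hx k)) (le_stab h hF) hk2 S.2
  rw [S.is_maximal' hT hTS] at hTx
  refine ⟨cj c (x ^ k), hTx (cj_mem_cjS (mem_zpowers _)), fun b hb => ?_⟩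
  rw [show cj c (x ^ k) = c * (x ^ k * c⁻¹) by simp only [cj]; group,
    stab_comm h hF hc (mul_mem (pow_mem hx k) (inv_mem hc)) hb,
    show x ^ k * c⁻¹ * c = x ^ k by group, stab_odd_pow h hF hx hk hb]

/-- An element normalising a small `B` acts on it as one normalising the Sylow subgroup. -/
theorem norm_act (hB : SmallB φ) {n : G} (hn : n ∈ normalizer (SB φ : Set G)) :
    ∃ n' ∈ normalizer (S : Set G), ∀ b ∈ SB φ, cj n b = cj n' b := by
  have hSn : cjS n (S : Subgroup G) ≤ stab φ := by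
    rintro _ ⟨s, hs, rfl⟩
    obtain ⟨hsB, hsZ, hsb⟩ := le_stab h hF hs
    show cj n s ∈ stab φ
    have hni := inv_mem hn
    have key : ∀ b, cj (cj n s) b = cj n (cj s (cj n⁻¹ b)) := fun b => by simp only [cj]; group
    refine ⟨mul_mem (mul_mem hn hsB) hni, fun z hz => ?_, fun b hb => ?_⟩
    · rw [key, hsZ _ ((mem_normalizer_iff.1 (hB hni) z).1 hz), cj_cj_inv]
    · have h1 := hsb _ ((mem_normalizer_iff.1 hni b).1 hb)
      have h2 := (mem_normalizer_iff.1 (hB hn) _).1 h1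
      rw [key]
      rwa [show n * (cj s (cj n⁻¹ b) * (cj n⁻¹ b)⁻¹) * n⁻¹ = cj n (cj s (cj n⁻¹ b)) * b⁻¹ by
        simp only [cj]; group] at h2
  obtain ⟨c, hc, T, -, hT, hTn, hTS⟩ := exists_common hSn (le_stab h hF) (S.2.map _) S.2
  rw [S.is_maximal' hT hTS, cjS_cjS] at hTn
  have hcn : c * n ∈ normalizer (S : Set G) :=
    cjS_eq_iff.1 (eq_of_le_of_card_ge hTn (by rw [card_cjS]))
  obtain ⟨s, hs, hsc⟩ := stab_act h hF (inv_mem hc)
  refine ⟨s * (c * n), mul_mem (le_normalizer hs) hcn, fun b hb => ?_⟩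
  rw [cj_mul s, ← hsc _ ((mem_normalizer_iff.1 (hF.norm_B hcn) b).1 hb), ← cj_mul,
    show c⁻¹ * (c * n) = n by group]

omit hF in
theorem scal_one_or_sq {m μ : F4} (hm : m ≠ 0) (hμ : μ ≠ 0) (hμ1 : μ ≠ 1) :
    m = 1 ∨ μ * m = 1 ∨ μ * (μ * m) = 1 := by
  revert m μ
  decide

omit hF in
theorem scal_mul {g n : G} {l m μ : F4} (hg : Scal φ g 1 μ) (hn : Scal φ n l m) :
    Scal φ (g * n) l (μ * m) := by
  obtain ⟨-, hμ, g1, g2⟩ := hg
  obtain ⟨hl, hm, n1, n2⟩ := hn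
  refine ⟨hl, mul_ne_zero hμ hm, fun a b => ?_, fun c => ?_⟩
  · obtain ⟨c, hc⟩ := n1 a b
    obtain ⟨c', hc'⟩ := g1 (l * a) (m * b)
    refine ⟨c' + μ * c, ?_⟩
    rw [cj_mul, hc, h.split (l * a), cj_map_mul, hc', g2, h.mul]
    simp [mul_assoc]
  · rw [cj_mul, n2, g2]
    congr 1
    ring

/-- Without an element moving only the first quotient all scalars are trivial on it. -/
theorem l_eq_one (hmu : HasMu S φ) (hlam : ¬ HasLam S φ) {n : G}
    (hn : n ∈ normalizer (S : Set G)) {l m : F4} (hs : Scal φ n l m) : l = 1 := by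
  obtain ⟨g, hg, μ, hμ1, hgs⟩ := hmu
  by_contra hl
  rcases scal_one_or_sq h hs.2.1 hgs.2.1 hμ1 with e | e | e
  · exact hlam ⟨n, hn, l, hl, e ▸ hs⟩
  · exact hlam ⟨g * n, mul_mem hg hn, l, hl, e ▸ scal_mul h hgs hs⟩
  · exact hlam ⟨g * (g * n), mul_mem hg (mul_mem hg hn), l, hl,
      e ▸ scal_mul h hgs (scal_mul h hgs hs)⟩

theorem exists_scal (hmu : HasMu S φ) (hlam : ¬ HasLam S φ) {n : G}
    (hn : n ∈ normalizer (S : Set G)) : ∃ m, Scal φ n 1 m := by
  obtain ⟨l, m, hs⟩ := hF.scal n hn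
  exact ⟨m, l_eq_one h hF hmu hlam hn hs ▸ hs⟩

omit hF in
theorem scal_B {n : G} {m : F4} (hs : Scal φ n 1 m) (b c : F4) :
    ∃ d, cj n (φ 0 b c) = φ 0 (m * b) (d + m * c) := by
  obtain ⟨d, hd⟩ := hs.2.2.1 0 b
  refine ⟨d, ?_⟩
  rw [h.split, cj_map_mul, hd, hs.2.2.2, h.mul]
  simp

end CfsgLib.L34Sylow.IndexFour
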