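import Cfsg.Agent.Lib.L34Sylow.KleinLocal
import Cfsg.Agent.Lib.Blocks.KleinPrincipal

/-!
# Piece 5, the count of pairs of involutions

With `W = O(C(x))`, `r = |W : C_W(P)|`: there are `2r²` pairs `(w, y)`, `w ∈ W`, with `y` and `x w y`
involutions.  Only the principal block contributes to the character sum for this number.
-/

set_option autoImplicit false
set_option linter.style.haveILetI false
set_option linter.unusedSectionVars false

namespace CfsgLib.L34Sylow.Klein

open Cfsg Subgroup CfsgLib.Base CfsgLib.Chars CfsgLib.Blocks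
open scoped ComplexConjugate

universe u

variable {M : Type u} [Group M] [Finite M] {P : Subgroup M} (h : KHyp P) {x : M}

/-- The index of `C_W(P)` in `W = O(C(x))`. -/
noncomputable abbrev rr (P : Subgroup M) (x : M) : ℕ := (centralizer (P : Set M)).relIndex (core x)

/-- The elements of the core inverted by `y`. -/
abbrev Invd (x y : M) : Type u := {w : M // w ∈ core x ∧ y * w * y = w⁻¹}

include h

theorem isConj_iff_invol {v : M} (hv : v ∈ P) (hv1 : v ≠ 1) (z : M) :
    IsConj v z ↔ z * z = 1 ∧ z ≠ 1 := by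
  constructor
  · intro hc
    obtain ⟨g, rfl⟩ := isConj_iff.1 hc
    refine ⟨?_, fun e => hv1 (conj_eq_one_iff.1 e)⟩
    rw [show g * v * g⁻¹ * (g * v * g⁻¹) = g * (v * v) * g⁻¹ by group, sq_one h hv, mul_one,
      mul_inv_cancel]
  · rintro ⟨hz, hz1⟩
    haveI : Fact (Nat.Prime 2) := ⟨Nat.prime_two⟩
    exact h.one v z (ord_two h hv hv1) (orderOf_eq_prime (by rwa [sq]) hz1)

theorem eq_one_of_mem_core_P {w : M} (hw : w ∈ core x) (hwP : w ∈ P) : w = 1 :=
  eq_one_of_odd_of_sq (odd_orderOf (odd_core x) hw) (sq_one h hwP)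

variable (hx : x ∈ P) (hx1 : x ≠ 1)

include hx hx1

theorem card_other_two : Nat.card {v : M // v ∈ P ∧ v ≠ 1 ∧ v ≠ x} = 2 := by
  have e : Nat.card {v : M // v ∈ P ∧ v ≠ 1 ∧ v ≠ x} = ((P : Set M) \ {1, x}).ncard := by
    rw [← Nat.card_coe_set_eq]
    exact Nat.card_congr (Equiv.subtypeEquivRight fun v => by simp [and_assoc])
  rw [e, Set.ncard_diff (Set.insert_subset (one_mem P) (Set.singleton_subset_iff.2 hx)),
    Set.ncard_pair (Ne.symm hx1)]
  show Nat.card P - 2 = 2
  rw [card_P h]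

theorem core_inf_cz {v : M} (hv : v ∈ P) (hv1 : v ≠ 1) (hvx : v ≠ x) :
    core x ⊓ cz v = core x ⊓ centralizer (P : Set M) := by
  refine le_antisymm (le_inf inf_le_left ?_) (le_inf inf_le_left ?_)
  · rintro g ⟨hg, hgv⟩
    rw [cz_P_eq h hx hx1 hv hv1 hvx, mem_centralizer_iff]
    rintro w (rfl | rfl)
    · exact (mem_centralizer_singleton_iff.1 (core_le _ hg)).symm
    · exact (mem_centralizer_singleton_iff.1 hgv).symm
  · exact inf_le_right.trans (centralizer_le (Set.singleton_subset_iff.2 hv))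

/-- An involution of `P` other than `x` inverts exactly `r` elements of the core. -/
theorem card_invd_P {v : M} (hv : v ∈ P) (hv1 : v ≠ 1) (hvx : v ≠ x) :
    Nat.card (Invd x v) = rr P x := by
  have hW : ∀ w ∈ core x, v * w * v ∈ core x := fun w hw => by
    have := (mem_normalizer_iff.1 (cz_le_norm_core x (le_cz h hx hv)) w).1 hw
    rwa [inv_self h hv] at this
  set U := (cz v).subgroupOf (core x) with hU
  let f : core x ⧸ U → Invd x v := fun q =>
    ⟨(q.out : M) * (v * (q.out : M)⁻¹ * v), mul_mem q.out.2 (hW _ (inv_mem q.out.2)), by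
      calc v * ((q.out : M) * (v * (q.out : M)⁻¹ * v)) * v
          = v * (q.out : M) * v * (q.out : M)⁻¹ * (v * v) := by group
        _ = v⁻¹ * (q.out : M) * v⁻¹ * (q.out : M)⁻¹ := by rw [sq_one h hv, mul_one, inv_self h hv]
        _ = _ := by group⟩
  have hf : Function.Bijective f := by
    constructor
    · intro p q e
      have e' : (p.out : M) * (v * (p.out : M)⁻¹ * v) = (q.out : M) * (v * (q.out : M)⁻¹ * v) :=
        congrArg Subtype.val e
      rw [← QuotientGroup.out_eq' p, ← QuotientGroup.out_eq' q]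
      refine QuotientGroup.eq.2 (mem_centralizer_singleton_iff.2 ?_)
      show (p.out : M)⁻¹ * (q.out : M) * v = v * ((p.out : M)⁻¹ * (q.out : M))
      calc (p.out : M)⁻¹ * (q.out : M) * v
          = (p.out : M)⁻¹ * ((q.out : M) * (v * (q.out : M)⁻¹ * v)) * v⁻¹ * (q.out : M) := by
            group
        _ = _ := by rw [← e']; group
    · rintro ⟨w, hw, hwv⟩
      obtain ⟨k, hk⟩ := odd_orderOf (odd_core x) hw
      set u := w ^ (k + 1) with hu
      have hu2 : u * u = w := by
        rw [hu, ← pow_add, show k + 1 + (k + 1) = 2 * k + 1 + 1 by ring, pow_succ, ← hk,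
          pow_orderOf_eq_one, one_mul]
      have huv : v * u * v = u⁻¹ := by
        have e1 : MulAut.conj v w = w⁻¹ := by rw [MulAut.conj_apply, inv_self h hv, hwv]
        have e2 := map_pow (MulAut.conj v) w (k + 1)
        rw [e1, inv_pow, MulAut.conj_apply, inv_self h hv] at e2
        exact e2
      refine ⟨((⟨u, pow_mem hw _⟩ : core x) : core x ⧸ U), Subtype.ext ?_⟩
      obtain ⟨c, hc⟩ := QuotientGroup.mk_out_eq_mul U (⟨u, pow_mem hw _⟩ : core x)
      show ((_ : core x) : M) * (v * ((_ : core x) : M)⁻¹ * v) = w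
      rw [hc]
      have hcv : ((c : core x) : M) * v = v * ((c : core x) : M) :=
        mem_centralizer_singleton_iff.1 c.2
      have hcv' : v * ((c : core x) : M)⁻¹ = ((c : core x) : M)⁻¹ * v :=
        (Commute.inv_left (hcv : Commute _ v)).eq.symm
      calc u * ((c : core x) : M) * (v * (u * ((c : core x) : M))⁻¹ * v)
          = u * ((c : core x) : M) * ((v * ((c : core x) : M)⁻¹) * u⁻¹ * v) := by group
        _ = u * (v * u⁻¹ * v) := by rw [hcv']; group
        _ = u * (v⁻¹ * u * v⁻¹)⁻¹ := by group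
        _ = u * (v * u * v)⁻¹ := by rw [inv_self h hv]
        _ = w := by rw [huv, inv_inv, hu2]
  rw [← Nat.card_eq_of_bijective f hf, ← index_eq_card, hU, ← relIndex]
  unfold rr
  rw [← inf_relIndex_right (cz v), inf_comm, core_inf_cz h hx hx1 hv hv1 hvx, inf_comm,
    inf_relIndex_right]

/-- The involutions of the centralizer other than `x`. -/
theorem invol_cases {y : M} (hy : y ∈ cz x) (hy2 : y * y = 1) (hy1 : y ≠ 1) (hyx : y ≠ x) :
    ∃ v ∈ P, v ≠ 1 ∧ v ≠ x ∧ ∃ w ∈ core x, v * w * v = w⁻¹ ∧ y = w * v := by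
  obtain ⟨w, hw, v, hv, rfl⟩ := mem_cz_cases h hx hx1 hy
  have hwv : v * w * v = w⁻¹ := by
    refine eq_inv_of_mul_eq_one_right ?_
    rw [show w * (v * w * v) = w * v * (w * v) by group, hy2]
  refine ⟨v, hv, ?_, ?_, w, hw, hwv, rfl⟩
  · rintro rfl
    refine hy1 ?_
    rw [mul_one] at hy2 ⊢
    exact eq_one_of_odd_of_sq (odd_orderOf (odd_core x) hw) hy2
  · intro e
    refine hyx ?_
    have hc : w * v = v * w := e ▸ mem_centralizer_singleton_iff.1 (core_le _ hw)
    have hw2 : w * w = 1 := by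
      calc w * w = w * w * (v * v) := by rw [sq_one h hv, mul_one]
        _ = w * (w * v) * v := by group
        _ = w * (v * w) * v := by rw [hc]
        _ = w * v * (w * v) := by group
        _ = 1 := hy2
    rw [eq_one_of_odd_of_sq (odd_orderOf (odd_core x) hw) hw2, one_mul, e]

theorem card_invd {y : M} (hy : y ∈ cz x) (hy2 : y * y = 1) (hy1 : y ≠ 1) (hyx : y ≠ x) :
    Nat.card (Invd x y) = rr P x := by
  obtain ⟨v, hv, hv1, hvx, w, hw, hwv, rfl⟩ := invol_cases h hx hx1 hy hy2 hy1 hyx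
  rw [← card_invd_P h hx hx1 hv hv1 hvx]
  obtain ⟨k, hk⟩ := odd_orderOf (odd_core x) hw
  set u := w ^ (k + 1) with hu
  have hu2 : u * u = w := by
    rw [hu, ← pow_add, show k + 1 + (k + 1) = 2 * k + 1 + 1 by ring, pow_succ, ← hk,
      pow_orderOf_eq_one, one_mul]
  have huv : v * u * v = u⁻¹ := by
    have e1 : MulAut.conj v w = w⁻¹ := by rw [MulAut.conj_apply, inv_self h hv, hwv]
    have e2 := map_pow (MulAut.conj v) w (k + 1)
    rw [e1, inv_pow, MulAut.conj_apply, inv_self h hv] at e2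
    exact e2
  have he : w * v = u * v * u⁻¹ := by
    rw [← hu2, ← huv]
    calc u * u * v = u * (v * v) * u * v := by rw [sq_one h hv, mul_one]
      _ = u * v * (v * u * v) := by group
  have huW : u ∈ core x := pow_mem hw _
  refine Nat.card_congr
    { toFun := fun z => ⟨u⁻¹ * z.1 * u, mul_mem (mul_mem (inv_mem huW) z.2.1) huW, ?_⟩
      invFun := fun z => ⟨u * z.1 * u⁻¹, mul_mem (mul_mem huW z.2.1) (inv_mem huW), ?_⟩
      left_inv := fun z => Subtype.ext (by group)
      right_inv := fun z => Subtype.ext (by group) }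
  · calc v * (u⁻¹ * z.1 * u) * v = u⁻¹ * (u * v * u⁻¹ * z.1 * (u * v * u⁻¹)) * u := by group
      _ = u⁻¹ * z.1⁻¹ * u := by rw [← he, z.2.2]
      _ = _ := by group
  · calc w * v * (u * z.1 * u⁻¹) * (w * v) = u * (v * z.1 * v) * u⁻¹ := by rw [he]; group
      _ = u * z.1⁻¹ * u⁻¹ := by rw [z.2.2]
      _ = _ := by group

theorem card_invols : Nat.card {y : M // y ∈ cz x ∧ y * y = 1 ∧ y ≠ 1 ∧ y ≠ x} = 2 * rr P x := by
  classical
  haveI := Fintype.ofFinite M
  let f : (Σ v : {v : M // v ∈ P ∧ v ≠ 1 ∧ v ≠ x}, Invd x (v : M)) →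
      {y : M // y ∈ cz x ∧ y * y = 1 ∧ y ≠ 1 ∧ y ≠ x} := fun s =>
    ⟨s.2.1 * s.1.1, mul_mem (core_le _ s.2.2.1) (le_cz h hx s.1.2.1), by
      rw [show s.2.1 * s.1.1 * (s.2.1 * s.1.1) = s.2.1 * (s.1.1 * s.2.1 * s.1.1) by group, s.2.2.2,
        mul_inv_cancel],
      fun e => s.1.2.2.1 (eq_one_of_mem_core_P h
        (by rw [eq_inv_of_mul_eq_one_right e]; exact inv_mem s.2.2.1) s.1.2.1),
      fun e => by
        have hm : s.2.1 ∈ P := by
          rw [show s.2.1 = x * s.1.1⁻¹ from eq_mul_inv_of_mul_eq e]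
          exact mul_mem hx (inv_mem s.1.2.1)
        rw [eq_one_of_mem_core_P h s.2.2.1 hm, one_mul] at e
        exact s.1.2.2.2 e⟩
  have hf : Function.Bijective f := by
    constructor
    · rintro ⟨⟨v, hv⟩, ⟨w, hw⟩⟩ ⟨⟨v', hv'⟩, ⟨w', hw'⟩⟩ e
      have e' : w * v = w' * v' := congrArg Subtype.val e
      have hm : w'⁻¹ * w ∈ P := by
        rw [show w'⁻¹ * w = w'⁻¹ * (w * v) * v⁻¹ by group, e',
          show w'⁻¹ * (w' * v') * v⁻¹ = v' * v⁻¹ by group]
        exact mul_mem hv'.1 (inv_mem hv.1)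
      have hww : w' = w :=
        inv_mul_eq_one.1 (eq_one_of_mem_core_P h (mul_mem (inv_mem hw'.1) hw.1) hm)
      subst hww
      obtain rfl := mul_left_cancel e'
      rfl
    · rintro ⟨y, hy, hy2, hy1, hyx⟩
      obtain ⟨v, hv, hv1, hvx, w, hw, hwv, rfl⟩ := invol_cases h hx hx1 hy hy2 hy1 hyx
      exact ⟨⟨⟨v, hv, hv1, hvx⟩, ⟨w, hw, hwv⟩⟩, rfl⟩
  rw [← Nat.card_eq_of_bijective f hf, Nat.card_sigma,
    Finset.sum_congr rfl fun (v : {v : M // v ∈ P ∧ v ≠ 1 ∧ v ≠ x}) _ =>
      card_invd_P h hx hx1 v.2.1 v.2.2.1 v.2.2.2,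
    Finset.sum_const, Finset.card_univ, ← Nat.card_eq_fintype_card, card_other_two h hx hx1,
    smul_eq_mul]

/-- The number of pairs. -/
theorem card_pairs :
    Nat.card (Σ w : core x, {y : M // IsConj x y ∧ IsConj x (x * (w : M) * y)}) =
      2 * rr P x ^ 2 := by
  classical
  haveI := Fintype.ofFinite M
  have key : ∀ w : core x, ∀ y : M, IsConj x y → IsConj x (x * (w : M) * y) →
      y ∈ cz x ∧ y * y = 1 ∧ y ≠ 1 ∧ y ≠ x ∧ y * (w : M) * y = (w : M)⁻¹ := by
    intro w y hy hxy
    rw [isConj_iff_invol h hx hx1] at hy hxy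
    have hwx : Commute x (w : M) := (mem_centralizer_singleton_iff.1 (core_le _ w.2)).symm
    have hiy : y⁻¹ = y := inv_eq_of_mul_eq_one_right hy.1
    have hconj : MulAut.conj y (x * w) = (x * w)⁻¹ := by
      rw [MulAut.conj_apply, hiy]
      refine eq_inv_of_mul_eq_one_right ?_
      rw [show x * (w : M) * (y * (x * w) * y) = x * w * y * (x * w * y) by group, hxy.1]
    obtain ⟨k, hk⟩ := odd_orderOf (odd_core x) w.2
    have hpow : (x * (w : M)) ^ orderOf (w : M) = x := by
      rw [hwx.mul_pow, pow_orderOf_eq_one, mul_one, hk, pow_succ, pow_mul, sq, sq_one h hx,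
        one_pow, one_mul]
    have hyx : MulAut.conj y x = x⁻¹ := by
      have e := map_pow (MulAut.conj y) (x * (w : M)) (orderOf (w : M))
      rw [hpow, hconj, inv_pow, hpow] at e
      exact e
    rw [inv_self h hx, MulAut.conj_apply, mul_inv_eq_iff_eq_mul] at hyx
    have hyw : y * (w : M) * y = (w : M)⁻¹ := by
      rw [map_mul, show MulAut.conj y x = x by
        rw [MulAut.conj_apply, hyx, mul_inv_cancel_right], mul_inv_rev, inv_self h hx,
        MulAut.conj_apply, hiy, ← hwx.inv_right.eq] at hconj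
      exact mul_left_cancel hconj
    refine ⟨mem_centralizer_singleton_iff.2 hyx, hy.1, hy.2, ?_, hyw⟩
    rintro rfl
    have hw2 : (w : M) * w = 1 := by
      rw [hwx.eq, mul_assoc, sq_one h hx, mul_one] at hyw
      calc (w : M) * w = (w : M) * (w : M)⁻¹ := by rw [← hyw]
        _ = 1 := mul_inv_cancel _
    have hw1 := eq_one_of_odd_of_sq (odd_orderOf (odd_core y) w.2) hw2
    rw [hw1, mul_one, sq_one h hx] at hxy
    exact hxy.2 rfl
  let f : (Σ w : core x, {y : M // IsConj x y ∧ IsConj x (x * (w : M) * y)}) →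
      Σ y : {y : M // y ∈ cz x ∧ y * y = 1 ∧ y ≠ 1 ∧ y ≠ x}, Invd x (y : M) := fun s =>
    ⟨⟨s.2.1, (key s.1 _ s.2.2.1 s.2.2.2).1, (key s.1 _ s.2.2.1 s.2.2.2).2.1,
      (key s.1 _ s.2.2.1 s.2.2.2).2.2.1, (key s.1 _ s.2.2.1 s.2.2.2).2.2.2.1⟩,
      ⟨s.1.1, s.1.2, (key s.1 _ s.2.2.1 s.2.2.2).2.2.2.2⟩⟩
  have hf : Function.Bijective f := by
    constructor
    · rintro ⟨⟨w, hw⟩, ⟨y, hy⟩⟩ ⟨⟨w', hw'⟩, ⟨y', hy'⟩⟩ e
      obtain rfl : y = y' := congrArg (fun t => (t.1 : M)) e
      obtain rfl : w = w' := congrArg (fun t => (t.2.1 : M)) e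
      rfl
    · rintro ⟨⟨y, hy, hy2, hy1, hyx⟩, ⟨w, hw, hyw⟩⟩
      have hc : Commute x y := (mem_centralizer_singleton_iff.1 hy).symm
      have hwx : Commute x w := (mem_centralizer_singleton_iff.1 (core_le _ hw)).symm
      refine ⟨⟨⟨w, hw⟩, ⟨y, (isConj_iff_invol h hx hx1 y).2 ⟨hy2, hy1⟩,
        (isConj_iff_invol h hx hx1 _).2 ⟨?_, fun e => hyx ?_⟩⟩⟩, rfl⟩
      · calc x * w * y * (x * w * y) = x * w * (y * x) * w * y := by group
          _ = x * (w * x) * (y * w * y) := by rw [← hc.eq]; group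
          _ = x * x * w * w⁻¹ := by rw [← hwx.eq, hyw]; group
          _ = 1 := by rw [sq_one h hx, one_mul, mul_inv_cancel]
      · have hw1 : w = 1 := by
          have e' : y = (x * w)⁻¹ := eq_inv_of_mul_eq_one_right e
          have hyw2 : Commute y w := e'.symm ▸ ((hwx.mul_left (Commute.refl w)).inv_left)
          rw [hyw2.eq, mul_assoc, hy2, mul_one] at hyw
          exact eq_one_of_odd_of_sq (odd_orderOf (odd_core x) hw) (by
            calc w * w = w * w⁻¹ := by rw [← hyw]
              _ = 1 := mul_inv_cancel _)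
        have e' : x * w * y = 1 := e
        rw [hw1, mul_one] at e'
        rw [eq_inv_of_mul_eq_one_right e', inv_self h hx]
  rw [Nat.card_eq_of_bijective f hf, Nat.card_sigma,
    Finset.sum_congr rfl fun (y : {y : M // y ∈ cz x ∧ y * y = 1 ∧ y ≠ 1 ∧ y ≠ x}) _ =>
      card_invd h hx hx1 y.2.1 y.2.2.1 y.2.2.2.1 y.2.2.2.2,
    Finset.sum_const, Finset.card_univ, ← Nat.card_eq_fintype_card, card_invols h hx hx1,
    smul_eq_mul]
  ring

/-- The values on the coset `x W` of the principal block, and the vanishing of the other sums. -/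
theorem sum_coset [Fintype M] [Fintype (IrrCharacter M)] {Mi : Ideal AlgInt}
    (hM : IsPModular 2 Mi) (K : KleinData M Mi x) (χ : IrrCharacter M)
    [Fintype (core x)] :
    (χ ∈ principalBlock Mi M → ∀ w ∈ core x, (χ : M → ℂ) (x * w) = (χ : M → ℂ) x) ∧
      ∑ w : core x, (χ : M → ℂ) (x * (w : M)) =
        if χ ∈ ({principal M, K.X, K.Y, K.Z} : Set (IrrCharacter M)) then
          (Nat.card (core x) : ℂ) * (χ : M → ℂ) x else 0 := by
  classical
  haveI : Fact (Nat.Prime 2) := ⟨Nat.prime_two⟩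
  haveI := isPrime_of_isPModular hM
  have hin : ∀ φ ∈ principalBlock Mi M, ∀ w ∈ (core x), (φ : M → ℂ) (x * w) = (φ : M → ℂ) x := by
    rintro φ hφ _ ⟨v, hv, rfl⟩
    exact principalBlock_apply_mul_core hM ⟨1, by rw [ord_two h hx hx1, pow_one]⟩ hv hφ
  refine ⟨hin χ, ?_⟩
  let T : IrrCharacter M → ℂ := fun φ => ∑ w : (core x), (φ : M → ℂ) (x * (w : M))
  show T χ = _
  have hblock : ∀ φ ∈ principalBlock Mi M, T φ = (Nat.card (core x) : ℂ) * (φ : M → ℂ) x := fun φ hφ => by
    simp only [T]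
    rw [Finset.sum_congr rfl fun (w : (core x)) _ => hin φ hφ w w.2, Finset.sum_const, Finset.card_univ,
      nsmul_eq_mul, Nat.card_eq_fintype_card]
  split_ifs with hχ
  · exact hblock χ (K.block.symm ▸ hχ)
  -- the sum of all squares is taken up by the block
  have hcomm : ∀ w : (core x), Commute x (w : M) := fun w =>
    (mem_centralizer_singleton_iff.1 (core_le _ w.2)).symm
  obtain ⟨k, hk⟩ := odd_core x
  have hpow : ∀ w : (core x), (x * (w : M)) ^ Nat.card (core x) = x := fun w => by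
    have hwW : (w : M) ^ Nat.card (core x) = 1 := by
      rw [← SubmonoidClass.coe_pow, pow_card_eq_one', OneMemClass.coe_one]
    rw [(hcomm w).mul_pow, hwW, mul_one, hk, pow_succ, pow_mul, sq, sq_one h hx,
      one_pow, one_mul]
  have hcount : ∀ w : (core x), ∑ v : (core x), (if IsConj (x * (v : M)) (x * (w : M)) then
      (Nat.card (cz (x * (w : M))) : ℂ) else 0) = Nat.card (cz x) := by
    intro w
    rw [← Finset.sum_filter, Finset.sum_const, nsmul_eq_mul, ← Nat.cast_mul]
    congr 1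
    rw [← Fintype.card_subtype, ← Nat.card_eq_fintype_card]
    have hle : cz (x * (w : M)) ≤ cz x := by
      intro g hg
      refine mem_centralizer_singleton_iff.2 ?_
      have e : Commute g (x * (w : M)) := mem_centralizer_singleton_iff.1 hg
      have e' := e.pow_right (Nat.card (core x))
      rwa [hpow] at e'
    let f : cz x ⧸ (cz (x * (w : M))).subgroupOf (cz x) →
        {v : (core x) // IsConj (x * (v : M)) (x * (w : M))} := fun q =>
      ⟨⟨(q.out : M) * w * (q.out : M)⁻¹,
        (mem_normalizer_iff.1 (cz_le_norm_core x q.out.2) _).1 w.2⟩, by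
        refine (isConj_iff.2 ⟨q.out, ?_⟩ : IsConj (x * (w : M)) _).symm
        show (q.out : M) * (x * w) * (q.out : M)⁻¹ = x * ((q.out : M) * w * (q.out : M)⁻¹)
        rw [← mul_assoc, mem_centralizer_singleton_iff.1 q.out.2]; group⟩
    have hf : Function.Bijective f := by
      constructor
      · intro p q e
        have e' : (p.out : M) * w * (p.out : M)⁻¹ = (q.out : M) * w * (q.out : M)⁻¹ :=
          congrArg (fun t : {v : (core x) // IsConj (x * (v : M)) (x * (w : M))} => ((t.1 : (core x)) : M)) e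
        rw [← QuotientGroup.out_eq' p, ← QuotientGroup.out_eq' q]
        refine QuotientGroup.eq.2 (mem_centralizer_singleton_iff.2 ?_)
        have hcx : Commute ((p.out : M)⁻¹ * (q.out : M)) x :=
          mem_centralizer_singleton_iff.1 (mul_mem (inv_mem p.out.2) q.out.2)
        refine (hcx.mul_right ?_).eq
        show (p.out : M)⁻¹ * (q.out : M) * w = w * ((p.out : M)⁻¹ * (q.out : M))
        calc (p.out : M)⁻¹ * (q.out : M) * w
            = (p.out : M)⁻¹ * ((q.out : M) * w * (q.out : M)⁻¹) * (q.out : M) := by group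
          _ = _ := by rw [← e']; group
      · rintro ⟨v, hv⟩
        obtain ⟨g, hg⟩ := isConj_iff.1 hv.symm
        have hgx : g ∈ cz x := by
          refine mem_centralizer_singleton_iff.2 ?_
          have e := map_pow (MulAut.conj g) (x * (w : M)) (Nat.card (core x))
          rw [hpow, MulAut.conj_apply, MulAut.conj_apply, hg, hpow] at e
          exact mul_inv_eq_iff_eq_mul.1 e
        refine ⟨((⟨g, hgx⟩ : cz x) : cz x ⧸ _), Subtype.ext (Subtype.ext ?_)⟩
        obtain ⟨c, hc⟩ := QuotientGroup.mk_out_eq_mul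
          ((cz (x * (w : M))).subgroupOf (cz x)) (⟨g, hgx⟩ : cz x)
        show ((_ : cz x) : M) * w * ((_ : cz x) : M)⁻¹ = v
        rw [hc]
        have hcw : Commute ((c : cz x) : M) (x * (w : M)) := mem_centralizer_singleton_iff.1 c.2
        have hgx' : Commute g x := mem_centralizer_singleton_iff.1 hgx
        have hcx' : Commute ((c : cz x) : M) x := mem_centralizer_singleton_iff.1 (c : cz x).2
        have hcw' : Commute ((c : cz x) : M) (w : M) := by
          have := hcx'.inv_right.mul_right hcw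
          rwa [inv_mul_cancel_left] at this
        calc g * ((c : cz x) : M) * w * (g * ((c : cz x) : M))⁻¹
            = g * (((c : cz x) : M) * w * ((c : cz x) : M)⁻¹) * g⁻¹ := by group
          _ = g * w * g⁻¹ := by rw [hcw'.eq, mul_inv_cancel_right]
          _ = x⁻¹ * (g * (x * w) * g⁻¹) := by
              rw [show g * (x * (w : M)) = x * (g * w) by rw [← mul_assoc, hgx'.eq, mul_assoc]]
              group
          _ = v := by rw [hg, inv_mul_cancel_left]
    rw [← Nat.card_eq_of_bijective f hf, ← index_eq_card]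
    exact (by
      rw [← Nat.card_congr (subgroupOfEquivOfLe hle).toEquiv, mul_comm, card_mul_index])
  have htot : ∑ φ : IrrCharacter M, T φ * conj (T φ) =
      (4 * (Nat.card (core x) : ℂ) ^ 2) := by
    calc ∑ φ : IrrCharacter M, T φ * conj (T φ)
        = ∑ w : (core x), ∑ v : (core x), ∑ φ : IrrCharacter M,
            (φ : M → ℂ) (x * (w : M)) * conj ((φ : M → ℂ) (x * (v : M))) := by
          simp only [T, map_sum, Fintype.sum_mul_sum]
          rw [Finset.sum_comm]
          exact Finset.sum_congr rfl fun w _ => Finset.sum_comm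
      _ = ∑ _w : (core x), (Nat.card (cz x) : ℂ) := by
          refine Finset.sum_congr rfl fun w _ => ?_
          rw [← hcount w]
          exact Finset.sum_congr rfl fun v _ => second_orthogonality _ _
      _ = _ := by
          rw [Finset.sum_const, Finset.card_univ, nsmul_eq_mul, card_cz h hx hx1,
            Nat.card_eq_fintype_card]
          push_cast
          ring
  set B : Finset (IrrCharacter M) := {principal M, K.X, K.Y, K.Z} with hB
  have hBsum : ∑ φ ∈ B, T φ * conj (T φ) = 4 * (Nat.card (core x) : ℂ) ^ 2 := by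
    have hb : ∀ φ ∈ ({principal M, K.X, K.Y, K.Z} : Set (IrrCharacter M)),
        T φ = (Nat.card (core x) : ℂ) * (φ : M → ℂ) x := fun φ hφ => hblock φ (K.block.symm ▸ hφ)
    rw [hB, Finset.sum_insert (by simp [Ne.symm K.X_ne, Ne.symm K.Y_ne, Ne.symm K.Z_ne]),
      Finset.sum_insert (by simp [K.XY, K.XZ]), Finset.sum_insert (by simp [K.YZ]),
      Finset.sum_singleton, hb _ (by simp), hb _ (by simp), hb _ (by simp), hb _ (by simp),
      principal_apply, K.valX, K.valY, K.valZ]
    rcases K.ε_cases with e | e <;> rw [e] <;> simp <;> ring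
  have hrest : ∑ φ ∈ Bᶜ, T φ * conj (T φ) = 0 := by
    have := Finset.sum_add_sum_compl B (fun φ => T φ * conj (T φ))
    rw [htot, hBsum] at this
    linear_combination this
  have hre : ∑ φ ∈ Bᶜ, Complex.normSq (T φ) = 0 := by
    have := hrest
    simp only [Complex.mul_conj] at this
    exact_mod_cast this
  have := (Finset.sum_eq_zero_iff_of_nonneg fun φ _ => Complex.normSq_nonneg _).1 hre χ
    (by rw [Finset.mem_compl, hB]; simpa using hχ)
  exact Complex.normSq_eq_zero.1 this

/-- The counting formula, with the relation between the degrees. -/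
theorem formula : ∃ (χ : IrrCharacter M) (ε : ℤ) (a b c : ℕ), (ε = 1 ∨ ε = -1) ∧
    0 < a ∧ 0 < b ∧ 0 < c ∧
    (4 : ℤ) ∣ (a : ℤ) - 1 ∧ (4 : ℤ) ∣ (b : ℤ) - ε ∧ (4 : ℤ) ∣ (c : ℤ) + 1 ∧
    1 + (a : ℤ) + ε * b - c = 0 ∧
    8 * (rr P x : ℤ) ^ 2 * (a * b * c) =
      ((cz x).index : ℤ) * (a * b * c + b * c + ε * (a * c) - a * b) ∧
    (χ : M → ℂ) 1 = a ∧ χ ≠ principal M ∧ (χ : M → ℂ) x = 1 ∧
    ∀ w ∈ core x, (χ : M → ℂ) (x * w) = 1 := by
  classical
  haveI := Fintype.ofFinite M
  haveI := irrFintype M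
  haveI : Fintype (core x) := Fintype.ofFinite _
  haveI : Fact (Nat.Prime 2) := ⟨Nat.prime_two⟩
  obtain ⟨Mi, hM⟩ := CfsgLib.CharApps.exists_pModular 2
  haveI := isPrime_of_isPModular hM
  obtain ⟨S, hS⟩ := exists_syl h
  obtain ⟨K⟩ := exists_kleinData hM S (hS ▸ h.klein) h.one (J := x) (ord_two h hx hx1)
  have hX : K.X ∈ principalBlock Mi M := K.block.symm ▸ (by simp)
  refine ⟨K.X, K.ε, charDegree (K.X : M → ℂ), charDegree (K.Y : M → ℂ), charDegree (K.Z : M → ℂ),
    K.ε_cases, CfsgLib.CharApps.deg_pos K.X, CfsgLib.CharApps.deg_pos K.Y,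
    CfsgLib.CharApps.deg_pos K.Z, K.modX, K.modY, K.modZ, ?_, ?_, CfsgLib.CharApps.deg_eq _,
    K.X_ne, K.valX, fun w hw => ((sum_coset h hx hx1 hM K K.X).1 hX w hw).trans K.valX⟩
  · have hrel := K.rel 1 (by simp)
    rw [CfsgLib.CharApps.deg_eq, CfsgLib.CharApps.deg_eq, CfsgLib.CharApps.deg_eq] at hrel
    apply Int.cast_injective (α := ℂ)
    push_cast
    linear_combination hrel
  have h2r : (Nat.card (Σ w : core x, {y : M // IsConj x y ∧ IsConj x (x * (w : M) * y)}) : ℂ) =
      ∑ φ : IrrCharacter M, centralChar (φ : M → ℂ) x⁻¹ * centralChar (φ : M → ℂ) x *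
        ((Nat.card M : ℂ)⁻¹ * ((φ : M → ℂ) 1 *
          conj (∑ w : core x, (φ : M → ℂ) (x * (w : M))))) := by
    rw [Nat.card_sigma, Nat.cast_sum]
    simp only [CentFour.card_mul_mem_class, map_sum, Finset.mul_sum]
    rw [Finset.sum_comm]
  rw [card_pairs h hx hx1] at h2r
  simp only [fun φ => (sum_coset h hx hx1 hM K φ).2] at h2r
  rw [← Finset.sum_subset (Finset.subset_univ ({principal M, K.X, K.Y, K.Z} : Finset _))
      (fun φ _ hφ => by
        rw [if_neg (by simpa using hφ)]
        simp),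
    Finset.sum_insert (by simp [Ne.symm K.X_ne, Ne.symm K.Y_ne, Ne.symm K.Z_ne]),
    Finset.sum_insert (by simp [K.XY, K.XZ]), Finset.sum_insert (by simp [K.YZ]),
    Finset.sum_singleton, if_pos (by simp), if_pos (by simp), if_pos (by simp),
    if_pos (by simp)] at h2r
  simp only [centralChar, inv_self h hx, principal_apply, K.valX, K.valY, K.valZ,
    CfsgLib.CharApps.deg_eq, map_mul, map_natCast, map_intCast, map_neg, map_one] at h2r
  have hMc : (Nat.card M : ℂ) =
      ((cz x).index : ℂ) * (4 * (Nat.card (core x) : ℂ)) := by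
    rw [← Subgroup.index_mul_card (cz x), card_cz h hx hx1]
    push_cast
    rfl
  have hW0 : (Nat.card (core x) : ℂ) ≠ 0 := Nat.cast_ne_zero.2 Nat.card_pos.ne'
  have hJ0 : ((cz x).index : ℂ) ≠ 0 := Nat.cast_ne_zero.2 index_ne_zero_of_finite
  have ha : (charDegree (K.X : M → ℂ) : ℂ) ≠ 0 :=
    Nat.cast_ne_zero.2 (CfsgLib.CharApps.deg_pos K.X).ne'
  have hb : (charDegree (K.Y : M → ℂ) : ℂ) ≠ 0 :=
    Nat.cast_ne_zero.2 (CfsgLib.CharApps.deg_pos K.Y).ne'
  have hc : (charDegree (K.Z : M → ℂ) : ℂ) ≠ 0 :=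
    Nat.cast_ne_zero.2 (CfsgLib.CharApps.deg_pos K.Z).ne'
  rw [hMc] at h2r
  apply Int.cast_injective (α := ℂ)
  push_cast at h2r ⊢
  rcases K.ε_cases with e | e <;> rw [e] at h2r ⊢ <;> push_cast at h2r ⊢ <;>
    field_simp at h2r <;> linear_combination h2r

end CfsgLib.L34Sylow.Klein
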