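import Cfsg.Agent.Lib.L34Sylow.Defs
import Cfsg.Agent.Lib.Base.Cores
import Cfsg.Agent.Lib.Involutions.KleinSylow
import Cfsg.Agent.Lib.CentFour.Formula

/-!
# Piece 5, local part: the centralizer of an involution is `O(C(x)) P`
-/

set_option autoImplicit false
set_option linter.style.haveILetI false
set_option linter.unusedSectionVars false

namespace CfsgLib.L34Sylow.Klein

open Cfsg Subgroup CfsgLib.Base CfsgLib.Involutions

universe u

variable {M : Type u} [Group M] [Finite M] {P : Subgroup M} (h : KHyp P) {x : M}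

theorem core_le (g : M) : core g ≤ cz g := map_subtype_le _

theorem cz_le_norm_core (g : M) : cz g ≤ normalizer (core g : Set M) :=
  le_normalizer_map_pPrimeCore _

theorem odd_core (g : M) : Odd (Nat.card (core g)) :=
  Nat.coprime_two_right.1 (coprime_card_map_pPrimeCore _)

theorem le_core {g : M} {U : Subgroup M} (hU : U ≤ cz g) (hn : cz g ≤ normalizer (U : Set M))
    (ho : Odd (Nat.card U)) : U ≤ core g :=
  le_map_pPrimeCore hU hn (Nat.coprime_two_right.2 ho)

theorem odd_orderOf {U : Subgroup M} (hU : Odd (Nat.card U)) {g : M} (hg : g ∈ U) :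
    Odd (orderOf g) :=
  hU.of_dvd_nat (orderOf_dvd_natCard _ hg)

theorem eq_one_of_odd_of_sq {g : M} (ho : Odd (orderOf g)) (hg : g * g = 1) : g = 1 := by
  obtain ⟨k, hk⟩ := ho
  have h1 := pow_orderOf_eq_one g
  rwa [hk, pow_add, pow_mul, sq, hg, one_pow, one_mul, pow_one] at h1

section Local

include h

theorem card_P : Nat.card P = 4 := h.klein.card_four

theorem isPGroup_P : IsPGroup 2 P := IsPGroup.of_card (n := 2) (by rw [card_P h]; norm_num)

theorem exists_syl : ∃ S : Sylow 2 M, (S : Subgroup M) = P := by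
  obtain ⟨S, hS⟩ := (isPGroup_P h).exists_le_sylow
  exact ⟨S, h.sylow _ S.2 hS⟩

theorem ord_two {v : M} (hv : v ∈ P) (hv1 : v ≠ 1) : orderOf v = 2 :=
  orderOf_eq_two_of_mem h.klein hv hv1

theorem sq_one {v : M} (hv : v ∈ P) : v * v = 1 := klein_sq h.klein hv

theorem inv_self {v : M} (hv : v ∈ P) : v⁻¹ = v := inv_eq_of_mul_eq_one_right (sq_one h hv)

theorem comm_mem {v w : M} (hv : v ∈ P) (hw : w ∈ P) : Commute v w := klein_comm h.klein hv hw

theorem le_cz {v : M} (hv : v ∈ P) : P ≤ cz v := fun _ hw =>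
  mem_centralizer_singleton_iff.2 (comm_mem h hw hv)

/-- The four elements of `P`. -/
theorem cases_mem (hx : x ∈ P) (hx1 : x ≠ 1) {v : M} (hv : v ∈ P) (hv1 : v ≠ 1) (hvx : v ≠ x)
    {w : M} (hw : w ∈ P) : w = 1 ∨ w = x ∨ w = v ∨ w = x * v := by
  by_cases e1 : w = 1
  · exact Or.inl e1
  by_cases e2 : w = x
  · exact Or.inr (Or.inl e2)
  by_cases e3 : w = v
  · exact Or.inr (Or.inr (Or.inl e3))
  exact Or.inr (Or.inr (Or.inr (klein_eq_mul h.klein hx hv hw hx1 hv1 (Ne.symm hvx) e1 e2 e3)))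

theorem odd_index_P {H : Subgroup M} (hH : P ≤ H) : ¬ 2 ∣ P.relIndex H := by
  obtain ⟨S, rfl⟩ := exists_syl h
  haveI : Fact (Nat.Prime 2) := ⟨Nat.prime_two⟩
  exact fun hd => S.not_dvd_index (hd.trans (Dvd.intro _ (relIndex_mul_index hH)))

/-- An element of the normalizer of `P` fixing an involution of it centralizes it. -/
theorem norm_fix_cent (hx : x ∈ P) (hx1 : x ≠ 1) {n : M} (hn : n ∈ normalizer (P : Set M))
    (hnx : n * x * n⁻¹ = x) : n ∈ centralizer (P : Set M) := by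
  obtain ⟨S, rfl⟩ := exists_syl h
  have hcj : ∀ v ∈ (S : Subgroup M), n * v * n⁻¹ ∈ (S : Subgroup M) := fun v hv =>
    (mem_normalizer_iff.1 hn v).1 hv
  refine mem_centralizer_iff.2 fun v hv => ?_
  suffices e : n * v * n⁻¹ = v by
    calc v * n = n * v * n⁻¹ * n := by rw [e]
      _ = n * v := by group
  by_cases hv1 : v = 1
  · rw [hv1, mul_one, mul_inv_cancel]
  by_cases hvx : v = x
  · rw [hvx, hnx]
  set v' := n * v * n⁻¹ with hv'
  have hv'1 : v' ≠ 1 := fun e => hv1 (conj_eq_one_iff.1 e)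
  have hv'x : v' ≠ x := fun e => hvx (mul_left_cancel (mul_right_cancel (e.trans hnx.symm)))
  by_contra hne
  have hv'' : n * v' * n⁻¹ = v := by
    have h1 : n * v' * n⁻¹ ≠ 1 := fun e => hv'1 (conj_eq_one_iff.1 e)
    have h2 : n * v' * n⁻¹ ≠ x := fun e =>
      hv'x (mul_left_cancel (mul_right_cancel (e.trans hnx.symm)))
    have h3 : n * v' * n⁻¹ ≠ v' := fun e => hne (mul_left_cancel (mul_right_cancel e))
    rw [klein_eq_mul h.klein hx (hcj v hv) (hcj _ (hcj v hv)) hx1 hv'1 (Ne.symm hv'x) h1 h2 h3,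
      ← klein_eq_mul h.klein hx (hcj v hv) hv hx1 hv'1 (Ne.symm hv'x) hv1 hvx (Ne.symm hne)]
  exact hne (not_swap S h.klein hn hv rfl hv'')

/-- Burnside: a subgroup in which the normalizer of `P` centralizes it has a normal 2-complement. -/
theorem exists_complement {H : Subgroup M} (hPH : P ≤ H)
    (hc : H ⊓ normalizer (P : Set M) ≤ centralizer (P : Set M)) :
    ∃ U : Subgroup M, U ≤ H ∧ H ≤ normalizer (U : Set M) ∧ Odd (Nat.card U) ∧
      4 * Nat.card U = Nat.card H := by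
  haveI : Fact (Nat.Prime 2) := ⟨Nat.prime_two⟩
  let T : Sylow 2 H := ((isPGroup_P h).comap_subtype (K := H)).toSylow (odd_index_P h hPH)
  have hT : (T : Subgroup H) = P.subgroupOf H := rfl
  have hTc : Nat.card (T : Subgroup H) = 4 := by
    rw [hT, Nat.card_congr (subgroupOfEquivOfLe hPH).toEquiv, card_P h]
  have hN : normalizer ((T : Subgroup H) : Set H) ≤ centralizer ((T : Subgroup H) : Set H) := by
    intro g hg
    have hgN : (g : M) ∈ normalizer (P : Set M) := by
      refine mem_normalizer_iff.2 fun v => ⟨fun hv => ?_, fun hv => ?_⟩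
      · exact (mem_normalizer_iff.1 hg ⟨v, hPH hv⟩).1 hv
      · have hvH : v ∈ H := by
          have := mul_mem (mul_mem (inv_mem g.2) (hPH hv)) g.2
          rwa [show (g : M)⁻¹ * ((g : M) * v * (g : M)⁻¹) * g = v by group] at this
        exact (mem_normalizer_iff.1 hg ⟨v, hvH⟩).2 hv
    have hgc := hc ⟨g.2, hgN⟩
    exact mem_centralizer_iff.2 fun v hv => Subtype.ext (mem_centralizer_iff.1 hgc v hv)
  obtain ⟨N, hcompl, hNn⟩ : ∃ N : Subgroup H, IsComplement' N (T : Subgroup H) ∧ N.Normal :=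
    ⟨_, MonoidHom.ker_transferSylow_isComplement' T hN, inferInstance⟩
  have hcard : 4 * Nat.card N = Nat.card H := by
    rw [mul_comm, ← hTc]
    exact hcompl.card_mul
  refine ⟨N.map H.subtype, map_subtype_le _, ?_, ?_, ?_⟩
  · intro g hg
    refine mem_normalizer_iff.2 fun v => ⟨?_, fun hv => ?_⟩
    · rintro ⟨w, hw, rfl⟩
      exact ⟨⟨g, hg⟩ * w * ⟨g, hg⟩⁻¹, hNn.conj_mem w hw _, rfl⟩
    · obtain ⟨w, hw, e⟩ := hv
      have hm := hNn.conj_mem w hw ⟨g, hg⟩⁻¹
      rw [inv_inv] at hm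
      refine ⟨⟨g, hg⟩⁻¹ * w * ⟨g, hg⟩, hm, ?_⟩
      show g⁻¹ * (w : M) * g = v
      rw [show (w : M) = g * v * g⁻¹ from e]; group
  · rw [Subgroup.card_map_of_injective H.subtype_injective]
    have h1 : ¬ 2 ∣ (T : Subgroup H).index := T.not_dvd_index
    have h2 := (T : Subgroup H).index_mul_card
    rw [hTc, ← hcard, mul_comm (4 : ℕ)] at h2
    rw [Nat.eq_of_mul_eq_mul_right (by norm_num) h2] at h1
    exact Nat.odd_iff.2 (Nat.two_dvd_ne_zero.1 h1)
  · rw [Subgroup.card_map_of_injective H.subtype_injective, hcard]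

variable (hx : x ∈ P) (hx1 : x ≠ 1)

include hx hx1

theorem card_cz : Nat.card (cz x) = 4 * Nat.card (core x) := by
  obtain ⟨U, hU, hUn, hUo, hUc⟩ := exists_complement h (le_cz h hx) fun n hn =>
    norm_fix_cent h hx hx1 hn.2 (by
      rw [(mem_centralizer_singleton_iff.1 hn.1), mul_inv_cancel_right])
  have h1 : Nat.card U ∣ Nat.card (core x) := card_dvd_of_le (le_core hU hUn hUo)
  have h2 : Nat.card (core x) ∣ 4 * Nat.card U := hUc ▸ card_dvd_of_le (core_le x)
  have h3 : Nat.card (core x) ∣ Nat.card U :=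
    ((Nat.coprime_two_right.2 (odd_core x)).pow_right 2).dvd_of_dvd_mul_left h2
  rw [← hUc, Nat.dvd_antisymm h1 h3]

theorem core_sup : core x ⊔ P = cz x := by
  have hle : core x ⊔ P ≤ cz x := sup_le (core_le x) (le_cz h hx)
  refine eq_of_le_of_card_ge hle ?_
  rw [card_cz h hx hx1]
  refine Nat.le_of_dvd Nat.card_pos ?_
  refine Nat.Coprime.mul_dvd_of_dvd_of_dvd ((Nat.coprime_two_left.2 (odd_core x)).pow_left 2) ?_
    (card_dvd_of_le le_sup_left)
  rw [← card_P h]
  exact card_dvd_of_le le_sup_right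

theorem mem_cz_cases {g : M} (hg : g ∈ cz x) : ∃ w ∈ core x, ∃ p ∈ P, g = w * p := by
  rw [← core_sup h hx hx1, ← SetLike.mem_coe, coe_mul_of_right_le_normalizer_left (core x) P
    ((le_cz h hx).trans (cz_le_norm_core x))] at hg
  obtain ⟨w, hw, p, hp, rfl⟩ := Set.mem_mul.1 hg
  exact ⟨w, hw, p, hp, rfl⟩

/-- Elements of odd order of the centralizer lie in its core. -/
theorem mem_core_of_odd {g : M} (hg : g ∈ cz x) (ho : Odd (orderOf g)) : g ∈ core x := by
  obtain ⟨w, hw, p, hp, rfl⟩ := mem_cz_cases h hx hx1 hg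
  obtain ⟨k, hk⟩ := ho
  have hsq : (w * p) * (w * p) ∈ core x := by
    rw [show (w * p) * (w * p) = w * (p * w * p⁻¹) * (p * p) by group, sq_one h hp, mul_one]
    exact mul_mem hw ((mem_normalizer_iff.1 (cz_le_norm_core x (le_cz h hx hp)) w).1 hw)
  have h1 := pow_orderOf_eq_one (w * p)
  rw [hk, pow_add, pow_mul, sq, pow_one] at h1
  rw [eq_inv_of_mul_eq_one_right h1]
  exact inv_mem (pow_mem hsq k)

/-- The centralizer of `P`. -/
theorem cent_P_cases {g : M} (hg : g ∈ centralizer (P : Set M)) :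
    ∃ c ∈ core x ⊓ centralizer (P : Set M), ∃ p ∈ P, g = c * p := by
  obtain ⟨w, hw, p, hp, rfl⟩ := mem_cz_cases h hx hx1
    (mem_centralizer_singleton_iff.2 (mem_centralizer_iff.1 hg x hx).symm)
  refine ⟨w, ⟨hw, ?_⟩, p, hp, rfl⟩
  rw [show w = w * p * p⁻¹ by group]
  have hpc : p ∈ centralizer (P : Set M) := mem_centralizer_iff.2 fun v hv => comm_mem h hv hp
  show w * p * p⁻¹ ∈ centralizer (P : Set M)
  exact mul_mem hg (inv_mem hpc)

theorem cz_P_eq {v : M} (hv : v ∈ P) (hv1 : v ≠ 1) (hvx : v ≠ x) :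
    centralizer (P : Set M) = centralizer ({x, v} : Set M) := by
  refine le_antisymm (centralizer_le (Set.insert_subset hx (Set.singleton_subset_iff.2 hv))) ?_
  intro g hg
  rw [mem_centralizer_iff] at hg ⊢
  have e1 : x * g = g * x := hg x (Or.inl rfl)
  have e2 : v * g = g * v := hg v (Or.inr rfl)
  intro w hw
  rcases cases_mem h hx hx1 hv hv1 hvx hw with rfl | rfl | rfl | rfl
  · rw [one_mul, mul_one]
  · exact e1
  · exact e2
  · exact Commute.mul_left e1 e2

end Local

end CfsgLib.L34Sylow.Klein
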