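import Cfsg.Agent.Lib.L34Sylow.KleinCount

/-!
# Piece 5, consequences of the counting formula

`3r² ≤ |M : C(x)|`, and equality forces a normal four subgroup, so `|M| = 12`.
-/

set_option autoImplicit false
set_option linter.style.haveILetI false
set_option linter.unusedSectionVars false

namespace CfsgLib.L34Sylow.Klein

open Cfsg Subgroup CfsgLib.Base CfsgLib.Chars

universe u

variable {M : Type u} [Group M] [Finite M] {P : Subgroup M} (h : KHyp P) {x : M}

theorem arith {r J a b c : ℕ} {ε : ℤ} (hr : 0 < r) (hε : ε = 1 ∨ ε = -1) (ha : 0 < a) (hb : 0 < b)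
    (hc : 0 < c) (hma : (4 : ℤ) ∣ (a : ℤ) - 1) (hmb : (4 : ℤ) ∣ (b : ℤ) - ε)
    (hmc : (4 : ℤ) ∣ (c : ℤ) + 1) (hrel : 1 + (a : ℤ) + ε * b - c = 0)
    (hf : 8 * (r : ℤ) ^ 2 * (a * b * c) = (J : ℤ) * (a * b * c + b * c + ε * (a * c) - a * b)) :
    3 * r ^ 2 ≤ J ∧ (3 * r ^ 2 = J → a = 1) ∧ ∀ n : ℕ, J = n * (3 * r ^ 2) → n < 8 := by
  set D : ℤ := (a : ℤ) * b * c with hD
  set N : ℤ := (a : ℤ) * b * c + b * c + ε * (a * c) - a * b with hN
  have hDpos : 0 < D := by positivity
  have hc3 : (3 : ℤ) ≤ c := by omega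
  obtain ⟨hlo, hhi, heq⟩ : D < 3 * N ∧ 3 * N ≤ 8 * D ∧ (3 * N = 8 * D → a = 1) := by
    rcases hε with rfl | rfl
    · have hab : 0 < (a : ℤ) * b := by positivity
      have h1 : (a : ℤ) * b < a * c := mul_lt_mul_of_pos_left (by omega) (by exact_mod_cast ha)
      have h2 : 0 ≤ (b : ℤ) * c := by positivity
      by_cases h11 : a = 1 ∧ b = 1
      · obtain ⟨rfl, rfl⟩ := h11
        have : (c : ℤ) = 3 := by omega
        rw [hN, hD, this]; norm_num
      · have h5 : 5 ≤ (a : ℤ) * b := by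
          rcases eq_or_ne a 1 with rfl | ha1
          · have : b ≠ 1 := fun e => h11 ⟨rfl, e⟩
            push_cast; omega
          · have : (5 : ℤ) ≤ a := by omega
            nlinarith [show (1 : ℤ) ≤ b by exact_mod_cast hb]
        have ha0 : (0 : ℤ) ≤ (a : ℤ) - 1 := by omega
        have hb0 : (0 : ℤ) ≤ (b : ℤ) - 1 := by omega
        have hab1 : (a : ℤ) + b ≤ a * b + 1 := by linarith [mul_nonneg ha0 hb0]
        have h3 : (c : ℤ) * (a + b) ≤ c * (a * b + 1) :=
          mul_le_mul_of_nonneg_left hab1 (by omega)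
        have h4 := mul_le_mul_of_nonneg_right h5 (show (0 : ℤ) ≤ c by omega)
        refine ⟨?_, ?_, fun e => absurd e (ne_of_lt ?_)⟩ <;> rw [hN, hD] <;> linarith
    · have hb3 : (3 : ℤ) ≤ b := by omega
      have ha5 : (5 : ℤ) ≤ a := by omega
      have h1 := mul_le_mul_of_nonneg_left hc3 (show (0 : ℤ) ≤ (a : ℤ) * b by positivity)
      have h2 := mul_le_mul_of_nonneg_left hb3 (show (0 : ℤ) ≤ (a : ℤ) * c by positivity)
      have h3 := mul_le_mul_of_nonneg_left ha5 (show (0 : ℤ) ≤ (b : ℤ) * c by positivity)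
      have h4 : 0 < (b : ℤ) * c := by positivity
      have h5 : 0 ≤ (a : ℤ) * c := by positivity
      have h6 : 0 ≤ (a : ℤ) * b := by positivity
      refine ⟨?_, ?_, fun e => absurd e (ne_of_lt ?_)⟩ <;> rw [hN, hD] <;> linarith
  have hr2 : (0 : ℤ) < (r : ℤ) ^ 2 := by positivity
  have hJ0 : (0 : ℤ) ≤ J := Nat.cast_nonneg J
  refine ⟨?_, fun e => heq ?_, fun n e => ?_⟩
  · have h1 : 3 * (r : ℤ) ^ 2 * (8 * D) ≤ (J : ℤ) * (8 * D) := by
      calc 3 * (r : ℤ) ^ 2 * (8 * D) = (J : ℤ) * (3 * N) := by linear_combination 3 * hf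
        _ ≤ _ := mul_le_mul_of_nonneg_left hhi hJ0
    exact_mod_cast le_of_mul_le_mul_right h1 (by linarith)
  · subst e
    push_cast at hf
    exact (mul_left_cancel₀ hr2.ne' (by linear_combination hf)).symm
  · subst e
    push_cast at hf
    have h8 : 8 * D = (n : ℤ) * (3 * N) := mul_left_cancel₀ hr2.ne' (by linear_combination hf)
    by_contra hn
    have hn8 : (8 : ℤ) ≤ n := by omega
    have := mul_le_mul_of_nonneg_right hn8 (show (0 : ℤ) ≤ 3 * N by linarith)
    linarith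

theorem rr_pos (P : Subgroup M) (x : M) : 0 < rr P x :=
  Nat.pos_of_ne_zero (index_ne_zero_of_finite (H := (centralizer (P : Set M)).subgroupOf (core x)))

include h

/-- In any subgroup containing `P`, a 2-subgroup is conjugate into `P`. -/
theorem conj_into {H A : Subgroup M} (hPH : P ≤ H) (hA : IsPGroup 2 A) (hAH : A ≤ H) :
    ∃ k ∈ H, ∀ a ∈ A, k * a * k⁻¹ ∈ P := by
  haveI : Fact (Nat.Prime 2) := ⟨Nat.prime_two⟩
  let T : Sylow 2 H := ((isPGroup_P h).comap_subtype (K := H)).toSylow (odd_index_P h hPH)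
  obtain ⟨R, hR⟩ := (hA.comap_subtype (K := H)).exists_le_sylow
  obtain ⟨g, hg⟩ := MulAction.exists_smul_eq H R T
  refine ⟨g, g.2, fun a ha => ?_⟩
  have hm : MulAut.conj g ⟨a, hAH ha⟩ ∈ ((g • R : Sylow 2 H) : Subgroup H) :=
    ⟨⟨a, hAH ha⟩, hR ha, rfl⟩
  rw [hg] at hm
  exact hm

/-- An involution of a subgroup containing `P` is conjugate in it to an involution of `P`. -/
theorem conj_invol_into {H : Subgroup M} (hPH : P ≤ H) {i : M} (hi : i ∈ H) (ho : orderOf i = 2) :
    ∃ k ∈ H, k * i * k⁻¹ ∈ P ∧ k * i * k⁻¹ ≠ 1 := by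
  obtain ⟨k, hk, hkP⟩ := conj_into h hPH
    (IsPGroup.of_card (n := 1) (by rw [Nat.card_zpowers, ho, pow_one]) : IsPGroup 2 (zpowers i))
    (zpowers_le.2 hi)
  refine ⟨k, hk, hkP i (mem_zpowers i), fun e => ?_⟩
  rw [conj_eq_one_iff.1 e, orderOf_one] at ho
  omega

/-- The involutions of `P` are conjugate in its normalizer. -/
theorem norm_trans {v w : M} (hv : v ∈ P) (hv1 : v ≠ 1) (hw : w ∈ P) (hw1 : w ≠ 1) :
    ∃ n ∈ normalizer (P : Set M), n * v * n⁻¹ = w := by
  obtain ⟨S, rfl⟩ := exists_syl h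
  obtain ⟨g, hg⟩ := isConj_iff.1 (h.one v w (ord_two h hv hv1) (ord_two h hw hw1))
  have hcen : ∀ u ∈ (S : Subgroup M), u ∈ centralizer ((S : Subgroup M) : Set M) := fun u hu w hw =>
    comm_mem h hw hu
  obtain ⟨n, hn, he⟩ := S.conj_eq_normalizer_conj_of_mem_centralizer v g⁻¹ (hcen v hv)
    (by simpa [hg] using hcen w hw)
  rw [inv_inv, hg] at he
  exact ⟨n⁻¹, inv_mem hn, by rw [inv_inv, ← he]⟩

variable (hx : x ∈ P) (hx1 : x ≠ 1)

include hx hx1

theorem card_cz_eq {v : M} (hv : orderOf v = 2) : Nat.card (cz v) = Nat.card (cz x) := by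
  obtain ⟨g, hg⟩ := isConj_iff.1 (h.one x v (ord_two h hx hx1) hv)
  subst hg
  have h1 : ∀ c ∈ cz x, g * c * g⁻¹ ∈ cz (g * x * g⁻¹) := fun c hc => by
    refine mem_centralizer_singleton_iff.2 ?_
    rw [show g * c * g⁻¹ * (g * x * g⁻¹) = g * (c * x) * g⁻¹ by group,
      mem_centralizer_singleton_iff.1 hc]
    group
  have h2 : ∀ c ∈ cz (g * x * g⁻¹), g⁻¹ * c * g ∈ cz x := fun c hc => by
    refine mem_centralizer_singleton_iff.2 ?_
    rw [show g⁻¹ * c * g * x = g⁻¹ * (c * (g * x * g⁻¹)) * g by group,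
      mem_centralizer_singleton_iff.1 hc]
    group
  exact (Nat.card_congr
    { toFun := fun c => (⟨g * c.1 * g⁻¹, h1 _ c.2⟩ : cz (g * x * g⁻¹))
      invFun := fun c => (⟨g⁻¹ * c.1 * g, h2 _ c.2⟩ : cz x)
      left_inv := fun c => Subtype.ext (by group)
      right_inv := fun c => Subtype.ext (by group) }).symm

theorem card_core_eq {v : M} (hv : v ∈ P) (hv1 : v ≠ 1) :
    Nat.card (core v) = Nat.card (core x) := by
  have := card_cz_eq h hx hx1 (ord_two h hv hv1)
  rw [card_cz h hv hv1, card_cz h hx hx1] at this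
  omega

theorem normal_case (hn : ∀ g : M, g ∈ normalizer (P : Set M)) :
    Nat.card M = 12 ∧ ∀ v : M, orderOf v = 2 → Nat.card (cz v) = 4 := by
  classical
  have hcj : ∀ g : M, ∀ v ∈ P, g * v * g⁻¹ ∈ P := fun g v hv => (mem_normalizer_iff.1 (hn g) v).1 hv
  have hWc : ∀ w ∈ core x, w ∈ centralizer (P : Set M) := by
    intro w hw
    refine mem_centralizer_iff.2 fun v hv => ?_
    have h1 : w * v * w⁻¹ * v⁻¹ ∈ P := mul_mem (hcj w v hv) (inv_mem hv)
    have h2 : w * v * w⁻¹ * v⁻¹ ∈ core x := by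
      rw [show w * v * w⁻¹ * v⁻¹ = w * (v * w⁻¹ * v⁻¹) by group]
      exact mul_mem hw
        ((mem_normalizer_iff.1 (cz_le_norm_core x (le_cz h hx hv)) _).1 (inv_mem hw))
    have e := mul_inv_eq_one.1 (eq_one_of_mem_core_P h h2 h1)
    rw [mul_inv_eq_iff_eq_mul] at e
    exact e.symm
  have hbot : core x = ⊥ := by
    have hN : (core x).Normal := ⟨fun w hw g => by
      refine mem_core_of_odd h hx hx1 (mem_centralizer_singleton_iff.2 ?_) ?_
      · have := mem_centralizer_iff.1 (hWc w hw) (g⁻¹ * x * g) (by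
          have := hcj g⁻¹ x hx
          rwa [inv_inv] at this)
        show g * w * g⁻¹ * x = x * (g * w * g⁻¹)
        calc g * w * g⁻¹ * x = g * (w * (g⁻¹ * x * g)) * g⁻¹ := by group
          _ = _ := by rw [← this]; group
      · rw [← MulAut.conj_apply, MulEquiv.orderOf_eq]
        exact odd_orderOf (odd_core x) hw⟩
    rw [← le_bot_iff, ← h.core_bot]
    exact CfsgLib.Base.le_oddCore (N := core x) (odd_core x)
  have hc4 : Nat.card (cz x) = 4 := by rw [card_cz h hx hx1, hbot, card_bot]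
  refine ⟨?_, fun v hv => by rw [card_cz_eq h hx hx1 hv, hc4]⟩
  rw [← CfsgLib.Chars.card_isConj_mul_card_centralizer x, hc4]
  have h3 : Nat.card {y : M // IsConj x y} = 3 := by
    have e : Nat.card {y : M // IsConj x y} = ((P : Set M) \ {1}).ncard := by
      rw [← Nat.card_coe_set_eq]
      refine Nat.card_congr (Equiv.subtypeEquivRight fun y => ⟨fun hc => ?_, fun hy => ?_⟩)
      · obtain ⟨g, rfl⟩ := isConj_iff.1 hc
        exact ⟨hcj g x hx, fun e => hx1 (conj_eq_one_iff.1 e)⟩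
      · exact h.one x y (ord_two h hx hx1) (ord_two h hy.1 hy.2)
    rw [e, Set.ncard_diff (Set.singleton_subset_iff.2 (one_mem P)), Set.ncard_singleton]
    show Nat.card P - 1 = 3
    rw [card_P h]
  rw [h3]

theorem bound : 3 * rr P x ^ 2 ≤ (cz x).index ∧
    ∀ n : ℕ, (cz x).index = n * (3 * rr P x ^ 2) → n < 8 := by
  obtain ⟨χ, ε, a, b, c, hε, ha, hb, hc, hma, hmb, hmc, hrel, hf, -⟩ := formula h hx hx1
  obtain ⟨h1, -, h3⟩ :=
    arith (rr_pos P x) hε ha hb hc hma hmb hmc hrel hf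
  exact ⟨h1, h3⟩

/-- Equality in the bound forces order twelve. -/
theorem equality (he : 3 * rr P x ^ 2 = (cz x).index) :
    Nat.card M = 12 ∧ ∀ v : M, orderOf v = 2 → Nat.card (cz v) = 4 := by
  classical
  haveI := Fintype.ofFinite M
  obtain ⟨χ, ε, a, b, c, hε, ha, hb, hc, hma, hmb, hmc, hrel, hf, hdeg, hne, hχx, hχw⟩ :=
    formula h hx hx1
  have ha1 := (arith (rr_pos P x) hε ha hb hc hma hmb hmc hrel hf).2.1 he
  rw [ha1, Nat.cast_one] at hdeg
  obtain ⟨lam, hlam⟩ := exists_hom_of_degree_one (isCharacter_of_irr χ.2) hdeg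
  set N := lam.ker with hN
  have hmem : ∀ g : M, g ∈ N ↔ (χ : M → ℂ) g = 1 := fun g => by
    rw [congrFun hlam g, hN, MonoidHom.mem_ker]
    exact ⟨fun e => by rw [e, Units.val_one], fun e => Units.ext e⟩
  have hinv : ∀ i : M, orderOf i = 2 → i ∈ N := fun i hi => by
    obtain ⟨g, rfl⟩ := isConj_iff.1 (h.one x i (ord_two h hx hx1) hi)
    exact (MonoidHom.normal_ker lam).conj_mem _ ((hmem x).2 hχx) g
  have hPN : P ≤ N := fun v hv => by
    by_cases hv1 : v = 1
    · exact hv1 ▸ one_mem _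
    · exact hinv v (ord_two h hv hv1)
  have hWN : core x ≤ N := fun w hw => by
    have h1 : x * w ∈ N := (hmem _).2 (hχw w hw)
    have := mul_mem (inv_mem (hPN hx)) h1
    rwa [inv_mul_cancel_left] at this
  have hCN : cz x ≤ N := core_sup h hx hx1 ▸ sup_le hWN hPN
  have hNtop : N ≠ ⊤ := fun e => hne (Subtype.ext (funext fun g => by
    rw [principal_apply, (hmem g).1 (e ▸ mem_top g)]))
  have hcoreN : (oddCore ↥N).map N.subtype = ⊥ := by
    show (pPrimeCore 2 ↥N).map N.subtype = ⊥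
    rw [map_pPrimeCore_eq_inf N, ← le_bot_iff]
    exact inf_le_left.trans h.core_bot.le
  by_cases hfus : N ⊓ normalizer (P : Set M) ≤ centralizer (P : Set M)
  · -- a normal 2-complement, so `P` is normal
    obtain ⟨U, hUN, hUn, hUo, hUc⟩ := exists_complement h hPN hfus
    have hU : U = ⊥ := by
      have h1 : U ≤ (pPrimeCore 2 ↥N).map N.subtype :=
        le_map_pPrimeCore hUN hUn (Nat.coprime_two_right.2 hUo)
      rw [← le_bot_iff, ← hcoreN]
      exact h1
    rw [hU, card_bot, mul_one] at hUc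
    have hNP : P = N := eq_of_le_of_card_ge hPN (by rw [card_P h, ← hUc])
    refine normal_case h hx hx1 fun g => ?_
    rw [hNP]
    exact (normalizer_eq_top_iff.2 (MonoidHom.normal_ker lam)) ▸ mem_top g
  -- otherwise `N` has the same hypothesis
  exfalso
  obtain ⟨n, hn, hnc⟩ := SetLike.not_le_iff_exists.1 hfus
  set P' := P.subgroupOf N with hP'
  have hPc : Nat.card P' = 4 := by
    rw [Nat.card_congr (subgroupOfEquivOfLe hPN).toEquiv, card_P h]
  have hmove : ∀ v ∈ P, v ≠ 1 → n * v * n⁻¹ ≠ v := fun v hv hv1 e =>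
    hnc (norm_fix_cent h hv hv1 hn.2 e)
  have hncj : ∀ v ∈ P, n * v * n⁻¹ ∈ P := fun v hv => (mem_normalizer_iff.1 hn.2 v).1 hv
  set v1 := n * x * n⁻¹ with hv1def
  have hv11 : v1 ≠ 1 := fun e => hx1 (conj_eq_one_iff.1 e)
  have hcl : ∀ v ∈ P, v ≠ 1 → ∃ g ∈ N, g * x * g⁻¹ = v := by
    intro v hv hv1
    by_cases hvx : v = x
    · exact ⟨1, one_mem _, by rw [hvx]; group⟩
    by_cases hvv : v = v1
    · exact ⟨n, hn.1, hvv.symm⟩
    refine ⟨n * n, mul_mem hn.1 hn.1, ?_⟩
    rw [show n * n * x * (n * n)⁻¹ = n * v1 * n⁻¹ by rw [hv1def]; group]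
    have hv1P := hncj x hx
    have hne2 : n * v1 * n⁻¹ ≠ x := fun e => by
      obtain ⟨S, hS⟩ := exists_syl h
      subst hS
      exact hmove x hx hx1 (CfsgLib.Involutions.not_swap S h.klein hn.2 hx hv1def.symm e)
    rw [CfsgLib.Involutions.klein_eq_mul h.klein hx hv1P (hncj _ hv1P) hx1 hv11
        (Ne.symm (hmove x hx hx1)) (fun e => hv11 (conj_eq_one_iff.1 e)) hne2
        (hmove _ hv1P hv11),
      ← CfsgLib.Involutions.klein_eq_mul h.klein hx hv1P hv hx1 hv11
        (Ne.symm (hmove x hx hx1)) hv1 hvx hvv]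
  have h' : KHyp P' := by
    refine ⟨⟨hPc, ?_⟩, fun Q hQ hle => ?_, fun s t hs ht => ?_, ?_⟩
    · rw [Monoid.exponent_eq_of_mulEquiv (subgroupOfEquivOfLe hPN), h.klein.exponent_two]
    · have e := h.sylow (Q.map N.subtype) (hQ.map _)
        (fun v hv => ⟨⟨v, hPN hv⟩, hle hv, rfl⟩)
      rw [hP', ← e, subgroupOf, comap_map_eq_self_of_injective N.subtype_injective]
    · have key : ∀ s : N, orderOf s = 2 → IsConj (⟨x, hPN hx⟩ : N) s := fun s hs => by
        obtain ⟨k, hk, hkP, hk1⟩ := conj_invol_into h hPN s.2 (by rwa [orderOf_coe])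
        obtain ⟨g, hg, hge⟩ := hcl _ hkP hk1
        refine isConj_iff.2 ⟨⟨k⁻¹ * g, mul_mem (inv_mem hk) hg⟩, Subtype.ext ?_⟩
        show k⁻¹ * g * x * (k⁻¹ * g)⁻¹ = s
        rw [show k⁻¹ * g * x * (k⁻¹ * g)⁻¹ = k⁻¹ * (g * x * g⁻¹) * k by group, hge]
        group
      exact (key s hs).symm.trans (key t ht)
    · exact (map_eq_bot_iff_of_injective _ N.subtype_injective).1 hcoreN
  have hx' : (⟨x, hPN hx⟩ : N) ∈ P' := hx
  have hx1' : (⟨x, hPN hx⟩ : N) ≠ 1 := fun e => hx1 (congrArg Subtype.val e)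
  set x' : N := ⟨x, hPN hx⟩ with hx'def
  have hb := (bound h' hx' hx1').1
  have hczc : Nat.card (cz x') = Nat.card (cz x) := Nat.card_congr
    { toFun := fun c => ⟨((c : N) : M), mem_centralizer_singleton_iff.2
        (congrArg Subtype.val (mem_centralizer_singleton_iff.1 c.2))⟩
      invFun := fun c => ⟨⟨(c : M), hCN c.2⟩, mem_centralizer_singleton_iff.2
        (Subtype.ext (mem_centralizer_singleton_iff.1 c.2))⟩
      left_inv := fun _ => rfl
      right_inv := fun _ => rfl }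
  have hcore : (core x').map N.subtype = core x := by
    refine eq_of_le_of_card_ge ?_ ?_
    · refine le_core ?_ ?_ ?_
      · rintro _ ⟨w, hw, rfl⟩
        exact mem_centralizer_singleton_iff.2
          (congrArg Subtype.val (mem_centralizer_singleton_iff.1 (core_le _ hw)))
      · intro g hg
        have hgN : (⟨g, hCN hg⟩ : N) ∈ cz x' :=
          mem_centralizer_singleton_iff.2 (Subtype.ext (mem_centralizer_singleton_iff.1 hg))
        refine mem_normalizer_iff.2 fun v => ⟨?_, ?_⟩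
        · rintro ⟨w, hw, rfl⟩
          exact ⟨_, (mem_normalizer_iff.1 (cz_le_norm_core x' hgN) w).1 hw, rfl⟩
        · rintro ⟨w, hw, e⟩
          refine ⟨_, (mem_normalizer_iff.1 (inv_mem (cz_le_norm_core x' hgN)) w).1 hw, ?_⟩
          show g⁻¹ * (w : M) * g⁻¹⁻¹ = v
          rw [show (w : M) = g * v * g⁻¹ from e]; group
      · rw [Subgroup.card_map_of_injective N.subtype_injective]
        exact odd_core x'
    · rw [Subgroup.card_map_of_injective N.subtype_injective]
      have := card_cz h' hx' hx1'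
      rw [hczc, card_cz h hx hx1] at this
      omega
  have hrr : rr P' x' = rr P x := by
    have hcm : (centralizer (P' : Set N)).map N.subtype = N ⊓ centralizer (P : Set M) := by
      ext g
      constructor
      · rintro ⟨c, hc, rfl⟩
        exact ⟨c.2, mem_centralizer_iff.2 fun v hv =>
          congrArg Subtype.val (mem_centralizer_iff.1 hc ⟨v, hPN hv⟩ hv)⟩
      · rintro ⟨hgN, hgc⟩
        exact ⟨⟨g, hgN⟩, mem_centralizer_iff.2 fun v hv =>
          Subtype.ext (mem_centralizer_iff.1 hgc v hv), rfl⟩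
    unfold rr
    rw [← relIndex_map_map_of_injective _ _ N.subtype_injective, hcm, hcore,
      ← inf_relIndex_right, inf_right_comm, inf_eq_right.2 hWN, inf_comm, inf_relIndex_right]
  have hJ : (cz x').index * N.index = (cz x).index := by
    have h1 := Subgroup.index_mul_card (cz x')
    have h2 := Subgroup.index_mul_card (cz x)
    rw [hczc] at h1
    rw [← Subgroup.index_mul_card N, ← h1] at h2
    exact Nat.eq_of_mul_eq_mul_right Nat.card_pos (by rw [h2]; ring)
  have hN2 : 2 ≤ N.index := by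
    have h1 : N.index ≠ 1 := fun e => hNtop (index_eq_one.1 e)
    have h2 : N.index ≠ 0 := index_ne_zero_of_finite
    omega
  rw [hrr, he] at hb
  have h0 : 0 < (cz x').index := Nat.pos_of_ne_zero index_ne_zero_of_finite
  nlinarith

end CfsgLib.L34Sylow.Klein
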