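import Cfsg.Agent.Lib.L34Sylow.Defs
import Cfsg.Agent.Lib.Schur.PSLThreeFour
import Cfsg.Agent.Lib.Classical.PSLSimple

/-!
# Coordinates on a Sylow two-subgroup of type `PSL₃(4)`
-/

set_option autoImplicit false
set_option linter.style.haveILetI false

namespace CfsgLib.L34Sylow

open Cfsg Subgroup

universe u

/-- The group `PSL₃(4)`. -/
abbrev PSL34 : Type := Matrix.ProjectiveSpecialLinearGroup (Fin 3) F4

theorem card_psl34 : Nat.card PSL34 = 20160 := by
  rw [Classical.card_PSL_fin 3 (by norm_num), Classical.card_SL_fin', Nat.card_eq_fintype_card,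
    CfsgLib.Spor.QField.card_eq]
  norm_num [Finset.prod_range_succ]

/-- The unitriangular subgroup of `PSL₃(4)`. -/
def uniSub : Subgroup PSL34 where
  carrier := Set.range fun t : F4 × F4 × F4 => Schur.LThreeFour.pu t.1 t.2.1 t.2.2
  one_mem' := ⟨(0, 0, 0), Schur.LThreeFour.pu_one⟩
  mul_mem' := by
    rintro _ _ ⟨⟨a, b, c⟩, rfl⟩ ⟨⟨a', b', c'⟩, rfl⟩
    exact ⟨(a + a', b + b', c + c' + a * b'), (Schur.LThreeFour.pu_mul a b c a' b' c').symm⟩
  inv_mem' := by
    rintro _ ⟨⟨a, b, c⟩, rfl⟩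
    refine ⟨(-a, -b, a * b - c), eq_inv_of_mul_eq_one_left ?_⟩
    rw [Schur.LThreeFour.pu_mul, ← Schur.LThreeFour.pu_one (F := F4)]
    congr 1 <;> ring

theorem card_uniSub : Nat.card uniSub = 64 := by
  refine (Nat.card_range_of_injective fun t t' e => ?_).trans ?_
  · obtain ⟨h1, h2, h3⟩ := Schur.LThreeFour.pu_injective e
    exact Prod.ext h1 (Prod.ext h2 h3)
  · rw [Nat.card_eq_fintype_card]
    simp [CfsgLib.Spor.QField.card_eq]

theorem start : StmtStart.{u} := by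
  intro G _ _ hO S P ⟨e⟩
  haveI : Fact (Nat.Prime 2) := ⟨Nat.prime_two⟩
  obtain ⟨Q, hQ⟩ := (IsPGroup.of_card (p := 2) (n := 6) (card_uniSub.trans (by norm_num))).exists_le_sylow
  have hQc : Nat.card Q = 64 := by
    obtain ⟨k, hk⟩ := IsPGroup.iff_card.1 Q.2
    have h1 : Nat.card Q ∣ 20160 := card_psl34 ▸ Subgroup.card_subgroup_dvd_card _
    have h2 : 64 ∣ Nat.card Q := card_uniSub ▸ Subgroup.card_dvd_of_le hQ
    have hk' : k ≤ 6 := by
      by_contra hlt
      have h7 : 2 ^ 7 ∣ Nat.card Q := hk ▸ pow_dvd_pow 2 (by omega)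
      exact absurd (h7.trans h1) (by norm_num)
    refine le_antisymm ?_ (Nat.le_of_dvd Nat.card_pos h2)
    rw [hk]
    exact le_trans (Nat.pow_le_pow_right (by norm_num) hk') (by norm_num)
  have hU : uniSub = Q := eq_of_le_of_card_ge hQ (by rw [card_uniSub, hQc])
  let f : ↥uniSub ≃* ↥(S : Subgroup G) :=
    (MulEquiv.subgroupCongr hU).trans ((Sylow.equiv Q P).trans e.symm)
  have hmem : ∀ a b c : F4, Schur.LThreeFour.pu a b c ∈ uniSub := fun a b c => ⟨(a, b, c), rfl⟩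
  refine ⟨fun a b c => (f ⟨_, hmem a b c⟩ : G), ⟨fun a b c => (f _).2, fun g hg => ?_,
    fun a b c a' b' c' h => Schur.LThreeFour.pu_injective
      (congrArg Subtype.val (f.injective (Subtype.ext h))), fun a b c a' b' c' => ?_, hO⟩⟩
  · obtain ⟨⟨_, ⟨a, b, c⟩, rfl⟩, hx⟩ := f.surjective ⟨g, hg⟩
    exact ⟨a, b, c, congrArg Subtype.val hx⟩
  · rw [← Subgroup.coe_mul, ← map_mul]
    congr 2
    exact Subtype.ext (Schur.LThreeFour.pu_mul a b c a' b' c')

end CfsgLib.L34Sylow
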