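import Cfsg.Agent.Lib.L34Sylow.Swap
import Cfsg.Agent.Lib.L34Sylow.Start
import Cfsg.Agent.Lib.Base.Cores

/-!
# Groups whose Sylow two-subgroups are of type `PSL₃(4)`: assembly
-/

set_option autoImplicit false
set_option linter.style.haveILetI false

namespace CfsgLib.L34Sylow

open Cfsg Subgroup

universe u

/-- All pieces. -/
structure Pieces : Prop where
  facts : StmtFacts.{u}
  big : StmtBig.{u}
  ab : StmtAb.{u}
  centZ : StmtCentZ.{u}
  centT : StmtCentT.{u}
  klein : StmtKlein.{u}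
  ssFull : StmtSSFull.{u}
  indexFour : StmtIndexFour.{u}
  bsKill : StmtBSKill.{u}
  cores : StmtCores.{u}
  endSS : StmtEndSS.{u}
  endBS : StmtEndBS.{u}
  endLL : StmtEndLL.{u}
  embed : StmtEmbed.{u}

theorem tgood_of_not_hasMu (p : Pieces.{u}) {G : Type u} [Group G] [Finite G] {S : Sylow 2 G}
    {φ : F4 → F4 → F4 → G} (h : Setup S φ) (hA : Small φ) (hmu : ¬ HasMu S φ) :
    ∀ t ∈ SA φ, t ∉ SZ φ → TGood S φ t := by
  intro t ht ht'
  rcases p.centT p.facts G S φ h hA t ht ht' with ⟨-, e⟩ | ⟨A₀, L, M, iM, fM, π, hT⟩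
  · exact Or.inl e
  · obtain ⟨g, -, hg, m, hm, hs⟩ := hT.mu
    exact absurd ⟨g, hg, m, hm, hs⟩ hmu

theorem bs_case (p : Pieces.{u}) {G : Type u} [Group G] [Finite G] {S : Sylow 2 G}
    {φ : F4 → F4 → F4 → G} (h : Setup S φ) (ih : IH.{u} (Nat.card G)) (hA : Small φ)
    (hB : ¬ SmallB φ) : (SB φ).Normal := by
  have hg := p.bsKill p.facts p.big p.centZ p.centT p.klein G S φ h ih hA hB
  exact p.endBS p.facts p.big p.centZ G S φ h hA hB hg
    (p.cores p.facts p.big p.centZ G S φ h ih hg)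

theorem out_all (p : Pieces.{u}) : ∀ n : ℕ, ∀ (G : Type u) [Group G] [Finite G], Nat.card G = n →
    ∀ (S : Sylow 2 G) (φ : F4 → F4 → F4 → G), Setup S φ → Out S φ := by
  intro n
  induction n using Nat.strong_induction_on with
  | _ n ih =>
  intro G _ _ hn S φ h
  have ih' : IH.{u} (Nat.card G) := fun H _ _ hH => ih _ (hn ▸ hH) H rfl
  refine ⟨fun hA hB => ?_, bs_case p h ih', fun hA hB => ?_, fun hA hB => ?_⟩
  · by_cases hmu : HasMu S φ
    · by_cases hlam : HasLam S φ
      · have hg := p.ssFull p.facts p.centZ p.centT p.klein G S φ h hA hB hlam hmu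
        exact p.endSS p.facts p.centZ G S φ h hA hB hg
          (p.cores p.facts p.big p.centZ G S φ h ih' hg)
      · exact p.indexFour p.facts p.ab G S φ h hA hB hmu hlam
    · by_cases hlam : HasLam S φ
      · exact p.indexFour p.facts p.ab G S (swap φ) h.swap ((small_swap φ).2 hB)
          ((smallB_swap φ).2 hA) ((hasMu_swap h).2 hlam) fun e => hmu ((hasLam_swap h).1 e)
      · have hg : AllGood S φ := by
          refine ⟨fun _ => tgood_of_not_hasMu p h hA hmu, fun _ t ht ht' => ?_⟩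
          refine tgood_of_not_hasMu p h.swap ((small_swap φ).2 hB)
            (fun e => hlam ((hasMu_swap h).1 e)) t ?_ ?_
          · rwa [SA_swap]
          · rwa [SZ_swap]
        exact p.endSS p.facts p.centZ G S φ h hA hB hg
          (p.cores p.facts p.big p.centZ G S φ h ih' hg)
  · have := bs_case p h.swap ih' ((small_swap φ).2 hB) fun e => hA ((smallB_swap φ).1 e)
    rwa [SB_swap] at this
  · have hg : AllGood S φ := ⟨fun e => absurd e hA, fun e => absurd e hB⟩
    exact p.endLL p.facts p.big p.centZ G S φ h ih' hA hB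
      (p.cores p.facts p.big p.centZ G S φ h ih' hg)

/-- The isomorphism of special linear groups given by an isomorphism of fields. -/
def slEquiv {F K : Type*} [Field F] [Field K] (σ : F ≃+* K) :
    Matrix.SpecialLinearGroup (Fin 3) F ≃* Matrix.SpecialLinearGroup (Fin 3) K :=
  MonoidHom.toMulEquiv (Matrix.SpecialLinearGroup.map (σ : F →+* K))
    (Matrix.SpecialLinearGroup.map (σ.symm : K →+* F))
    (MonoidHom.ext fun x => Subtype.ext (Matrix.ext fun i j => by simp))
    (MonoidHom.ext fun x => Subtype.ext (Matrix.ext fun i j => by simp))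

theorem map_center {X Y : Type*} [Group X] [Group Y] (e : X ≃* Y) :
    (Subgroup.center X).map e.toMonoidHom = Subgroup.center Y := by
  ext g
  obtain ⟨g, rfl⟩ := e.surjective g
  simp only [Subgroup.mem_map_equiv, MulEquiv.symm_apply_apply, Subgroup.mem_center_iff]
  exact ⟨fun h x => by
    obtain ⟨x, rfl⟩ := e.surjective x
    rw [← map_mul, h, map_mul], fun h x => e.injective (by rw [map_mul, h, map_mul])⟩

/-- The theorem, given the pieces. -/
theorem main (p : Pieces.{u}) {G : Type u} [Group G] [Finite G] {F : Type*} [Field F] [Fintype F]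
    (hF : Fintype.card F = 4) (S : Sylow 2 G)
    (P : Sylow 2 (Matrix.ProjectiveSpecialLinearGroup (Fin 3) F))
    (hS : Nonempty (↥(S : Subgroup G) ≃* ↥(P : Subgroup (Matrix.ProjectiveSpecialLinearGroup (Fin 3) F)))) :
    ∃ f : G ⧸ Cfsg.oddCore G →* GL (Fin 3) F ⧸ Subgroup.center (GL (Fin 3) F),
      Function.Injective f := by
  haveI : Fact (Nat.Prime 2) := ⟨Nat.prime_two⟩
  obtain ⟨σ⟩ : Nonempty (F ≃+* F4) :=
    ⟨FiniteField.ringEquivOfCardEq (hF.trans CfsgLib.Spor.QField.card_eq.symm)⟩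
  obtain ⟨e⟩ := hS
  let q := QuotientGroup.mk' (oddCore G)
  let S' : Sylow 2 (G ⧸ oddCore G) := S.mapSurjective (QuotientGroup.mk'_surjective _)
  have hinj : Function.Injective (q.comp (S : Subgroup G).subtype) := by
    refine (injective_iff_map_eq_one _).2 fun x hx => Subtype.ext ?_
    have h1 : (x : G) ∈ oddCore G := (QuotientGroup.eq_one_iff _).1 hx
    obtain ⟨k, hk⟩ := S.2 x
    have h2 : orderOf (x : G) ∣ 2 ^ k := orderOf_dvd_of_pow_eq_one (congrArg Subtype.val hk)
    have h3 : (Nat.card ↥(oddCore G)).Coprime 2 :=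
      Base.pPrimeCore_coprime 2 G
    have h4 : orderOf (x : G) ∣ Nat.card ↥(oddCore G) := Subgroup.orderOf_dvd_natCard _ h1
    exact orderOf_eq_one_iff.1 (Nat.eq_one_of_dvd_coprimes (h3.pow_right k) h4 h2)
  have eS : ↥(S : Subgroup G) ≃* ↥(S' : Subgroup (G ⧸ oddCore G)) :=
    (MonoidHom.ofInjective hinj).trans (MulEquiv.subgroupCongr
      (show (q.comp (S : Subgroup G).subtype).range = ↑S' by
        rw [MonoidHom.range_comp, Subgroup.range_subtype]
        rfl))
  let mpsl : Matrix.ProjectiveSpecialLinearGroup (Fin 3) F ≃* PSL34 :=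
    QuotientGroup.congr _ _ (slEquiv σ) (map_center (slEquiv σ))
  let P' : Sylow 2 PSL34 := P.mapSurjective (f := mpsl.toMonoidHom) mpsl.surjective
  have eP : ↥(P : Subgroup (Matrix.ProjectiveSpecialLinearGroup (Fin 3) F)) ≃* ↥(P' : Subgroup PSL34) :=
    (mpsl.subgroupMap _).trans (MulEquiv.subgroupCongr rfl)
  obtain ⟨φ, hφ⟩ := start (G ⧸ oddCore G) (Base.pPrimeCore_quotient_pPrimeCore 2 G) S' P'
    ⟨eS.symm.trans (e.trans eP)⟩
  obtain ⟨f, hf⟩ := p.embed p.facts p.big (G ⧸ oddCore G) S' φ hφ (out_all p _ _ rfl S' φ hφ)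
  let gl : GL (Fin 3) F4 ≃* GL (Fin 3) F := Units.mapEquiv σ.symm.mapMatrix.toMulEquiv
  have hmap := map_center gl
  exact ⟨(QuotientGroup.congr _ _ gl hmap).toMonoidHom.comp f,
    (QuotientGroup.congr _ _ gl hmap).injective.comp hf⟩

end CfsgLib.L34Sylow
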