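import Cfsg.Agent.Lib.L34Sylow.SSFullClasses

/-!
# Piece 6a: pairs inside the centraliser of a central involution

Modulo `O(C(z))` the centraliser of `z` acts on `S` through elements fixing the centre, so the
pairs are read off from the coordinates.
-/

set_option autoImplicit false
set_option linter.style.haveILetI false
set_option linter.unusedSectionVars false

namespace CfsgLib.L34Sylow.SSFull

open Cfsg Subgroup

universe u

variable {G : Type u} [Group G] [Finite G] {S : Sylow 2 G} {φ : F4 → F4 → F4 → G}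

theorem S_le_cz (h : Setup S φ) {c₀ : F4} : (S : Subgroup G) ≤ cz (φ 0 0 c₀) := fun s hs => by
  obtain ⟨a, b, c, rfl⟩ := h.surj s hs
  exact mem_centralizer_singleton_iff.2 (comm_Z h a b c c₀).eq

theorem eq_one_of_mem_core {c₀ : F4} {s : G} (hs : s ∈ S) (hx : s ∈ core (φ 0 0 c₀)) : s = 1 := by
  haveI : Fact (Nat.Prime 2) := ⟨Nat.prime_two⟩
  obtain ⟨k, hk⟩ := IsPGroup.iff_orderOf.1 S.2 ⟨s, hs⟩
  rw [Subgroup.orderOf_mk] at hk
  have h := odd_order_of_mem (odd_core _) hx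
  rw [hk] at h
  rcases Nat.eq_zero_or_pos k with rfl | hk'
  · exact orderOf_eq_one_iff.1 (by simpa using hk)
  · exact absurd h (Nat.not_odd_iff_even.2 ((Nat.even_pow).2 ⟨even_two, by omega⟩))

theorem coset_eq {c₀ : F4} {s s' v : G} (hs : s ∈ S) (hs' : s' ∈ S)
    (h : v * s⁻¹ ∈ core (φ 0 0 c₀)) (h' : v * s'⁻¹ ∈ core (φ 0 0 c₀)) : s = s' := by
  have e := mul_mem (inv_mem h') h
  rw [show (v * s'⁻¹)⁻¹ * (v * s⁻¹) = s' * s⁻¹ by group] at e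
  exact (mul_inv_eq_one.1 (eq_one_of_mem_core (mul_mem hs' (inv_mem hs)) e)).symm

/-- Powers of an element of `S` lying over both quotients. -/
theorem pow_shape (h : Setup S φ) (a b c : F4) (k : ℕ) :
    φ a b c ^ k = 1 ∨ φ a b c ^ k = φ 0 0 (a * b) ∨
      ∃ c', φ a b c ^ k = φ a b c' := by
  have hp : ∀ i : ℕ, φ 0 0 (a * b) ^ i = 1 ∨ φ 0 0 (a * b) ^ i = φ 0 0 (a * b) := by
    intro i
    induction i with
    | zero => exact Or.inl (pow_zero _)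
    | succ i ih =>
      rw [pow_succ]
      rcases ih with e | e <;> rw [e]
      · exact Or.inr (one_mul _)
      · exact Or.inl (sq_A h 0 _)
  obtain ⟨i, rfl | rfl⟩ : ∃ i, k = 2 * i ∨ k = 2 * i + 1 := ⟨k / 2, by omega⟩
  · rw [pow_mul, sq, sq_eq h]
    exact (hp i).elim Or.inl (fun e => Or.inr (Or.inl e))
  · rw [pow_succ, pow_mul, sq, sq_eq h]
    refine Or.inr (Or.inr ?_)
    rcases hp i with e | e <;> rw [e]
    · exact ⟨c, one_mul _⟩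
    · exact ⟨a * b + c, by rw [h.mul]; simp⟩

section

variable (C : Ctx S φ) (hCZ : StmtCentZ.{u}) (hF : StmtFacts.{u}) {c₀ : F4} (hc₀ : c₀ ≠ 0)
include C hCZ hF hc₀

theorem decompose_cz {g : G} (hg : g ∈ cz (φ 0 0 c₀)) :
    ∃ x ∈ core (φ 0 0 c₀), ∃ n ∈ normalizer (S : Set G), n ∈ cz (φ 0 0 c₀) ∧ g = x * n :=
  hCZ hF G S φ C.hS _ ((C.F.mem_Z _).2 ⟨c₀, rfl⟩) (fun e => hc₀ ((eq_one_iff C.hS).1 e).2.2) g hg

/-- An involution of `C(z)` lies over an element of `S`. -/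
theorem coset_rep {v : G} (hv : v ∈ cz (φ 0 0 c₀)) (h2 : orderOf v = 2) :
    ∃ s ∈ S, ∃ y ∈ core (φ 0 0 c₀), v = cj y s := by
  haveI : Fact (Nat.Prime 2) := ⟨Nat.prime_two⟩
  set z := φ 0 0 c₀
  have hp : IsPGroup 2 (zpowers (⟨v, hv⟩ : cz z)) := by
    refine IsPGroup.of_card (n := 1) ?_
    rw [Nat.card_zpowers, Subgroup.orderOf_mk, h2, pow_one]
  obtain ⟨R, hR⟩ := hp.exists_le_sylow
  obtain ⟨g, hg⟩ := MulAction.exists_smul_eq (cz z) R (S.subtype (S_le_cz C.hS))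
  have h : g * (⟨v, hv⟩ : cz z) * g⁻¹ ∈ ((S.subtype (S_le_cz C.hS) : Sylow 2 (cz z)) : Subgroup (cz z)) := by
    rw [← hg, Sylow.coe_subgroup_smul]
    exact ⟨⟨v, hv⟩, hR (mem_zpowers _), rfl⟩
  have hs : (g : G) * v * (g : G)⁻¹ ∈ S := h
  obtain ⟨x, hx, n, hn, hnz, e⟩ := decompose_cz C hCZ hF hc₀ g.2
  refine ⟨n⁻¹ * ((g : G) * v * (g : G)⁻¹) * n, ?_, n⁻¹ * x⁻¹ * n, ?_, ?_⟩
  · have := (mem_normalizer_iff.1 (inv_mem hn) _).1 hs
    rwa [inv_inv] at this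
  · have := (mem_normalizer_iff.1 (inv_mem (cz_le_norm_core z hnz)) _).1 (inv_mem hx)
    simpa using this
  · rw [cj, e]
    group

theorem mem_coset {s y : G} (hs : s ∈ S) (hy : y ∈ core (φ 0 0 c₀)) :
    cj y s * s⁻¹ ∈ core (φ 0 0 c₀) := by
  rw [cj, show y * s * y⁻¹ * s⁻¹ = y * (s * y⁻¹ * s⁻¹) by group]
  exact mul_mem hy
    ((mem_normalizer_iff.1 (cz_le_norm_core _ (S_le_cz C.hS hs)) _).1 (inv_mem hy))

theorem rep_Z {c : F4} (hc : c ≠ 0) {v : G} (hv : v ∈ cz (φ 0 0 c₀))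
    (h : IsConj (φ 0 0 c) v) : ∃ x, v * (φ 0 0 x)⁻¹ ∈ core (φ 0 0 c₀) := by
  obtain ⟨s, hs, y, hy, rfl⟩ := coset_rep C hCZ hF hc₀ hv ((ord_of_conj h).trans (C.ord_Z hc))
  have hsv : IsConj (φ 0 0 c) s := h.trans (isConj_iff.2 ⟨y, rfl⟩).symm
  have hm := mem_coset C hCZ hF hc₀ hs hy
  rcases C.invol_cases hs ((ord_of_conj hsv).trans (C.ord_Z hc)) with
    ⟨x, -, rfl⟩ | ⟨a, x, ha, rfl⟩ | ⟨b, x, hb, rfl⟩
  · exact ⟨x, hm⟩
  · exact absurd hsv (C.not_conj_ZA ha x hc)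
  · exact absurd hsv (C.not_conj_ZB hb x hc)

theorem rep_A {a c : F4} (ha : a ≠ 0) {v : G} (hv : v ∈ cz (φ 0 0 c₀))
    (h : IsConj (φ a 0 c) v) : ∃ a' x, a' ≠ 0 ∧ v * (φ a' 0 x)⁻¹ ∈ core (φ 0 0 c₀) ∧
      ∃ g ∈ cz (φ 0 0 c₀), cj g (φ a 0 c) = v := by
  obtain ⟨s, hs, y, hy, rfl⟩ := coset_rep C hCZ hF hc₀ hv ((ord_of_conj h).trans (C.ord_A ha c))
  have hsv : IsConj (φ a 0 c) s := h.trans (isConj_iff.2 ⟨y, rfl⟩).symm
  have hm := mem_coset C hCZ hF hc₀ hs hy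
  rcases C.invol_cases hs ((ord_of_conj hsv).trans (C.ord_A ha c)) with
    ⟨x, hx, rfl⟩ | ⟨a', x, ha', rfl⟩ | ⟨b, x, hb, rfl⟩
  · exact absurd hsv.symm (C.not_conj_ZA ha c hx)
  · obtain ⟨n, -, hnz, e⟩ := C.conj_A ha ha' c x
    refine ⟨a', x, ha', hm, y * n,
      mul_mem (core_le _ hy) (mem_centralizer_singleton_iff.2 (hnz c₀).eq), ?_⟩
    rw [← e]
    simp only [cj]
    group
  · exact absurd hsv (C.not_conj_AB ha hb c x)

/-- A power of a product lying over `(a, b)`. -/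
theorem z_mem_iff {u v : G} {a b x y : F4}
    (hu : u * (φ a 0 x)⁻¹ ∈ core (φ 0 0 c₀)) (hv : v * (φ 0 b y)⁻¹ ∈ core (φ 0 0 c₀))
    (ha : a ≠ 0) : φ 0 0 c₀ ∈ zpowers (u * v) ↔ a * b = c₀ := by
  set z := φ 0 0 c₀ with hz
  have hN : ∀ s ∈ S, s ∈ normalizer (core z : Set G) := fun s hs =>
    cz_le_norm_core z (S_le_cz C.hS hs)
  have h1 : u * v * (φ a 0 x * φ 0 b y)⁻¹ ∈ core z := mul_mod (hN _ (C.hS.mem ..)) hu hv
  rw [C.hS.mul, add_zero, zero_add] at h1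
  set c := x + y + a * b
  have hp := fun k => pow_mod (hN _ (C.hS.mem a b c)) h1 k
  constructor
  · intro h
    obtain ⟨k, hk⟩ := exists_pow_of_mem_zpowers h
    have hz1 : z * z⁻¹ ∈ core z := by rw [mul_inv_cancel]; exact one_mem _
    have := hp k
    rw [hk] at this
    have e := coset_eq (C.hS.mem 0 0 c₀) (pow_mem (C.hS.mem a b c) k) hz1 this
    rcases pow_shape C.hS a b c k with e' | e' | ⟨c', e'⟩ <;> rw [e'] at e
    · exact absurd ((eq_one_iff C.hS).1 e).2.2 hc₀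
    · exact (C.hS.inj _ _ _ _ _ _ e).2.2.symm
    · exact absurd (C.hS.inj _ _ _ _ _ _ e).1.symm ha
  · intro h
    have h2 := hp 2
    rw [show φ a b c ^ 2 = z by rw [sq, sq_eq C.hS, h, hz]] at h2
    set w := (u * v) ^ 2 * z⁻¹ with hw
    obtain ⟨i, hi⟩ := odd_order_of_mem (odd_core z) h2
    have hcw : Commute w z := mem_centralizer_singleton_iff.1 (core_le z h2)
    have e : (u * v) ^ (2 * orderOf w) = z := by
      rw [pow_mul, show (u * v) ^ 2 = w * z by rw [hw, inv_mul_cancel_right], hcw.mul_pow,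
        pow_orderOf_eq_one, one_mul, hi, pow_succ, pow_mul, sq,
        show z * z = 1 from sq_A C.hS 0 c₀, one_pow, one_mul]
    rw [← e]
    exact pow_mem (mem_zpowers _) _

/-- The central involution is in no product of its class and one of the other classes. -/
theorem rel_zaz {a c : F4} (ha : a ≠ 0) :
    Nat.card (Rel (φ 0 0 c₀) (φ a 0 c) (φ 0 0 c₀)) = 0 := by
  refine Nat.card_eq_zero.2 (Or.inl ⟨?_⟩)
  rintro ⟨⟨u, v⟩, hu, hv, hz⟩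
  obtain ⟨h1, h2⟩ := comm_of_mem_dihedral (sq_of_ord ((ord_of_conj hu).trans (C.ord_Z hc₀)))
    (sq_of_ord ((ord_of_conj hv).trans (C.ord_A ha c))) (sq_A C.hS 0 c₀) hz
  obtain ⟨x, hx⟩ := rep_Z C hCZ hF hc₀ hc₀ (mem_centralizer_singleton_iff.2 h1.eq.symm) hu
  obtain ⟨a', y, ha', hy, -⟩ := rep_A C hCZ hF hc₀ ha (mem_centralizer_singleton_iff.2 h2.eq.symm) hv
  set z := φ 0 0 c₀
  have hN : ∀ s ∈ S, s ∈ normalizer (core z : Set G) := fun s hs =>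
    cz_le_norm_core z (S_le_cz C.hS hs)
  have e1 : u * v * (φ 0 0 x * φ a' 0 y)⁻¹ ∈ core z := mul_mod (hN _ (C.hS.mem ..)) hx hy
  obtain ⟨k, hk⟩ := exists_pow_of_mem_zpowers hz
  have e2 := pow_mod (mul_mem (hN _ (C.hS.mem 0 0 x)) (hN _ (C.hS.mem a' 0 y))) e1 k
  rw [hk] at e2
  have hz1 : z * z⁻¹ ∈ core z := by rw [mul_inv_cancel]; exact one_mem _
  have e := coset_eq (C.hS.mem 0 0 c₀)
    (pow_mem (mul_mem (C.hS.mem 0 0 x) (C.hS.mem a' 0 y)) k) hz1 e2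
  rw [C.hS.mul] at e
  rcases pow_shape C.hS (0 + a') (0 + 0) (x + y + 0 * 0) k with e' | e' | ⟨c', e'⟩ <;> rw [e'] at e
  · exact hc₀ ((eq_one_iff C.hS).1 e).2.2
  · simp only [add_zero, mul_zero] at e
    exact hc₀ (C.hS.inj _ _ _ _ _ _ e).2.2
  · simp only [zero_add] at e
    exact ha' (C.hS.inj _ _ _ _ _ _ e).1.symm

/-- Conjugates of an element of the first side in `C(z)` with a given coordinate. -/
theorem class_fibres {a c : F4} (ha : a ≠ 0) :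
    ∃ (f : {v : G // v ∈ cz (φ 0 0 c₀) ∧ IsConj (φ a 0 c) v} → {x : F4 // x ≠ 0}) (n : ℕ),
      (∀ v, ∃ y, v.1 * (φ (f v).1 0 y)⁻¹ ∈ core (φ 0 0 c₀)) ∧
      (∀ x, Nat.card {v // f v = x} = n) ∧
      Nat.card {v : G // v ∈ cz (φ 0 0 c₀) ∧ IsConj (φ a 0 c) v} = 3 * n ∧
      Nat.card {v : G // v ∈ cz (φ 0 0 c₀) ∧ IsConj (φ a 0 c) v} *
        Nat.card (cz (φ 0 0 c₀) ⊓ cz (φ a 0 c) : Subgroup G) = Nat.card (cz (φ 0 0 c₀)) := by
  classical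
  set z := φ 0 0 c₀ with hz
  set K := {v : G // v ∈ cz z ∧ IsConj (φ a 0 c) v}
  have hrep : ∀ v : K, ∃ x : {x : F4 // x ≠ 0}, ∃ y, v.1 * (φ x.1 0 y)⁻¹ ∈ core z := fun v => by
    obtain ⟨a', y, ha', hm, -⟩ := rep_A C hCZ hF hc₀ ha v.2.1 v.2.2
    exact ⟨⟨a', ha'⟩, y, hm⟩
  choose f hf using hrep
  obtain ⟨d, hd, l, m, hl, hlm, sd⟩ := C.exists_d
  have hdz : d ∈ cz z := by
    have := sd.2.2.2 c₀
    rw [hlm, one_mul] at this
    exact mem_centralizer_singleton_iff.2 (mul_inv_eq_iff_eq_mul.1 this)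
  let g : K → K := fun v => ⟨cj d v.1, mul_mem (mul_mem hdz v.2.1) (inv_mem hdz),
    v.2.2.trans (isConj_iff.2 ⟨d, rfl⟩)⟩
  have hg : Function.Injective g := fun v w e => by
    refine Subtype.ext ?_
    have e' : d * v.1 * d⁻¹ = d * w.1 * d⁻¹ := congrArg Subtype.val e
    exact mul_left_cancel (mul_right_cancel e')
  have hfg : ∀ v, (f (g v)).1 = l * (f v).1 := by
    intro v
    obtain ⟨y, hy⟩ := hf v
    obtain ⟨y', hy'⟩ := hf (g v)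
    obtain ⟨y'', hy''⟩ := scal_A C.hS sd (f v).1 y
    have h1 : cj d v.1 * (φ (l * (f v).1) 0 y'')⁻¹ ∈ core z := by
      rw [← hy'']
      have := (mem_normalizer_iff.1 (cz_le_norm_core z hdz) _).1 hy
      simp only [cj]
      rwa [show d * v.1 * d⁻¹ * (d * φ (f v).1 0 y * d⁻¹)⁻¹ =
        d * (v.1 * (φ (f v).1 0 y)⁻¹) * d⁻¹ by group]
    exact (C.hS.inj _ _ _ _ _ _
      (coset_eq (C.hS.mem (l * (f v).1) 0 y'') (C.hS.mem (f (g v)).1 0 y') h1 hy')).1.symm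
  let N : {x : F4 // x ≠ 0} → ℕ := fun x => Nat.card {v // f v = x}
  have hstep : ∀ x, N x ≤ N ⟨l * x.1, mul_ne_zero sd.1 x.2⟩ := fun x =>
    Nat.card_le_card_of_injective
      (fun v : {v // f v = x} => (⟨g v.1, Subtype.ext (by rw [hfg, v.2])⟩ :
        {v // f v = (⟨l * x.1, mul_ne_zero sd.1 x.2⟩ : {x : F4 // x ≠ 0})}))
      fun v w e => Subtype.ext (hg (congrArg Subtype.val e))
  have hle : ∀ x x', N x ≤ N x' := by
    intro x x'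
    rcases f4_cases l sd.1 hl x.1 x'.1 x.2 x'.2 with e | e | e
    · rw [show x' = x from Subtype.ext e]
    · exact (hstep x).trans (le_of_eq (congrArg N (Subtype.ext e.symm)))
    · exact ((hstep x).trans (hstep _)).trans (le_of_eq (congrArg N (Subtype.ext e.symm)))
  set n := N ⟨1, one_ne_zero⟩ with hn
  refine ⟨f, n, hf, fun x => le_antisymm (hle x _) (hle _ x), ?_, ?_⟩
  · rw [← Nat.card_congr (Equiv.sigmaFiberEquiv f), Nat.card_sigma]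
    rw [Finset.sum_congr rfl (fun x _ => (le_antisymm (hle x _) (hle _ x) : N x = n)),
      Finset.sum_const, Finset.card_univ, smul_eq_mul]
    congr 1
  · have htz : φ a 0 c ∈ cz z := S_le_cz C.hS (C.hS.mem a 0 c)
    exact card_conj_class {v : G | v ∈ cz z ∧ IsConj (φ a 0 c) v}
      (fun k hk => ⟨mul_mem (mul_mem hk htz) (inv_mem hk), isConj_iff.2 ⟨k, rfl⟩⟩)
      (fun v hv => by
        obtain ⟨-, -, -, -, k, hk, e⟩ := rep_A C hCZ hF hc₀ ha hv.1 hv.2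
        exact ⟨k, hk, e⟩)

/-- The same for the second side. -/
theorem class_fibres_B {b c : F4} (hb : b ≠ 0) :
    ∃ (f : {v : G // v ∈ cz (φ 0 0 c₀) ∧ IsConj (φ 0 b c) v} → {x : F4 // x ≠ 0}) (n : ℕ),
      (∀ v, ∃ y, v.1 * (φ 0 (f v).1 y)⁻¹ ∈ core (φ 0 0 c₀)) ∧
      (∀ x, Nat.card {v // f v = x} = n) ∧
      Nat.card {v : G // v ∈ cz (φ 0 0 c₀) ∧ IsConj (φ 0 b c) v} = 3 * n ∧
      Nat.card {v : G // v ∈ cz (φ 0 0 c₀) ∧ IsConj (φ 0 b c) v} *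
        Nat.card (cz (φ 0 0 c₀) ⊓ cz (φ 0 b c) : Subgroup G) = Nat.card (cz (φ 0 0 c₀)) := by
  have hswap : ∀ x y : F4, L34Sylow.swap φ x 0 y = φ 0 x y := fun x y => by simp [L34Sylow.swap]
  rw [← hswap 0 c₀, ← hswap b c]
  obtain ⟨f, n, hf, hn, hcard, horb⟩ := class_fibres (C.swap hF) hCZ hF hc₀ (c := c) hb
  refine ⟨f, n, fun v => ?_, hn, hcard, horb⟩
  obtain ⟨y, hy⟩ := hf v
  exact ⟨y, by rwa [← hswap]⟩

/-- The pairs of the two sides over the central involution. -/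
theorem rel_abz {a c b c' : F4} (ha : a ≠ 0) (hb : b ≠ 0) :
    3 * Nat.card (Rel (φ a 0 c) (φ 0 b c') (φ 0 0 c₀)) =
      Nat.card {v : G // v ∈ cz (φ 0 0 c₀) ∧ IsConj (φ a 0 c) v} *
        Nat.card {v : G // v ∈ cz (φ 0 0 c₀) ∧ IsConj (φ 0 b c') v} := by
  classical
  obtain ⟨f, n, hf, hn, hcard, -⟩ := class_fibres C hCZ hF hc₀ (c := c) ha
  obtain ⟨f', n', hf', hn', hcard', -⟩ := class_fibres_B C hCZ hF hc₀ (c := c') hb
  have h2 : ∀ u v : G, IsConj (φ a 0 c) u → IsConj (φ 0 b c') v →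
      φ 0 0 c₀ ∈ zpowers (u * v) → u ∈ cz (φ 0 0 c₀) ∧ v ∈ cz (φ 0 0 c₀) := fun u v hu hv hz => by
    obtain ⟨h1, h2⟩ := comm_of_mem_dihedral (sq_of_ord ((ord_of_conj hu).trans (C.ord_A ha c)))
      (sq_of_ord ((ord_of_conj hv).trans (ord_of_sq (by rw [sq_eq C.hS, zero_mul, one_eq C.hS])
        fun e => hb ((eq_one_iff C.hS).1 e).2.1))) (sq_A C.hS 0 c₀) hz
    exact ⟨mem_centralizer_singleton_iff.2 h1.eq.symm, mem_centralizer_singleton_iff.2 h2.eq.symm⟩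
  have e : Rel (φ a 0 c) (φ 0 b c') (φ 0 0 c₀) ≃
      {p : {v : G // v ∈ cz (φ 0 0 c₀) ∧ IsConj (φ a 0 c) v} ×
        {v : G // v ∈ cz (φ 0 0 c₀) ∧ IsConj (φ 0 b c') v} // (f p.1).1 * (f' p.2).1 = c₀} :=
    { toFun := fun q => ⟨(⟨q.1.1, (h2 _ _ q.2.1 q.2.2.1 q.2.2.2).1, q.2.1⟩,
          ⟨q.1.2, (h2 _ _ q.2.1 q.2.2.1 q.2.2.2).2, q.2.2.1⟩), by
        obtain ⟨y, hy⟩ := hf ⟨q.1.1, (h2 _ _ q.2.1 q.2.2.1 q.2.2.2).1, q.2.1⟩
        obtain ⟨y', hy'⟩ := hf' ⟨q.1.2, (h2 _ _ q.2.1 q.2.2.1 q.2.2.2).2, q.2.2.1⟩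
        exact (z_mem_iff C hCZ hF hc₀ hy hy' (f _).2).1 q.2.2.2⟩
      invFun := fun p => ⟨(p.1.1.1, p.1.2.1), p.1.1.2.2, p.1.2.2.2, by
        obtain ⟨y, hy⟩ := hf p.1.1
        obtain ⟨y', hy'⟩ := hf' p.1.2
        exact (z_mem_iff C hCZ hF hc₀ hy hy' (f _).2).2 p.2⟩
      left_inv := fun q => rfl
      right_inv := fun p => rfl }
  have h3 : ∀ c : F4, c ≠ 0 →
      Fintype.card {p : {x : F4 // x ≠ 0} × {x : F4 // x ≠ 0} // p.1.1 * p.2.1 = c} = 3 := by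
    decide
  rw [Nat.card_congr e, card_pairs_eq f f' n n' hn hn' (fun x y => x.1 * y.1 = c₀), hcard, hcard',
    Nat.card_eq_fintype_card, h3 c₀ hc₀]
  ring

end

end CfsgLib.L34Sylow.SSFull
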