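import Cfsg.Agent.Lib.L34Sylow.SSFullCentT
import Cfsg.Agent.Lib.L34Sylow.SSFullCentZ

/-!
# Piece 6a: both sides small and the full group of scalars

The order formula for the pairs `(z, t)` and `(t, b)` gives `3 q P = q' J'`; with the same for
the two sides exchanged and `J ≤ 3 P` this forces `J = 3 P`, so both quotients are `A₄`.
-/

set_option autoImplicit false
set_option linter.style.haveILetI false
set_option linter.unusedSectionVars false

namespace CfsgLib.L34Sylow

open Cfsg Subgroup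

universe u

namespace SSFull

variable {G : Type u} [Group G] [Finite G] {S : Sylow 2 G} {φ : F4 → F4 → F4 → G}

/-- The formulas for one pair of sides. -/
theorem pair_formula (hF : StmtFacts.{u}) (hCZ : StmtCentZ.{u}) (hCT : StmtCentT.{u})
    (hK : StmtKlein.{u}) (C : Ctx S φ) {a b c c' : F4} (ha : a ≠ 0) (hb : b ≠ 0) :
    ∃ q J P q' J' P' : ℕ, 0 < q ∧ 0 < J ∧ 0 < q' ∧ 0 < J' ∧ J ≤ 3 * P ∧ J' ≤ 3 * P' ∧
      (J = 3 * P → TGood S φ (φ a 0 c)) ∧
      (J' = 3 * P' → TGood S (L34Sylow.swap φ) (φ 0 b c')) ∧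
      3 * (q * P) = q' * J' ∧ 3 * (q' * P') = q * J := by
  classical
  have Cs := C.swap hF
  obtain ⟨A₀, L, M, _, _, π, T⟩ :=
    (hCT hF G S φ C.hS C.sA _ C.mem_SA (C.notMem_SZ ha c)).resolve_left fun h => h.1 C.mu
  obtain ⟨A₀', L', M', _, _, π', T'⟩ :=
    (hCT hF G S _ Cs.hS Cs.sA _ Cs.mem_SA (Cs.notMem_SZ hb c')).resolve_left fun h => h.1 Cs.mu
  obtain ⟨q, J, P, hq, hJ, hct, hr, hJP, hgood⟩ := count C (c₀ := 1) one_ne_zero ha T hK
  obtain ⟨q', J', P', hq', hJ', hct', hr', hJP', hgood'⟩ :=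
    count Cs (c₀ := 1) one_ne_zero hb T' hK
  have hswap : ∀ x y : F4, L34Sylow.swap φ x 0 y = φ 0 x y := fun x y => by simp [L34Sylow.swap]
  rw [hswap] at hct' hr' hgood'
  rw [hswap] at hct' hr'
  set t := φ a 0 c with ht
  set b' := φ 0 b c' with hb'
  set z := φ 0 0 (1 : F4) with hz
  have hot : orderOf t = 2 := C.ord_A ha c
  have hob : orderOf b' = 2 := by
    have := Cs.ord_A hb c'
    rwa [hswap] at this
  have hoz : orderOf z = 2 := C.ord_Z one_ne_zero
  have nzt : ¬ IsConj z t := C.not_conj_ZA ha c one_ne_zero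
  have nzb : ¬ IsConj z b' := C.not_conj_ZB hb c' one_ne_zero
  have ntb : ¬ IsConj t b' := C.not_conj_AB ha hb c c'
  have hW2 : ∀ w ∈ ({z, t, b'} : Finset G), orderOf w = 2 := by
    intro w hw
    simp only [Finset.mem_insert, Finset.mem_singleton] at hw
    rcases hw with rfl | rfl | rfl <;> assumption
  have hrep : ∀ g : G, orderOf g = 2 → ∃ w ∈ ({z, t, b'} : Finset G), IsConj g w ∧
      ∀ w' ∈ ({z, t, b'} : Finset G), IsConj g w' → w' = w := by
    intro g hg
    have key : ∀ w ∈ ({z, t, b'} : Finset G), ∀ w' ∈ ({z, t, b'} : Finset G), IsConj w w' → w' = w := by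
      intro w hw w' hw' h
      simp only [Finset.mem_insert, Finset.mem_singleton] at hw hw'
      rcases hw with rfl | rfl | rfl <;> rcases hw' with rfl | rfl | rfl <;>
        first
          | rfl
          | exact absurd h nzt
          | exact absurd h.symm nzt
          | exact absurd h nzb
          | exact absurd h.symm nzb
          | exact absurd h ntb
          | exact absurd h.symm ntb
    rcases C.classes hF (c₀ := 1) (ca := c) (cb := c') one_ne_zero ha hb g hg with h | h | h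
    · exact ⟨z, by simp, h.symm, fun w' hw' h' => key z (by simp) w' hw' (h.trans h')⟩
    · exact ⟨t, by simp, h.symm, fun w' hw' h' => key t (by simp) w' hw' (h.trans h')⟩
    · exact ⟨b', by simp, h.symm, fun w' hw' h' => key b' (by simp) w' hw' (h.trans h')⟩
  have notT : ∀ v, Commute b' v → ¬ IsConj t v := fun v hv h => by
    refine Cs.not_conj_in_cz hb ha c' c (v := v) ?_ ?_
    · rw [hswap]; exact mem_centralizer_singleton_iff.2 hv.eq.symm
    · simpa [L34Sylow.swap] using h
  have notB : ∀ v, Commute t v → ¬ IsConj b' v := fun v hv h =>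
    C.not_conj_in_cz ha hb c c' (mem_centralizer_singleton_iff.2 hv.eq.symm) h
  have zero : ∀ (x y w : G), orderOf x = 2 → orderOf y = 2 → orderOf w = 2 →
      (∀ v, Commute w v → ¬ IsConj x v) ∨ (∀ v, Commute w v → ¬ IsConj y v) →
      Nat.card (Rel x y w) = 0 := by
    intro x y w hx hy hw h
    refine Nat.card_eq_zero.2 (Or.inl ⟨?_⟩)
    rintro ⟨⟨u, v⟩, hu, hv, hwm⟩
    obtain ⟨h1, h2⟩ := comm_of_mem_dihedral (sq_of_ord ((ord_of_conj hu).trans hx))
      (sq_of_ord ((ord_of_conj hv).trans hy)) (sq_of_ord hw) hwm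
    exact h.elim (fun h => h u h1 hu) fun h => h v h2 hv
  -- the pairs `(z, t)`, `(z, b)` and `(t, b)`
  have f1 := order_formula hoz hot nzt _ hW2 hrep (w₀ := t) (by simp) (fun w hw hne => by
    simp only [Finset.mem_insert, Finset.mem_singleton] at hw
    rcases hw with rfl | rfl | rfl
    · exact rel_zaz C hCZ hF one_ne_zero ha
    · exact absurd rfl hne
    · exact zero z t b' hoz hot hob (Or.inr notT))
  have f2 := order_formula hoz hob nzb _ hW2 hrep (w₀ := b') (by simp) (fun w hw hne => by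
    simp only [Finset.mem_insert, Finset.mem_singleton] at hw
    rcases hw with rfl | rfl | rfl
    · have := rel_zaz Cs hCZ hF one_ne_zero (c := c') hb
      rw [hswap, hswap] at this
      exact this
    · exact zero z b' t hoz hob hot (Or.inr notB)
    · exact absurd rfl hne)
  have f3 := order_formula hot hob ntb _ hW2 hrep (w₀ := z) (by simp) (fun w hw hne => by
    simp only [Finset.mem_insert, Finset.mem_singleton] at hw
    rcases hw with rfl | rfl | rfl
    · exact absurd rfl hne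
    · exact zero t b' t hot hob hot (Or.inr notB)
    · exact zero t b' b' hot hob hob (Or.inl notT))
  obtain ⟨-, -, -, -, -, hk⟩ := class_fibres C hCZ hF (c₀ := 1) one_ne_zero (c := c) ha
  obtain ⟨-, -, -, -, -, hk'⟩ := class_fibres_B C hCZ hF (c₀ := 1) one_ne_zero (c := c') hb
  have h3 := rel_abz C hCZ hF (c₀ := 1) one_ne_zero (c := c) (c' := c') ha hb
  rw [← hz, ← ht] at hk
  rw [← hz, ← hb'] at hk'
  rw [← hz, ← ht, ← hb'] at h3
  rw [inf_comm] at hct hct'
  set E := Nat.card (cz z ⊓ cz t : Subgroup G)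
  set E' := Nat.card (cz z ⊓ cz b' : Subgroup G)
  set Cz := Nat.card (cz z)
  set K := Nat.card {v : G // v ∈ cz z ∧ IsConj t v}
  set K' := Nat.card {v : G // v ∈ cz z ∧ IsConj b' v}
  have hCz : 0 < Cz := Nat.card_pos
  have g1 : Nat.card G = Cz * (q * q * (J * P)) := by
    refine Nat.eq_of_mul_eq_mul_right (Nat.card_pos : 0 < Nat.card (cz t)) ?_
    rw [f1, hr]; ring
  have g2 : Nat.card G = Cz * (q' * q' * (J' * P')) := by
    refine Nat.eq_of_mul_eq_mul_right (Nat.card_pos : 0 < Nat.card (cz b')) ?_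
    rw [f2, hr']; ring
  have g3 : 3 * Nat.card G = q * J * (q' * J') * Cz := by
    refine Nat.eq_of_mul_eq_mul_right hCz ?_
    calc 3 * Nat.card G * Cz = Nat.card (cz t) * Nat.card (cz b') * (K * K') := by
          rw [← h3, mul_assoc 3, f3]; ring
      _ = q * J * (q' * J') * ((K * E) * (K' * E')) := by rw [hct, hct']; ring
      _ = _ := by rw [hk, hk']; ring
  refine ⟨q, J, P, q', J', P', hq, hJ, hq', hJ', hJP, hJP', hgood, hgood', ?_, ?_⟩
  · refine Nat.eq_of_mul_eq_mul_left (show 0 < Cz * q * J by positivity) ?_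
    rw [g1] at g3
    calc Cz * q * J * (3 * (q * P)) = 3 * (Cz * (q * q * (J * P))) := by ring
      _ = _ := by rw [g3]; ring
  · refine Nat.eq_of_mul_eq_mul_left (show 0 < Cz * q' * J' by positivity) ?_
    rw [g2] at g3
    calc Cz * q' * J' * (3 * (q' * P')) = 3 * (Cz * (q' * q' * (J' * P'))) := by ring
      _ = _ := by rw [g3]; ring

theorem good_of_pair {q J P q' J' P' : ℕ} (hq : 0 < q) (hq' : 0 < q')
    (h1 : J ≤ 3 * P) (h2 : J' ≤ 3 * P') (e1 : 3 * (q * P) = q' * J')
    (e2 : 3 * (q' * P') = q * J) : J = 3 * P ∧ J' = 3 * P' := by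
  have h : (3 * P) * (3 * P') = J * J' := by
    refine Nat.eq_of_mul_eq_mul_left (show 0 < q * q' by positivity) ?_
    calc q * q' * (3 * P * (3 * P')) = (3 * (q * P)) * (3 * (q' * P')) := by ring
      _ = _ := by rw [e1, e2]; ring
  refine ⟨le_antisymm h1 ?_, le_antisymm h2 ?_⟩
  · by_contra hlt
    nlinarith
  · by_contra hlt
    nlinarith

end SSFull

open SSFull in
/-- Piece 6a. -/
theorem ssFull : StmtSSFull.{u} := by
  intro hF hCZ hCT hK G _ _ S φ hS sA sB hl hm
  have C : Ctx S φ := ⟨hS, hF G S φ hS, sA, sB, hl, hm⟩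
  refine ⟨fun _ t ht htZ => ?_, fun _ t ht htZ => ?_⟩
  · obtain ⟨a, c, ha, rfl⟩ := C.coords_A ht htZ
    obtain ⟨q, J, P, q', J', P', hq, hJ, hq', hJ', h1, h2, hg, -, e1, e2⟩ :=
      pair_formula hF hCZ hCT hK C (c := c) (c' := 0) ha (one_ne_zero (α := F4))
    exact hg (good_of_pair hq hq' h1 h2 e1 e2).1
  · obtain ⟨b, c, hb, hbt⟩ := (C.swap hF).coords_A (t := t) (by rwa [SA_swap]) (by rwa [SZ_swap])
    have e : φ 0 b c = t := by rw [← hbt]; simp [L34Sylow.swap]
    subst e
    obtain ⟨q, J, P, q', J', P', hq, hJ, hq', hJ', h1, h2, -, hg, e1, e2⟩ :=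
      pair_formula hF hCZ hCT hK C (c := 0) (c' := c) (one_ne_zero (α := F4)) hb
    exact hg (good_of_pair hq hq' h1 h2 e1 e2).2

end CfsgLib.L34Sylow
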