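import Cfsg.Agent.Lib.L34Sylow.SSFullTools

/-!
# Piece 6a: products of two involutions with a Klein four Sylow subgroup

With `J` involutions and `r = |O(C(x)) : C(P)|`, at most `2 r²` involutions `m` make `x m` of
even order.
-/

set_option autoImplicit false
set_option linter.style.haveILetI false
set_option linter.unusedSectionVars false

namespace CfsgLib.L34Sylow.SSFull

open Cfsg Subgroup
open scoped Pointwise

universe u

variable {M : Type u} [Group M] [Finite M] {P : Subgroup M}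

/-- The involutions. -/
abbrev Inv (M : Type u) [Group M] : Type u := {m : M // orderOf m = 2}

section

variable (hK : KHyp P) (hdec : ∀ x ∈ P, x ≠ 1 → core x ⊔ P = cz x)
include hK

theorem P_sq {p : M} (hp : p ∈ P) : p * p = 1 := by
  haveI := hK.klein
  have h := Monoid.pow_exponent_eq_one (⟨p, hp⟩ : P)
  rw [IsKleinFour.exponent_two, sq] at h
  exact congrArg Subtype.val h

theorem P_comm {p q : M} (hp : p ∈ P) (hq : q ∈ P) : Commute p q := by
  have h1 := P_sq hK (mul_mem hp hq)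
  have e : p * q = q⁻¹ * p⁻¹ := by rw [← mul_inv_rev]; exact eq_inv_of_mul_eq_one_left h1
  rwa [inv_eq_of_mul_eq_one_right (P_sq hK hq), inv_eq_of_mul_eq_one_right (P_sq hK hp)] at e

theorem P_le_cz {p : M} (hp : p ∈ P) : P ≤ cz p := fun _ hq =>
  mem_centralizer_singleton_iff.2 (P_comm hK hq hp).eq

theorem card_P : Nat.card P = 4 := haveI := hK.klein; IsKleinFour.card_four

theorem P_eq {x : M} (hx : x ∈ P) (hx1 : x ≠ 1) :
    Nat.card {p : P // (p : M) ≠ 1 ∧ (p : M) ≠ x} = 2 := by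
  classical
  haveI := Fintype.ofFinite P
  rw [Nat.card_eq_fintype_card, Fintype.card_subtype]
  have : (Finset.univ.filter fun p : P => (p : M) ≠ 1 ∧ (p : M) ≠ x) =
      (Finset.univ.erase (1 : P)).erase ⟨x, hx⟩ := by
    ext p
    simp only [Finset.mem_filter, Finset.mem_univ, true_and, Finset.mem_erase, and_true, ne_eq,
      Subtype.ext_iff, OneMemClass.coe_one]
    exact ⟨fun h => ⟨h.2, h.1⟩, fun h => ⟨h.2, h.1⟩⟩
  rw [this, Finset.card_erase_of_mem (by simp [Subtype.ext_iff, hx1]),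
    Finset.card_erase_of_mem (Finset.mem_univ _), Finset.card_univ, ← Nat.card_eq_fintype_card,
    card_P hK]

include hdec

theorem decompose {p g : M} (hp : p ∈ P) (hp1 : p ≠ 1) (hg : g ∈ cz p) :
    ∃ w ∈ core p, ∃ q ∈ P, g = w * q := by
  rw [← hdec p hp hp1] at hg
  have h : g ∈ (core p : Set M) * (P : Set M) := by
    rw [← coe_mul_of_right_le_normalizer_left _ _ ((P_le_cz hK hp).trans (cz_le_norm_core p))]
    exact hg
  obtain ⟨w, hw, q, hq, e⟩ := h
  exact ⟨w, hw, q, hq, e.symm⟩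

theorem card_between {p : M} (hp : p ∈ P) (hp1 : p ≠ 1) {Y : Subgroup M} (hPY : P ≤ Y)
    (hY : Y ≤ cz p) : Nat.card (core p ⊓ Y : Subgroup M) * 4 = Nat.card Y := by
  rw [← card_P hK, ← Nat.card_prod]
  refine Nat.card_eq_of_bijective
    (fun a => (⟨(a.1 : M) * (a.2 : M), mul_mem a.1.2.2 (hPY a.2.2)⟩ : Y)) ⟨?_, ?_⟩
  · rintro ⟨w, q⟩ ⟨w', q'⟩ e
    have e' : (w : M) * q = w' * q' := congrArg Subtype.val e
    have h1 : (w' : M)⁻¹ * w = q' * (q : M)⁻¹ := by
      rw [inv_mul_eq_iff_eq_mul, ← mul_assoc, ← e', mul_inv_cancel_right]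
    have h2 : (w' : M)⁻¹ * w = 1 := eq_one_of_odd_sq (odd_core p)
      (mul_mem (inv_mem w'.2.1) w.2.1) (P_sq hK (h1 ▸ mul_mem q'.2 (inv_mem q.2)))
    have h3 : (w : M) = w' := (inv_mul_eq_one.1 h2).symm
    refine Prod.ext (Subtype.ext h3) (Subtype.ext ?_)
    rw [h3] at e'
    exact mul_left_cancel e'
  · rintro ⟨g, hg⟩
    obtain ⟨w, hw, q, hq, rfl⟩ := decompose hK hdec hp hp1 (hY hg)
    have hwY : w ∈ Y := by simpa using mul_mem hg (inv_mem (hPY hq))
    exact ⟨(⟨w, hw, hwY⟩, ⟨q, hq⟩), rfl⟩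

theorem relIndex_mul {p : M} (hp : p ∈ P) (hp1 : p ≠ 1) :
    (centralizer (P : Set M)).relIndex (core p) * Nat.card (centralizer (P : Set M)) =
      Nat.card (cz p) := by
  have hle : centralizer (P : Set M) ≤ cz p := centralizer_le (Set.singleton_subset_iff.2 hp)
  have hPC : P ≤ centralizer (P : Set M) := fun a ha b hb => (P_comm hK hb ha).eq
  have h1 := card_between hK hdec hp hp1 hPC hle
  have h2 := card_between hK hdec hp hp1 (P_le_cz hK hp) le_rfl
  rw [inf_eq_left.2 (core_le p)] at h2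
  rw [← h1, ← h2, ← mul_assoc]
  congr 1
  have h3 := relIndex_mul_relIndex ⊥ (core p ⊓ centralizer (P : Set M)) (core p) bot_le inf_le_left
  rw [relIndex_bot_left, relIndex_bot_left, inf_relIndex_left] at h3
  rw [mul_comm]
  exact h3

theorem relIndex_eq {x p : M} (hx : x ∈ P) (hx1 : x ≠ 1) (hp : p ∈ P) (hp1 : p ≠ 1) :
    (centralizer (P : Set M)).relIndex (core p) = (centralizer (P : Set M)).relIndex (core x) := by
  have e : Nat.card (cz p) = Nat.card (cz x) := by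
    obtain ⟨g, hg⟩ := isConj_iff.1 (hK.one x p (ord_of_sq (P_sq hK hx) hx1) (ord_of_sq (P_sq hK hp) hp1))
    refine (Nat.card_congr (Equiv.subtypeEquiv (MulAut.conj g).toEquiv fun a => ?_)).symm
    rw [mem_centralizer_singleton_iff, mem_centralizer_singleton_iff, ← hg]
    show a * x = x * a ↔ (g * a * g⁻¹) * (g * x * g⁻¹) = (g * x * g⁻¹) * (g * a * g⁻¹)
    rw [show (g * a * g⁻¹) * (g * x * g⁻¹) = g * (a * x) * g⁻¹ by group,
      show (g * x * g⁻¹) * (g * a * g⁻¹) = g * (x * a) * g⁻¹ by group, mul_left_inj, mul_right_inj]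
  exact Nat.eq_of_mul_eq_mul_right Nat.card_pos
    (((relIndex_mul hK hdec hp hp1).trans e).trans (relIndex_mul hK hdec hx hx1).symm)

theorem card_inv {x : M} (hx : x ∈ P) (hx1 : x ≠ 1) : Nat.card (Inv M) = (cz x).index := by
  have hx2 : orderOf x = 2 := ord_of_sq (P_sq hK hx) hx1
  have h := card_conj_class (K := (⊤ : Subgroup M)) (x := x) {m : M | orderOf m = 2}
    (fun g _ => (ord_of_conj (isConj_iff.2 ⟨g, rfl⟩)).trans hx2)
    (fun y hy => by
      obtain ⟨g, hg⟩ := isConj_iff.1 (hK.one x y hx2 hy)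
      exact ⟨g, mem_top _, hg⟩)
  rw [top_inf_eq, card_top, ← (cz x).index_mul_card] at h
  exact Nat.eq_of_mul_eq_mul_right Nat.card_pos h

/-- An involution `m` with `x m` of even order. -/
theorem even_form {x m : M} (hx : x ∈ P) (hx1 : x ≠ 1) (hm : orderOf m = 2)
    (he : ¬ Odd (orderOf (x * m))) : ∃ q : M, q ∈ P ∧ q ≠ 1 ∧ q ≠ x ∧
      ∃ u ∈ core x, ∃ y ∈ core q, m = u * (y * (x * q) * y⁻¹) * u⁻¹ := by
  have hxx := P_sq hK hx
  have hmm := sq_of_ord hm
  obtain ⟨v, hv, hv2⟩ := exists_mid he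
  obtain ⟨hvx, hvm⟩ := comm_of_mem_dihedral hxx hmm (sq_of_ord hv2) hv
  obtain ⟨w, hw, q, hq, e⟩ := decompose hK hdec hx hx1
    (mem_centralizer_singleton_iff.2 hvx.eq : v ∈ cz x)
  have hqi : q⁻¹ = q := inv_eq_of_mul_eq_one_right (P_sq hK hq)
  obtain ⟨u, hu, huv⟩ := conj_of_coset (odd_core x) (P_sq hK hq) (sq_of_ord hv2)
    (by rw [e, mul_assoc, P_sq hK hq, mul_one]; exact hw)
  have hux : u * x * u⁻¹ = x :=
    mul_inv_eq_iff_eq_mul.2 (mem_centralizer_singleton_iff.1 (core_le x hu))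
  have hq1 : q ≠ 1 := fun h => by
    rw [h, mul_one, mul_inv_cancel] at huv
    rw [huv, orderOf_one] at hv2
    omega
  have hqx : q ≠ x := fun h => by
    rw [h, hux] at huv
    obtain ⟨k, hk⟩ := exists_pow_of_mem_zpowers hv
    have hmx : Commute x m := huv ▸ hvm
    rcases Nat.even_or_odd k with ⟨i, rfl⟩ | ⟨i, rfl⟩
    · rw [← two_mul, pow_mul, sq, hmx.symm.mul_mul_mul_comm, hxx, hmm, one_mul, one_pow, huv] at hk
      exact hx1 hk.symm
    · rw [pow_succ, pow_mul, sq, hmx.symm.mul_mul_mul_comm, hxx, hmm, one_mul, one_pow, one_mul, huv,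
        mul_eq_left] at hk
      rw [hk, orderOf_one] at hm
      omega
  refine ⟨q, hq, hq1, hqx, u, hu, ?_⟩
  set m' := u⁻¹ * m * u with hm'
  have hm'2 : m' * m' = 1 := by
    rw [hm', show u⁻¹ * m * u * (u⁻¹ * m * u) = u⁻¹ * (m * m) * u by group, hmm, mul_one,
      inv_mul_cancel]
  have hq' : q = u⁻¹ * v * u := by rw [huv]; group
  have hxu : u⁻¹ * x * u = x := by
    rw [mul_assoc, ← mem_centralizer_singleton_iff.1 (core_le x hu), inv_mul_cancel_left]
  have hm'q : m' ∈ cz q := by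
    rw [mem_centralizer_singleton_iff, hq', hm']
    calc u⁻¹ * m * u * (u⁻¹ * v * u) = u⁻¹ * (m * v) * u := by group
      _ = u⁻¹ * (v * m) * u := by rw [hvm.eq]
      _ = _ := by group
  have hmem : q ∈ zpowers (x * m') := by
    obtain ⟨k, hk⟩ := mem_zpowers_iff.1 hv
    refine mem_zpowers_iff.2 ⟨k, ?_⟩
    rw [hq', ← hk]
    have e1 : x * m' = u⁻¹ * (x * m) * u⁻¹⁻¹ := by
      calc x * m' = (u⁻¹ * x * u) * (u⁻¹ * m * u) := by rw [hxu, hm']
        _ = _ := by group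
    rw [e1, conj_zpow, inv_inv]
  obtain ⟨y₀, hy₀, π, hπ, eπ⟩ := decompose hK hdec hq hq1 hm'q
  have hN := (P_le_cz hK hq).trans (cz_le_norm_core q)
  have h1 : (x * m') * (x * π)⁻¹ ∈ core q :=
    mul_mod (hN hx) (by simp) (by rw [eπ, mul_inv_cancel_right]; exact hy₀)
  obtain ⟨k, hk⟩ := exists_pow_of_mem_zpowers hmem
  have h2 := pow_mod (mul_mem (hN hx) (hN hπ)) h1 k
  rw [hk] at h2
  have h3 : q * ((x * π) ^ k)⁻¹ = 1 := eq_one_of_odd_sq (odd_core q) h2
    (P_sq hK (mul_mem hq (inv_mem (pow_mem (mul_mem hx hπ) k))))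
  rw [mul_inv_eq_one] at h3
  have hπq : π = x * q := by
    rcases Nat.even_or_odd k with ⟨i, rfl⟩ | ⟨i, rfl⟩
    · rw [← two_mul, pow_mul, sq, P_sq hK (mul_mem hx hπ), one_pow] at h3
      exact absurd h3 hq1
    · rw [pow_succ, pow_mul, sq, P_sq hK (mul_mem hx hπ), one_pow, one_mul] at h3
      rw [h3, ← mul_assoc, hxx, one_mul]
  subst hπq
  obtain ⟨y, hy, ey⟩ := conj_of_coset (odd_core q) (P_sq hK (mul_mem hx hq)) hm'2 (by
    rw [eπ, mul_assoc, P_sq hK (mul_mem hx hq), mul_one]; exact hy₀)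
  refine ⟨y, hy, ?_⟩
  rw [← ey, hm']
  group

/-- At most `2 r²` involutions `m` give `x m` of even order. -/
theorem pairs_bound {x : M} (hx : x ∈ P) (hx1 : x ≠ 1) :
    Nat.card (Inv M) ≤ Nat.card {m : Inv M // Odd (orderOf (x * m.1))} +
      2 * ((centralizer (P : Set M)).relIndex (core x)) ^ 2 := by
  classical
  set r := (centralizer (P : Set M)).relIndex (core x) with hr
  haveI := Fintype.ofFinite (Inv M)
  have h1 : Nat.card (Inv M) = Nat.card {m : Inv M // Odd (orderOf (x * m.1))} +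
      Nat.card {m : Inv M // ¬ Odd (orderOf (x * m.1))} := by
    rw [← Nat.card_sum, Nat.card_congr (Equiv.sumCompl _)]
  rw [h1]
  refine Nat.add_le_add_left ?_ _
  set C := centralizer (P : Set M) with hC
  let T : Type u := Σ q : {p : P // (p : M) ≠ 1 ∧ (p : M) ≠ x},
    (core x ⧸ C.subgroupOf (core x)) × (core (q.1 : M) ⧸ C.subgroupOf (core (q.1 : M)))
  let f : T → M := fun s => (s.2.1.out : M) *
    ((s.2.2.out : M) * (x * (s.1.1 : M)) * (s.2.2.out : M)⁻¹) * (s.2.1.out : M)⁻¹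
  have hsurj : ∀ m : {m : Inv M // ¬ Odd (orderOf (x * m.1))}, ∃ s : T, f s = m.1.1 := by
    rintro ⟨⟨m, hm⟩, he⟩
    obtain ⟨q, hq, hq1, hqx, u, hu, y, hy, e⟩ := even_form hK hdec hx hx1 hm he
    let a : core x ⧸ C.subgroupOf (core x) := QuotientGroup.mk ⟨u, hu⟩
    have hc : (a.out : M)⁻¹ * u ∈ C :=
      (QuotientGroup.eq (s := C.subgroupOf (core x))).1 (QuotientGroup.out_eq' a)
    set c := (a.out : M)⁻¹ * u with hc'
    have hcq : c ∈ cz q := centralizer_le (Set.singleton_subset_iff.2 hq) hc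
    have hy' : c * y * c⁻¹ ∈ core q :=
      (mem_normalizer_iff.1 (cz_le_norm_core q hcq) y).1 hy
    let b : core q ⧸ C.subgroupOf (core q) := QuotientGroup.mk ⟨c * y * c⁻¹, hy'⟩
    have hd : (b.out : M)⁻¹ * (c * y * c⁻¹) ∈ C :=
      (QuotientGroup.eq (s := C.subgroupOf (core q))).1 (QuotientGroup.out_eq' b)
    refine ⟨⟨⟨⟨q, hq⟩, hq1, hqx⟩, a, b⟩, ?_⟩
    show (a.out : M) * ((b.out : M) * (x * q) * (b.out : M)⁻¹) * (a.out : M)⁻¹ = m
    set d := (b.out : M)⁻¹ * (c * y * c⁻¹) with hd'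
    have hcx : c * (x * q) * c⁻¹ = x * q :=
      mul_inv_eq_iff_eq_mul.2 ((hc _ (mul_mem hx hq)).symm)
    have hdx : d * (x * q) * d⁻¹ = x * q :=
      mul_inv_eq_iff_eq_mul.2 ((hd _ (mul_mem hx hq)).symm)
    have e1 : (b.out : M) = c * y * c⁻¹ * d⁻¹ := by rw [hd']; group
    have e2 : (a.out : M) = u * c⁻¹ := by rw [hc']; group
    have e3 : d⁻¹ * (x * q) * d = x * q := by
      nth_rw 1 [← hdx]; group
    have e4 : c⁻¹ * (x * q) * c = x * q := by
      nth_rw 1 [← hcx]; group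
    rw [e, e1, e2]
    calc u * c⁻¹ * (c * y * c⁻¹ * d⁻¹ * (x * q) * (c * y * c⁻¹ * d⁻¹)⁻¹) * (u * c⁻¹)⁻¹
        = u * (y * c⁻¹ * (d⁻¹ * (x * q) * d) * c * y⁻¹) * u⁻¹ := by group
      _ = u * (y * (c⁻¹ * (x * q) * c) * y⁻¹) * u⁻¹ := by rw [e3]; group
      _ = _ := by rw [e4]
  choose g hg using hsurj
  have hginj : Function.Injective g := fun a b e =>
    Subtype.ext (Subtype.ext ((hg a).symm.trans ((congrArg f e).trans (hg b))))
  refine (Nat.card_le_card_of_injective g hginj).trans (le_of_eq ?_)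
  haveI := Fintype.ofFinite {p : P // (p : M) ≠ 1 ∧ (p : M) ≠ x}
  rw [Nat.card_sigma]
  have hterm : ∀ q : {p : P // (p : M) ≠ 1 ∧ (p : M) ≠ x},
      Nat.card ((core x ⧸ C.subgroupOf (core x)) ×
        (core (q.1 : M) ⧸ C.subgroupOf (core (q.1 : M)))) = r * r := by
    intro q
    rw [Nat.card_prod]
    show r * C.relIndex (core (q.1 : M)) = r * r
    rw [relIndex_eq hK hdec hx hx1 q.1.2 q.2.1]
  simp only [hterm, Finset.sum_const, Finset.card_univ, smul_eq_mul]
  rw [← Nat.card_eq_fintype_card, P_eq hK hx hx1, sq]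

theorem conj_odd_count {x m : M} (hx : x ∈ P) (hx1 : x ≠ 1) (hm : orderOf m = 2) :
    Nat.card {l : Inv M // Odd (orderOf (m * l.1))} =
      Nat.card {l : Inv M // Odd (orderOf (x * l.1))} := by
  obtain ⟨g, hg⟩ := isConj_iff.1 (hK.one x m (ord_of_sq (P_sq hK hx) hx1) hm)
  have hord : ∀ a : M, orderOf (MulAut.conj g a) = orderOf a := fun a =>
    orderOf_injective (MulAut.conj g).toMonoidHom (MulAut.conj g).injective a
  let e : Inv M ≃ Inv M :=
    (MulAut.conj g).toEquiv.subtypeEquiv fun a => Iff.of_eq (congrArg (· = 2) (hord a).symm)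
  refine (Nat.card_congr (e.subtypeEquiv fun l => ?_)).symm
  show Odd (orderOf (x * l.1)) ↔ Odd (orderOf (m * MulAut.conj g l.1))
  rw [← hg, ← MulAut.conj_apply, ← map_mul, hord]

theorem card_odd_pairs {x : M} (hx : x ∈ P) (hx1 : x ≠ 1) :
    Nat.card {p : Inv M × Inv M // Odd (orderOf (p.1.1 * p.2.1))} =
      Nat.card (Inv M) * Nat.card {m : Inv M // Odd (orderOf (x * m.1))} := by
  classical
  haveI := Fintype.ofFinite (Inv M)
  have e : {p : Inv M × Inv M // Odd (orderOf (p.1.1 * p.2.1))} ≃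
      Σ a : Inv M, {b : Inv M // Odd (orderOf (a.1 * b.1))} :=
    Equiv.subtypeProdEquivSigmaSubtype fun a b : Inv M => Odd (orderOf (a.1 * b.1))
  rw [Nat.card_congr e, Nat.card_sigma,
    Finset.sum_congr rfl (fun a _ => conj_odd_count hK hdec hx hx1 a.2), Finset.sum_const,
    Finset.card_univ, ← Nat.card_eq_fintype_card, smul_eq_mul]

end

end CfsgLib.L34Sylow.SSFull
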