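import Cfsg.Agent.Lib.L34Sylow.SSFullClasses
import Cfsg.Agent.Lib.L34Sylow.SSFullKlein

/-!
# Piece 6a: pairs inside the centraliser of an involution of the first side
-/

set_option autoImplicit false
set_option linter.style.haveILetI false
set_option linter.unusedSectionVars false

namespace CfsgLib.L34Sylow.SSFull

open Cfsg Subgroup

universe u

variable {G : Type u} [Group G] [Finite G] {S : Sylow 2 G} {φ : F4 → F4 → F4 → G}

section TSide

variable (C : Ctx S φ) {c₀ a c : F4} (hc₀ : c₀ ≠ 0) (ha : a ≠ 0) {A₀ L : Subgroup G}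
  {M : Type u} [Group M] [Finite M] {π : L →* M} (T : TData S φ (φ a 0 c) A₀ L π)
include C hc₀ ha T

theorem t_sq : φ a 0 c * φ a 0 c = 1 := sq_A C.hS a c

theorem a_comm_z {x y : G} (hx : x ∈ SA φ) (hy : y ∈ SA φ) : Commute x y :=
  haveI := C.F.elem_A.1
  congrArg Subtype.val (mul_comm' (⟨x, hx⟩ : SA φ) ⟨y, hy⟩)

theorem A₀_sq {x : G} (hx : x ∈ A₀) : x * x = 1 := by
  obtain ⟨p, q, rfl⟩ := (C.F.mem_A _).1 (T.le₀ hx)
  exact sq_A C.hS p q

theorem split_A {x : G} (hx : x ∈ SA φ) : ∃ a' ∈ A₀, ∃ w ∈ SZ φ, x = a' * w := by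
  let f : A₀ × SZ φ → SA φ := fun p =>
    ⟨(p.1 : G) * p.2, mul_mem (T.le₀ p.1.2) (C.F.Z_le_A p.2.2)⟩
  have hinj : Function.Injective f := by
    rintro ⟨p, q⟩ ⟨p', q'⟩ e
    have e' : (p : G) * q = p' * q' := congrArg Subtype.val e
    have h1 : (p' : G)⁻¹ * p = q' * (q : G)⁻¹ := by
      rw [inv_mul_eq_iff_eq_mul, ← mul_assoc, ← e', mul_inv_cancel_right]
    have h2 : (p' : G)⁻¹ * p ∈ (⊥ : Subgroup G) :=
      T.inf₀.le (mem_inf.2 ⟨mul_mem (inv_mem p'.2) p.2, by rw [h1]; exact mul_mem q'.2 (inv_mem q.2)⟩)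
    have h3 : (p : G) = p' := (inv_mul_eq_one.1 (mem_bot.1 h2)).symm
    refine Prod.ext (Subtype.ext h3) (Subtype.ext ?_)
    rw [h3] at e'
    exact mul_left_cancel e'
  have hb := (Nat.bijective_iff_injective_and_card f).2 ⟨hinj, by
    rw [Nat.card_prod, T.card₀, C.F.card_Z, C.F.card_A]⟩
  obtain ⟨⟨p, q⟩, e⟩ := hb.2 ⟨x, hx⟩
  exact ⟨p, p.2, q, q.2, (congrArg Subtype.val e).symm⟩

theorem inter_Z {x : G} (hx : x ∈ SA φ) (hL : x ∈ L) : x ∈ SZ φ := by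
  obtain ⟨a', ha', w, hw, rfl⟩ := split_A C hc₀ ha T hx
  have h1 : a' ∈ (⊥ : Subgroup G) := by
    rw [← T.inf]
    refine ⟨?_, ha'⟩
    have := mul_mem hL (inv_mem (T.Z_le hw))
    simpa using this
  rw [mem_bot.1 h1, one_mul]
  exact hw

theorem mem_L_conj {g x : G} (hg : g ∈ cz (φ a 0 c)) (hx : x ∈ L) : cj g x ∈ L :=
  (mem_normalizer_iff.1 (T.normal hg) x).1 hx

/-- The involutions of `L` are conjugate to `z` in `C(t)`. -/
theorem inv_L {x : G} (hx : x ∈ L) (h2 : orderOf x = 2) :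
    ∃ g ∈ cz (φ a 0 c), cj g (φ 0 0 c₀) = x := by
  obtain ⟨g, hg, hA⟩ := C.conj_into_A ha c (T.le hx) h2
  have hZ := inter_Z C hc₀ ha T hA (mem_L_conj C hc₀ ha T hg hx)
  obtain ⟨y, e⟩ := (C.F.mem_Z _).1 hZ
  have hy : y ≠ 0 := fun h => by
    have h1 : orderOf (cj g x) = orderOf x := ord_of_conj (isConj_iff.2 ⟨g, rfl⟩)
    rw [← e, h, one_eq C.hS, orderOf_one, h2] at h1
    omega
  obtain ⟨h, hh, -, m, hm, sc⟩ := T.mu
  have hs : ∀ w, cj h (φ 0 0 w) = φ 0 0 (m * w) := fun w => by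
    have := sc.2.2.2 w; rwa [one_mul] at this
  have hh' : h ∈ cz (φ a 0 c) := T.le hh
  obtain ⟨k, hk, ek⟩ : ∃ k ∈ cz (φ a 0 c), cj k (φ 0 0 c₀) = φ 0 0 y := by
    rcases f4_cases m sc.2.1 hm c₀ y hc₀ hy with e' | e' | e' <;> subst e'
    · exact ⟨1, one_mem _, by simp [cj]⟩
    · exact ⟨h, hh', hs _⟩
    · refine ⟨h * h, mul_mem hh' hh', ?_⟩
      rw [← hs, ← hs]
      simp only [cj]
      group
  refine ⟨g⁻¹ * k, mul_mem (inv_mem hg) hk, ?_⟩
  rw [show cj (g⁻¹ * k) (φ 0 0 c₀) = g⁻¹ * cj k (φ 0 0 c₀) * g by simp only [cj]; group, ek, e]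
  simp only [cj]
  group

theorem t_central {g : G} (hg : g ∈ cz (φ a 0 c)) : Commute g (φ a 0 c) :=
  mem_centralizer_singleton_iff.1 hg

theorem pow_form {e : G} (he : e ∈ cz (φ a 0 c)) (k : ℕ) :
    (φ a 0 c * e) ^ k = φ a 0 c ^ k * e ^ k := (t_central C hc₀ ha T he).symm.mul_pow k

/-- The pairs of `z` and `t` over `t`, in `L`. -/
theorem pair_form {u v : G} (hu : IsConj (φ 0 0 c₀) u) (hv : IsConj (φ a 0 c) v)
    (ht : φ a 0 c ∈ zpowers (u * v)) :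
    (u ∈ L ∧ orderOf u = 2) ∧ (φ a 0 c * v ∈ L ∧ orderOf (φ a 0 c * v) = 2) ∧
      ∀ h1 h2, Odd (orderOf (π ⟨u, h1⟩ * π ⟨φ a 0 c * v, h2⟩)) := by
  set t := φ a 0 c with htd
  have htt := sq_A C.hS a c
  have hu2 : orderOf u = 2 := (ord_of_conj hu).trans (C.ord_Z hc₀)
  have hv2 : orderOf v = 2 := (ord_of_conj hv).trans (C.ord_A ha c)
  obtain ⟨h1, h2⟩ := comm_of_mem_dihedral (sq_of_ord hu2) (sq_of_ord hv2) htt ht
  have huc : u ∈ cz t := mem_centralizer_singleton_iff.2 h1.eq.symm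
  have hvc : v ∈ cz t := mem_centralizer_singleton_iff.2 h2.eq.symm
  have hN := T.normal
  obtain ⟨g, hg, hA⟩ := C.conj_into_A ha c huc hu2
  obtain ⟨p, q, e⟩ := (C.F.mem_A _).1 hA
  have huz : IsConj (φ 0 0 c₀) (φ p 0 q) := hu.trans (isConj_iff.2 ⟨g, e.symm⟩)
  have hp : p = 0 := by
    by_contra hp
    exact C.not_conj_ZA hp q hc₀ huz
  subst hp
  have huL : u ∈ L := by
    have hzL : cj g u ∈ L := T.Z_le ((C.F.mem_Z _).2 ⟨q, e⟩)
    have := mem_L_conj C hc₀ ha T (inv_mem hg) hzL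
    rwa [show cj g⁻¹ (cj g u) = u by simp only [cj]; group] at this
  obtain ⟨g', hg', hA'⟩ := C.conj_into_A ha c hvc hv2
  obtain ⟨a', ha', w, hw, e'⟩ := split_A C hc₀ ha T hA'
  have hv' : a'⁻¹ * v ∈ L := by
    have e2 : v = (g'⁻¹ * a' * g') * (g'⁻¹ * w * g') := by
      calc v = g'⁻¹ * cj g' v * g' := by simp only [cj]; group
        _ = g'⁻¹ * (a' * w) * g' := by rw [e']
        _ = _ := by group
    have h3 : a'⁻¹ * g'⁻¹ * a' * g' ∈ L := by
      have := T.core_le (T.central a'⁻¹ (inv_mem ha') g'⁻¹ (inv_mem hg'))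
      simpa using this
    have h4 : g'⁻¹ * w * g' ∈ L := by
      have := mem_L_conj C hc₀ ha T (inv_mem hg') (T.Z_le hw)
      simpa [cj] using this
    rw [e2, show a'⁻¹ * (g'⁻¹ * a' * g' * (g'⁻¹ * w * g')) =
      (a'⁻¹ * g'⁻¹ * a' * g') * (g'⁻¹ * w * g') by group]
    exact mul_mem h3 h4
  obtain ⟨k, hk⟩ := exists_pow_of_mem_zpowers ht
  have ha'c : a' ∈ normalizer (L : Set G) := hN (T.sup ▸ mem_sup_right ha')
  have h5 : (u * v) * a'⁻¹ ∈ L := by
    rw [show u * v * a'⁻¹ = u * (a' * (a'⁻¹ * v) * a'⁻¹) by group]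
    exact mul_mem huL ((mem_normalizer_iff.1 ha'c _).1 hv')
  have h6 := pow_mod ha'c h5 k
  rw [hk] at h6
  have h7 : t * (a' ^ k)⁻¹ = 1 := mem_bot.1 (T.inf.le
    (mem_inf.2 ⟨h6, mul_mem T.mem₀ (inv_mem (pow_mem ha' k))⟩))
  rw [mul_inv_eq_one] at h7
  have hta : a' = t ∧ Odd k := by
    rcases Nat.even_or_odd k with ⟨i, rfl⟩ | hk'
    · rw [← two_mul, pow_mul, sq, A₀_sq C hc₀ ha T ha', one_pow] at h7
      exact absurd ((eq_one_iff C.hS).1 h7).1 ha
    · obtain ⟨i, rfl⟩ := hk'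
      rw [pow_succ, pow_mul, sq, A₀_sq C hc₀ ha T ha', one_pow, one_mul] at h7
      exact ⟨h7.symm, i, rfl⟩
  obtain ⟨rfl, hodd⟩ := hta
  rw [inv_eq_of_mul_eq_one_right htt] at hv'
  set l := t * v with hl
  have he : u * v = t * (u * l) := by
    rw [hl, ← mul_assoc, ← mul_assoc, (t_central C hc₀ ha T huc).symm.eq, mul_assoc u t t, htt,
      mul_one]
  have hee : (u * l) ^ k = 1 := by
    have hk2 := hk
    rw [he, pow_form C hc₀ ha T (mul_mem huc (T.le hv'))] at hk2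
    obtain ⟨i, rfl⟩ := hodd
    rw [pow_succ t, pow_mul, sq, htt, one_pow, one_mul] at hk2
    exact mul_eq_left.1 hk2
  have hl1 : l ≠ 1 := by
    intro h
    rw [h, mul_one] at hee
    have := (orderOf_dvd_of_pow_eq_one hee)
    rw [hu2] at this
    exact (Nat.not_even_iff_odd.2 hodd) (even_iff_two_dvd.2 this)
  have hl2 : l * l = 1 := by
    rw [hl, show t * v * (t * v) = t * (v * t) * v by group, h2.eq.symm, ← mul_assoc, htt, one_mul,
      sq_of_ord hv2]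
  refine ⟨⟨huL, hu2⟩, ⟨hv', ord_of_sq hl2 hl1⟩, fun h1' h2' => ?_⟩
  rw [← map_mul]
  refine hodd.of_dvd_nat ((orderOf_map_dvd π _).trans (orderOf_dvd_of_pow_eq_one (Subtype.ext ?_)))
  exact hee

theorem π_ord {x : L} (hx : orderOf (x : G) = 2) : orderOf (π x) = 2 := by
  refine ord_of_sq ?_ fun h => ?_
  · rw [← map_mul, show x * x = 1 from Subtype.ext (sq_of_ord hx), map_one]
  · have hc : (x : G) ∈ core (φ a 0 c) := by
      have := T.ker.le (MonoidHom.mem_ker.2 h)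
      exact this
    have := eq_one_of_odd_sq (odd_core _) hc (sq_of_ord hx)
    rw [this, orderOf_one] at hx
    omega

theorem pair_conv {u l : L} (hu : orderOf (u : G) = 2) (hl : orderOf (l : G) = 2)
    (ho : Odd (orderOf (π u * π l))) :
    IsConj (φ 0 0 c₀) (u : G) ∧ IsConj (φ a 0 c) (φ a 0 c * l) ∧
      φ a 0 c ∈ zpowers ((u : G) * (φ a 0 c * l)) := by
  set t := φ a 0 c with htd
  obtain ⟨g, -, e⟩ := inv_L C hc₀ ha T u.2 hu
  obtain ⟨g', hg', e'⟩ := inv_L C hc₀ ha T l.2 hl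
  refine ⟨isConj_iff.2 ⟨g, e⟩, ?_, ?_⟩
  · have h1 : φ a 0 c * φ 0 0 c₀ = φ a 0 (c + c₀) := by rw [C.hS.mul]; simp
    refine (C.conj_AA ha ha c (c + c₀)).trans (isConj_iff.2 ⟨g', ?_⟩)
    rw [← h1, show g' * (φ a 0 c * φ 0 0 c₀) * g'⁻¹ = g' * φ a 0 c * g'⁻¹ * cj g' (φ 0 0 c₀) by
      simp only [cj]; group, e', (t_central C hc₀ ha T hg').eq, mul_inv_cancel_right]
  · set e := (u : G) * l with he
    have hec : e ∈ cz t := T.le (mul_mem u.2 l.2)
    set n := orderOf (π u * π l) with hn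
    have h1 : (u * l) ^ n ∈ (core t).subgroupOf L := by
      rw [← T.ker, MonoidHom.mem_ker, map_pow, map_mul, hn, pow_orderOf_eq_one]
    have h2 : e ^ n ∈ core t := h1
    have hoe : Odd (orderOf e) := by
      have hd : orderOf e ∣ n * orderOf (e ^ n) :=
        orderOf_dvd_of_pow_eq_one (by rw [pow_mul, pow_orderOf_eq_one])
      exact (ho.mul (odd_order_of_mem (odd_core t) h2)).of_dvd_nat hd
    have h3 : (u : G) * (t * l) = t * e := by
      rw [he, ← mul_assoc, (t_central C hc₀ ha T (T.le u.2)).eq, mul_assoc]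
    rw [h3]
    obtain ⟨i, hi⟩ := hoe
    have h4 : (t * e) ^ orderOf e = t := by
      rw [pow_form C hc₀ ha T hec, pow_orderOf_eq_one, mul_one, hi, pow_succ, pow_mul, sq,
        sq_A C.hS a c, one_pow, one_mul]
    have := pow_mem (mem_zpowers (t * e)) (orderOf e)
    rwa [h4] at this

/-- The count in `C(t)`. -/
theorem count (hKlein : StmtKlein.{u}) : ∃ q J P : ℕ, 0 < q ∧ 0 < J ∧
    Nat.card (cz (φ a 0 c)) = q * J * Nat.card (cz (φ a 0 c) ⊓ cz (φ 0 0 c₀) : Subgroup G) ∧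
    Nat.card (Rel (φ 0 0 c₀) (φ a 0 c) (φ a 0 c)) = q * q * (J * P) ∧ J ≤ 3 * P ∧
    (J = 3 * P → TGood S φ (φ a 0 c)) := by
  classical
  set t := φ a 0 c with htd
  set z := φ 0 0 c₀ with hzd
  have hzL : z ∈ L := T.Z_le ((C.F.mem_Z _).2 ⟨c₀, rfl⟩)
  set P' := ((SZ φ).subgroupOf L).map π with hP'
  set x := π ⟨z, hzL⟩ with hxd
  have hx : x ∈ P' := ⟨⟨z, hzL⟩, (C.F.mem_Z _).2 ⟨c₀, rfl⟩, rfl⟩
  have hx2 : orderOf x = 2 := π_ord C hc₀ ha T (x := ⟨z, hzL⟩) (C.ord_Z hc₀)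
  have hx1 : x ≠ 1 := fun h => by rw [h, orderOf_one] at hx2; omega
  have hK := hKlein M P' T.khyp
  have hdec : ∀ p ∈ P', p ≠ 1 → core p ⊔ P' = cz p := fun p hp hp1 => (hK p hp hp1).1
  obtain ⟨-, hineq, heq, -⟩ := hK x hx hx1
  set r := (centralizer (P' : Set M)).relIndex (core x) with hr
  set J := Nat.card (Inv M) with hJ
  have hJx : J = (cz x).index := card_inv T.khyp hdec hx hx1
  set P := Nat.card {m : Inv M // Odd (orderOf (x * m.1))} with hP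
  have hb : J ≤ P + 2 * r ^ 2 := pairs_bound T.khyp hdec hx hx1
  rw [← hJx] at hineq heq
  let I := {v : L // orderOf (v : G) = 2}
  let f : I → Inv M := fun v => ⟨π v.1, π_ord C hc₀ ha T v.2⟩
  let q := Nat.card {v : I // f v = ⟨x, hx2⟩}
  have hq : ∀ y, Nat.card {v : I // f v = y} = q := by
    intro y
    obtain ⟨g, hg⟩ := isConj_iff.1 (T.khyp.one x y.1 hx2 y.2)
    obtain ⟨g', rfl⟩ := T.surj g
    have hord : ∀ w : L, orderOf ((g' * w * g'⁻¹ : L) : G) = orderOf (w : G) := fun w =>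
      ord_of_conj (isConj_iff.2 ⟨g', by push_cast; rfl⟩)
    have hord' : ∀ w : L, orderOf ((g'⁻¹ * w * g' : L) : G) = orderOf (w : G) := fun w =>
      ord_of_conj (isConj_iff.2 ⟨(g' : G)⁻¹, by push_cast; rw [inv_inv]⟩)
    refine Eq.symm (Nat.card_congr ?_)
    refine
      { toFun := fun v => ⟨⟨g' * v.1.1 * g'⁻¹, (hord v.1.1).trans v.1.2⟩, Subtype.ext ?_⟩
        invFun := fun v => ⟨⟨g'⁻¹ * v.1.1 * g', (hord' v.1.1).trans v.1.2⟩, Subtype.ext ?_⟩
        left_inv := fun v => Subtype.ext (Subtype.ext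
          (show g'⁻¹ * (g' * v.1.1 * g'⁻¹) * g' = v.1.1 by group))
        right_inv := fun v => Subtype.ext (Subtype.ext
          (show g' * (g'⁻¹ * v.1.1 * g') * g'⁻¹ = v.1.1 by group)) }
    · have hv : π v.1.1 = x := congrArg Subtype.val v.2
      show π (g' * v.1.1 * g'⁻¹) = y.1
      rw [map_mul, map_mul, map_inv, hv, hg]
    · have hv : π v.1.1 = y.1 := congrArg Subtype.val v.2
      show π (g'⁻¹ * v.1.1 * g') = x
      rw [map_mul, map_mul, map_inv, hv, ← hg]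
      group
  have hq0 : 0 < q := by
    haveI : Nonempty {v : I // f v = ⟨x, hx2⟩} := ⟨⟨⟨⟨z, hzL⟩, C.ord_Z hc₀⟩, rfl⟩⟩
    exact Nat.card_pos
  have hI : Nat.card I = q * J := by
    haveI := Fintype.ofFinite (Inv M)
    rw [← Nat.card_congr (Equiv.sigmaFiberEquiv f), Nat.card_sigma,
      Finset.sum_congr rfl (fun y _ => hq y), Finset.sum_const, Finset.card_univ, smul_eq_mul,
      ← Nat.card_eq_fintype_card, mul_comm]
  have hJ0 : 0 < J := by
    haveI : Nonempty (Inv M) := ⟨⟨x, hx2⟩⟩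
    exact Nat.card_pos
  refine ⟨q, J, P, hq0, hJ0, ?_, ?_, ?_, fun h => ?_⟩
  · have h := card_conj_class (K := cz t) (x := z) {v : G | v ∈ L ∧ orderOf v = 2}
      (fun g hg => ⟨mem_L_conj C hc₀ ha T hg hzL,
        (ord_of_conj (isConj_iff.2 ⟨g, rfl⟩)).trans (C.ord_Z hc₀)⟩)
      (fun v hv => inv_L C hc₀ ha T hv.1 hv.2)
    rw [← h, ← hI]
    congr 1
    exact Nat.card_congr
      { toFun := fun v => ⟨v.1, v.1.2, v.2⟩
        invFun := fun v => ⟨⟨v.1, v.2.1⟩, v.2.2⟩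
        left_inv := fun v => rfl
        right_inv := fun v => rfl } |>.symm
  · have e : Rel z t t ≃ {p : I × I // Odd (orderOf ((f p.1).1 * (f p.2).1))} :=
      { toFun := fun p =>
          have h := pair_form C hc₀ ha T p.2.1 p.2.2.1 p.2.2.2
          ⟨(⟨⟨p.1.1, h.1.1⟩, h.1.2⟩, ⟨⟨t * p.1.2, h.2.1.1⟩, h.2.1.2⟩), h.2.2 _ _⟩
        invFun := fun p => ⟨(p.1.1.1.1, t * p.1.2.1.1),
          pair_conv C hc₀ ha T p.1.1.2 p.1.2.2 p.2⟩
        left_inv := fun p => by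
          refine Subtype.ext (Prod.ext rfl ?_)
          show t * (t * p.1.2) = p.1.2
          rw [← mul_assoc, show t * t = 1 from sq_A C.hS a c, one_mul]
        right_inv := fun p => by
          refine Subtype.ext (Prod.ext rfl (Subtype.ext (Subtype.ext ?_)))
          show t * (t * (p.1.2.1 : G)) = p.1.2.1
          rw [← mul_assoc, show t * t = 1 from sq_A C.hS a c, one_mul] }
    rw [Nat.card_congr e,
      card_pairs_eq f f q q hq hq (fun m m' : Inv M => Odd (orderOf (m.1 * m'.1))),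
      card_odd_pairs T.khyp hdec hx hx1]
  · omega
  · have he : 3 * r ^ 2 = J := by omega
    obtain ⟨h12, h4⟩ := heq he
    exact Or.inr ⟨A₀, L, M, inferInstance, inferInstance, π, T, Or.inl h12, h4⟩

end TSide

end CfsgLib.L34Sylow.SSFull
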