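import Cfsg.Agent.Lib.L34Sylow.SSFullTools
import Cfsg.Agent.Lib.L34Sylow.Swap

/-!
# Piece 6a: the three classes of involutions
-/

set_option autoImplicit false
set_option linter.style.haveILetI false
set_option linter.unusedSectionVars false

namespace CfsgLib.L34Sylow.SSFull

open Cfsg Subgroup

universe u

/-- The hypotheses of the piece. -/
structure Ctx {G : Type u} [Group G] (S : Sylow 2 G) (φ : F4 → F4 → F4 → G) : Prop where
  hS : Setup S φ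
  F : Facts S φ
  sA : Small φ
  sB : SmallB φ
  lam : HasLam S φ
  mu : HasMu S φ

theorem f4_add_add : ∀ x y : F4, x + y + y = x := by decide

theorem f4_solve : ∀ a : F4, a ≠ 0 → ∀ c c' : F4, ∃ b, c + a * b = c' := by decide

theorem f4_cases : ∀ l : F4, l ≠ 0 → l ≠ 1 → ∀ a a' : F4, a ≠ 0 → a' ≠ 0 →
    a' = a ∨ a' = l * a ∨ a' = l * (l * a) := by decide

theorem f4_lam : ∀ l m : F4, l ≠ 0 → l ≠ 1 → m ≠ 0 → m ≠ 1 → l * m = 1 ∨ l * (m * m) = 1 := by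
  decide

variable {G : Type u} [Group G] [Finite G] {S : Sylow 2 G} {φ : F4 → F4 → F4 → G}

theorem Ctx.swap (hF : StmtFacts.{u}) (C : Ctx S φ) : Ctx S (L34Sylow.swap φ) where
  hS := C.hS.swap
  F := hF G S _ C.hS.swap
  sA := (small_swap φ).2 C.sB
  sB := (smallB_swap φ).2 C.sA
  lam := (hasLam_swap C.hS).2 C.mu
  mu := (hasMu_swap C.hS).2 C.lam

section coords

variable (h : Setup S φ)
include h

theorem one_eq : φ 0 0 0 = 1 := by
  have e := h.mul 0 0 0 0 0 0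
  simp only [add_zero, mul_zero] at e
  exact mul_eq_left.1 e

theorem eq_one_iff {a b c : F4} : φ a b c = 1 ↔ a = 0 ∧ b = 0 ∧ c = 0 := by
  rw [← one_eq h]
  exact ⟨h.inj _ _ _ _ _ _, fun ⟨ha, hb, hc⟩ => by rw [ha, hb, hc]⟩

theorem split (a b c : F4) : φ a b c = φ a b 0 * φ 0 0 c := by
  rw [h.mul]; simp

theorem sq_eq (a b c : F4) : φ a b c * φ a b c = φ 0 0 (a * b) := by
  rw [h.mul, f4_char, f4_char, f4_char, zero_add]

theorem sq_A (a c : F4) : φ a 0 c * φ a 0 c = 1 := by rw [sq_eq h, mul_zero, one_eq h]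

theorem cj_A (a b c : F4) : cj (φ 0 b 0) (φ a 0 c) = φ a 0 (c + a * b) := by
  rw [cj, mul_inv_eq_iff_eq_mul, h.mul, h.mul]
  simp [f4_add_add]

theorem comm_Z (a b c c' : F4) : Commute (φ a b c) (φ 0 0 c') := by
  show _ * _ = _ * _
  rw [h.mul, h.mul]
  simp [add_comm]

end coords

theorem scal_mul {g g' : G} {l m l' m' : F4} (h : Setup S φ) (s : Scal φ g l m)
    (s' : Scal φ g' l' m') : Scal φ (g * g') (l * l') (m * m') := by
  obtain ⟨hl, hm, h1, h2⟩ := s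
  obtain ⟨hl', hm', h1', h2'⟩ := s'
  have e : ∀ x, cj (g * g') x = cj g (cj g' x) := fun x => by simp only [cj]; group
  refine ⟨mul_ne_zero hl hl', mul_ne_zero hm hm', fun a b => ?_, fun c => ?_⟩
  · obtain ⟨c', hc'⟩ := h1' a b
    obtain ⟨c'', hc''⟩ := h1 (l' * a) (m' * b)
    refine ⟨c'' + l * m * c', ?_⟩
    rw [e, hc', split h (l' * a) (m' * b) c',
      show cj g (φ (l' * a) (m' * b) 0 * φ 0 0 c') =
        cj g (φ (l' * a) (m' * b) 0) * cj g (φ 0 0 c') by simp only [cj]; group,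
      hc'', h2, h.mul]
    simp [mul_assoc]
  · rw [e, h2', h2]
    congr 1
    ring

theorem scal_A {g : G} {l m : F4} (h : Setup S φ) (s : Scal φ g l m) (a c : F4) :
    ∃ c', cj g (φ a 0 c) = φ (l * a) 0 c' := by
  obtain ⟨c', hc'⟩ := s.2.2.1 a 0
  refine ⟨c' + l * m * c, ?_⟩
  rw [split h a 0 c, show cj g (φ a 0 0 * φ 0 0 c) = cj g (φ a 0 0) * cj g (φ 0 0 c) by
    simp only [cj]; group, hc', s.2.2.2, h.mul]
  simp

namespace Ctx

variable (C : Ctx S φ)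
include C

/-- An element of the torus fixing the centre pointwise. -/
theorem exists_d : ∃ d ∈ normalizer (S : Set G), ∃ l m : F4, l ≠ 1 ∧ l * m = 1 ∧ Scal φ d l m := by
  obtain ⟨g, hg, l, hl, sl⟩ := C.lam
  obtain ⟨g', hg', m, hm, sm⟩ := C.mu
  rcases f4_lam l m sl.1 hl sm.2.1 hm with e | e
  · exact ⟨g * g', mul_mem hg hg', l * 1, 1 * m, by simpa using hl, by simpa using e,
      scal_mul C.hS sl sm⟩
  · exact ⟨g * (g' * g'), mul_mem hg (mul_mem hg' hg'), l * (1 * 1), 1 * (m * m),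
      by simpa using hl, by simpa using e, scal_mul C.hS sl (scal_mul C.hS sm sm)⟩

/-- Any two elements outside the centre of the first subgroup are conjugate by an element of
`N(S)` centralising the centre. -/
theorem conj_A {a a' : F4} (ha : a ≠ 0) (ha' : a' ≠ 0) (c c' : F4) :
    ∃ n ∈ normalizer (S : Set G), (∀ x, Commute n (φ 0 0 x)) ∧ cj n (φ a 0 c) = φ a' 0 c' := by
  obtain ⟨d, hd, l, m, hl, hlm, s⟩ := C.exists_d
  have hdz : ∀ x, Commute d (φ 0 0 x) := fun x => by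
    have := s.2.2.2 x
    rw [hlm, one_mul] at this
    exact mul_inv_eq_iff_eq_mul.1 this
  obtain ⟨k, hk, hkz, c₁, hc₁⟩ : ∃ k ∈ normalizer (S : Set G), (∀ x, Commute k (φ 0 0 x)) ∧
      ∃ c₁, cj k (φ a 0 c) = φ a' 0 c₁ := by
    obtain ⟨c₁, hc₁⟩ := scal_A C.hS s a c
    obtain ⟨c₂, hc₂⟩ := scal_A C.hS s (l * a) c₁
    rcases f4_cases l s.1 hl a a' ha ha' with e | e | e <;> subst e
    · exact ⟨1, one_mem _, fun x => Commute.one_left _, c, by simp [cj]⟩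
    · exact ⟨d, hd, hdz, c₁, hc₁⟩
    · refine ⟨d * d, mul_mem hd hd, fun x => (hdz x).mul_left (hdz x), c₂, ?_⟩
      rw [← hc₂, ← hc₁]
      simp only [cj]
      group
  obtain ⟨b, hb⟩ := f4_solve a' ha' c₁ c'
  refine ⟨φ 0 b 0 * k, mul_mem (le_normalizer (C.hS.mem 0 b 0)) hk,
    fun x => (comm_Z C.hS 0 b 0 x).mul_left (hkz x), ?_⟩
  rw [← hb, ← cj_A C.hS, ← hc₁]
  simp only [cj]
  group

theorem conj_Z {c c' : F4} (hc : c ≠ 0) (hc' : c' ≠ 0) : IsConj (φ 0 0 c) (φ 0 0 c') := by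
  obtain ⟨g, _, m, hm, s⟩ := C.mu
  have e : ∀ x, IsConj (φ 0 0 x) (φ 0 0 (m * x)) := fun x => by
    have := s.2.2.2 x
    rw [one_mul] at this
    exact isConj_iff.2 ⟨g, this⟩
  rcases f4_cases m s.2.1 hm c c' hc hc' with h | h | h <;> subst h
  · exact IsConj.refl _
  · exact e c
  · exact (e c).trans (e _)

theorem mem_SA {a c : F4} : φ a 0 c ∈ SA φ := (C.F.mem_A _).2 ⟨a, c, rfl⟩

theorem notMem_SZ {a : F4} (ha : a ≠ 0) (c : F4) : φ a 0 c ∉ SZ φ := fun h => by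
  obtain ⟨c', e⟩ := (C.F.mem_Z _).1 h
  exact ha (C.hS.inj _ _ _ _ _ _ e).1.symm

theorem coords_A {t : G} (ht : t ∈ SA φ) (htZ : t ∉ SZ φ) : ∃ a c, a ≠ 0 ∧ φ a 0 c = t := by
  obtain ⟨a, c, rfl⟩ := (C.F.mem_A _).1 ht
  refine ⟨a, c, fun e => htZ ?_, rfl⟩
  rw [e]
  exact (C.F.mem_Z _).2 ⟨c, rfl⟩

theorem ord_A {a : F4} (ha : a ≠ 0) (c : F4) : orderOf (φ a 0 c) = 2 :=
  ord_of_sq (sq_A C.hS a c) fun e => ha ((eq_one_iff C.hS).1 e).1

theorem ord_Z {c : F4} (hc : c ≠ 0) : orderOf (φ 0 0 c) = 2 :=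
  ord_of_sq (sq_A C.hS 0 c) fun e => hc ((eq_one_iff C.hS).1 e).2.2

theorem not_conj_ZA {a : F4} (ha : a ≠ 0) (c : F4) {x : F4} (hx : x ≠ 0) :
    ¬ IsConj (φ 0 0 x) (φ a 0 c) := fun h =>
  C.F.not_ztype_A C.sA _ C.mem_SA (C.notMem_SZ ha c) ⟨x, hx, h⟩

theorem not_conj_ZB {b : F4} (hb : b ≠ 0) (c : F4) {x : F4} (hx : x ≠ 0) :
    ¬ IsConj (φ 0 0 x) (φ 0 b c) := fun h =>
  C.F.not_ztype_B C.sB _ ((C.F.mem_B _).2 ⟨b, c, rfl⟩) (fun hZ => by
    obtain ⟨c', e⟩ := (C.F.mem_Z _).1 hZ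
    exact hb (C.hS.inj _ _ _ _ _ _ e).2.1.symm) ⟨x, hx, h⟩

theorem not_conj_AB {a b : F4} (ha : a ≠ 0) (hb : b ≠ 0) (c c' : F4) :
    ¬ IsConj (φ a 0 c) (φ 0 b c') :=
  C.F.not_conj_AB _ C.mem_SA (C.notMem_SZ ha c) _ ((C.F.mem_B _).2 ⟨b, c', rfl⟩)
    (fun hZ => by
      obtain ⟨c'', e⟩ := (C.F.mem_Z _).1 hZ
      exact hb (C.hS.inj _ _ _ _ _ _ e).2.1.symm)
    (C.F.not_ztype_A C.sA _ C.mem_SA (C.notMem_SZ ha c))

/-- The three kinds of involutions of `S`. -/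
theorem invol_cases {s : G} (hs : s ∈ S) (h2 : orderOf s = 2) :
    (∃ c, c ≠ 0 ∧ s = φ 0 0 c) ∨ (∃ a c, a ≠ 0 ∧ s = φ a 0 c) ∨ (∃ b c, b ≠ 0 ∧ s = φ 0 b c) := by
  have hne : s ≠ 1 := fun e => by rw [e, orderOf_one] at h2; omega
  rcases C.F.invol s hs (sq_of_ord h2) with h | h
  · obtain ⟨a, c, rfl⟩ := (C.F.mem_A _).1 h
    by_cases ha : a = 0
    · subst ha
      exact Or.inl ⟨c, fun e => hne ((eq_one_iff C.hS).2 ⟨rfl, rfl, e⟩), rfl⟩
    · exact Or.inr (Or.inl ⟨a, c, ha, rfl⟩)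
  · obtain ⟨b, c, rfl⟩ := (C.F.mem_B _).1 h
    by_cases hb : b = 0
    · subst hb
      exact Or.inl ⟨c, fun e => hne ((eq_one_iff C.hS).2 ⟨rfl, rfl, e⟩), rfl⟩
    · exact Or.inr (Or.inr ⟨b, c, hb, rfl⟩)

theorem conj_AA {a a' : F4} (ha : a ≠ 0) (ha' : a' ≠ 0) (c c' : F4) :
    IsConj (φ a 0 c) (φ a' 0 c') := by
  obtain ⟨n, -, -, e⟩ := C.conj_A ha ha' c c'
  exact isConj_iff.2 ⟨n, e⟩

/-- Every involution has one of the three types. -/
theorem classes (hF : StmtFacts.{u}) {c₀ a b ca cb : F4} (hc₀ : c₀ ≠ 0) (ha : a ≠ 0) (hb : b ≠ 0)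
    (g : G) (hg : orderOf g = 2) :
    IsConj (φ 0 0 c₀) g ∨ IsConj (φ a 0 ca) g ∨ IsConj (φ 0 b cb) g := by
  obtain ⟨x, hx, hxg⟩ := C.F.exists_conj g hg
  have hxS : x ∈ S := hx.elim (fun h => C.F.le_A h) (fun h => C.F.le_B h)
  rcases C.invol_cases hxS ((ord_of_conj hxg).symm.trans hg) with
    ⟨c, hc, rfl⟩ | ⟨a', c, ha', rfl⟩ | ⟨b', c, hb', rfl⟩
  · exact Or.inl ((C.conj_Z hc₀ hc).trans hxg)
  · exact Or.inr (Or.inl ((C.conj_AA ha ha' ca c).trans hxg))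
  · refine Or.inr (Or.inr (IsConj.trans ?_ hxg))
    have h := (C.swap hF).conj_AA hb hb' cb c
    simpa [L34Sylow.swap] using h

/-- The Sylow subgroup of the centraliser of an involution of the first side. -/
theorem conj_into_A {a : F4} (ha : a ≠ 0) (c : F4) {v : G} (hv : v ∈ cz (φ a 0 c))
    (h2 : orderOf v = 2) : ∃ g ∈ cz (φ a 0 c), cj g v ∈ SA φ := by
  haveI : Fact (Nat.Prime 2) := ⟨Nat.prime_two⟩
  set t := φ a 0 c
  have hle : SA φ ≤ cz t := by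
    rw [← C.F.cent_A t C.mem_SA (C.notMem_SZ ha c)]
    exact inf_le_right
  have hp : IsPGroup 2 ((SA φ).subgroupOf (cz t)) :=
    (S.2.to_le C.F.le_A).comap_subtype
  obtain ⟨R, hR⟩ := hp.exists_le_sylow
  have hcard : Nat.card ((SA φ).subgroupOf (cz t)) = 16 := by
    rw [Nat.card_congr (subgroupOfEquivOfLe hle).toEquiv, C.F.card_A]
  have hnd := C.F.two_part_A t C.mem_SA (C.notMem_SZ ha c)
    (C.F.not_ztype_A C.sA t C.mem_SA (C.notMem_SZ ha c))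
  have hReq : (SA φ).subgroupOf (cz t) = R := by
    refine eq_of_le_of_card_ge hR ?_
    obtain ⟨k, hk⟩ := IsPGroup.iff_card.1 R.2
    rw [hcard, hk]
    by_contra hlt
    have h5 : 5 ≤ k := by
      by_contra h5
      have := Nat.pow_le_pow_right (show 2 > 0 by norm_num) (show k ≤ 4 by omega)
      omega
    refine hnd (((pow_dvd_pow 2 h5).trans ?_) : 2 ^ 5 ∣ _)
    rw [← hk]
    exact card_subgroup_dvd_card _
  have hpv : IsPGroup 2 (zpowers (⟨v, hv⟩ : cz t)) := by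
    refine IsPGroup.of_card (n := 1) ?_
    rw [Nat.card_zpowers, Subgroup.orderOf_mk, h2, pow_one]
  obtain ⟨R', hR'⟩ := hpv.exists_le_sylow
  obtain ⟨g, hg⟩ := MulAction.exists_smul_eq (cz t) R' R
  refine ⟨g, g.2, ?_⟩
  have h : g * (⟨v, hv⟩ : cz t) * g⁻¹ ∈ (R : Subgroup (cz t)) := by
    rw [← hg, Sylow.coe_subgroup_smul]
    exact ⟨⟨v, hv⟩, hR' (mem_zpowers _), rfl⟩
  rw [← hReq] at h
  exact h

/-- No element of the other classes commutes with an involution of one side. -/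
theorem not_conj_in_cz {a b : F4} (ha : a ≠ 0) (hb : b ≠ 0) (c c' : F4) {v : G}
    (hv : v ∈ cz (φ a 0 c)) : ¬ IsConj (φ 0 b c') v := by
  intro h
  have hord : orderOf (φ 0 b c') = 2 :=
    ord_of_sq (by rw [sq_eq C.hS, zero_mul, one_eq C.hS]) fun e => hb ((eq_one_iff C.hS).1 e).2.1
  have h2 : orderOf v = 2 := (ord_of_conj h).trans hord
  obtain ⟨g, -, hA⟩ := C.conj_into_A ha c hv h2
  obtain ⟨a', x, e⟩ := (C.F.mem_A _).1 hA
  have hconj : IsConj (φ 0 b c') (φ a' 0 x) := h.trans (isConj_iff.2 ⟨g, e.symm⟩)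
  by_cases ha' : a' = 0
  · subst ha'
    refine C.not_conj_ZB hb c' (x := x) (fun hx => ?_) hconj.symm
    have := ord_of_conj hconj
    rw [hx, one_eq C.hS, orderOf_one, hord] at this
    omega
  · exact C.not_conj_AB ha' hb x c' hconj.symm

end Ctx

end CfsgLib.L34Sylow.SSFull
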