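import Cfsg.Agent.Lib.L34Sylow.Defs
import Cfsg.Agent.Lib.Base.Cores
import Cfsg.Agent.S1875

/-!
# Piece 6a: tools for the two Thompson order formulas
-/

set_option autoImplicit false
set_option linter.style.haveILetI false
set_option linter.unusedSectionVars false

namespace CfsgLib.L34Sylow.SSFull

open Cfsg Subgroup

universe u

variable {G : Type u} [Group G] [Finite G]

theorem core_le (b : G) : core b ≤ cz b := map_subtype_le _

theorem cz_le_norm_core (b : G) : cz b ≤ normalizer (core b : Set G) :=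
  CfsgLib.Base.le_normalizer_map_pPrimeCore _

theorem odd_core (b : G) : Odd (Nat.card (core b)) :=
  Nat.coprime_two_right.1 (CfsgLib.Base.coprime_card_map_pPrimeCore _)

theorem sq_of_ord {x : G} (h : orderOf x = 2) : x * x = 1 := by
  rw [← sq, ← h, pow_orderOf_eq_one]

theorem ord_of_sq {x : G} (h : x * x = 1) (h1 : x ≠ 1) : orderOf x = 2 :=
  haveI : Fact (Nat.Prime 2) := ⟨Nat.prime_two⟩
  orderOf_eq_prime (by rw [sq, h]) h1

theorem ord_of_conj {x y : G} (h : IsConj x y) : orderOf y = orderOf x := by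
  obtain ⟨g, rfl⟩ := isConj_iff.1 h
  exact orderOf_injective (MulAut.conj g).toMonoidHom (MulAut.conj g).injective x

theorem odd_order_of_mem {X : Subgroup G} (hX : Odd (Nat.card X)) {x : G} (hx : x ∈ X) :
    Odd (orderOf x) := hX.of_dvd_nat (X.orderOf_dvd_natCard hx)

theorem eq_one_of_odd_sq {X : Subgroup G} (hX : Odd (Nat.card X)) {x : G} (hx : x ∈ X)
    (h : x * x = 1) : x = 1 := by
  by_contra h1
  have := odd_order_of_mem hX hx
  rw [ord_of_sq h h1] at this
  exact absurd this (by decide)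

theorem exists_pow_of_mem_zpowers {g w : G} (h : w ∈ zpowers g) : ∃ k : ℕ, g ^ k = w :=
  (isOfFinOrder_of_finite g).mem_powers_iff_mem_zpowers.2 h

/-- An element of a product of two involutions commutes with both when it is an involution. -/
theorem comm_of_mem_dihedral {a b w : G} (ha : a * a = 1) (hb : b * b = 1) (hw : w * w = 1)
    (h : w ∈ zpowers (a * b)) : Commute w a ∧ Commute w b := by
  have hai : a⁻¹ = a := inv_eq_of_mul_eq_one_right ha
  have hbi : b⁻¹ = b := inv_eq_of_mul_eq_one_right hb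
  have hwi : w⁻¹ = w := inv_eq_of_mul_eq_one_right hw
  obtain ⟨k, rfl⟩ := mem_zpowers_iff.1 h
  have h1 : a * (a * b) ^ k * a⁻¹ = (a * b) ^ k := by
    have e : a * (a * b) * a⁻¹ = (a * b)⁻¹ := by
      rw [mul_inv_rev, hbi, ← mul_assoc, ha, one_mul]
    rw [← conj_zpow, e, inv_zpow, hwi]
  have ca : Commute a ((a * b) ^ k) := mul_inv_eq_iff_eq_mul.1 h1
  refine ⟨ca.symm, ?_⟩
  have h2 : Commute ((a * b) ^ k) (a * (a * b)) :=
    ca.symm.mul_right ((Commute.refl (a * b)).zpow_left k)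
  rwa [← mul_assoc a a b, ha, one_mul] at h2

/-- The involution in a product of even order. -/
theorem exists_mid {a b : G} (h : ¬ Odd (orderOf (a * b))) :
    ∃ v ∈ zpowers (a * b), orderOf v = 2 := by
  obtain ⟨j, hj⟩ := even_iff_two_dvd.1 (Nat.not_odd_iff_even.1 h)
  refine ⟨(a * b) ^ j, pow_mem (mem_zpowers _) _, ?_⟩
  rw [orderOf_pow' _ (by intro e; rw [e, mul_zero] at hj; exact (orderOf_pos (a * b)).ne' hj), hj,
    Nat.gcd_eq_right (Dvd.intro_left 2 rfl), Nat.mul_div_cancel _ (by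
      rcases Nat.eq_zero_or_pos j with e | e
      · rw [e, mul_zero] at hj; exact absurd hj (orderOf_pos (a * b)).ne'
      · exact e)]

/-- An involution of a coset of an odd subgroup is conjugate to the given one. -/
theorem conj_of_coset {X : Subgroup G} (hX : Odd (Nat.card X)) {q v : G} (hq : q * q = 1)
    (hv : v * v = 1) (hm : v * q ∈ X) : ∃ u ∈ X, v = u * q * u⁻¹ := by
  set w := v * q with hw
  have hqi : q⁻¹ = q := inv_eq_of_mul_eq_one_right hq
  have hinv : q * w * q = w⁻¹ := by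
    rw [hw, mul_inv_rev, hqi, inv_eq_of_mul_eq_one_right hv]
    rw [mul_assoc, mul_assoc v q q, hq, mul_one]
  obtain ⟨k, hk⟩ := odd_order_of_mem hX hm
  refine ⟨w ^ (k + 1), pow_mem hm _, ?_⟩
  have e1 : q * (w ^ (k + 1))⁻¹ = w ^ (k + 1) * q := by
    rw [← inv_pow, ← hinv]
    calc q * (q * w * q) ^ (k + 1) = q * (q * w * q⁻¹) ^ (k + 1) := by rw [hqi]
      _ = (q * q) * w ^ (k + 1) * q⁻¹ := by rw [conj_pow]; group
      _ = w ^ (k + 1) * q := by rw [hq, one_mul, hqi]
  rw [mul_assoc, e1, ← mul_assoc, ← pow_add, show k + 1 + (k + 1) = (2 * k + 1) + 1 by ring,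
    pow_succ, ← hk, pow_orderOf_eq_one, one_mul, hw, mul_assoc, hq, mul_one]

/-- Congruence modulo a subgroup normalised by the right factor is multiplicative. -/
theorem mul_mod {X : Subgroup G} {a a' b b' : G} (hn : a' ∈ normalizer (X : Set G))
    (h : a * a'⁻¹ ∈ X) (h' : b * b'⁻¹ ∈ X) : (a * b) * (a' * b')⁻¹ ∈ X := by
  rw [show (a * b) * (a' * b')⁻¹ = (a * a'⁻¹) * (a' * (b * b'⁻¹) * a'⁻¹) by group]
  exact mul_mem h ((mem_normalizer_iff.1 hn _).1 h')

theorem pow_mod {X : Subgroup G} {a a' : G} (hn : a' ∈ normalizer (X : Set G))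
    (h : a * a'⁻¹ ∈ X) (k : ℕ) : a ^ k * (a' ^ k)⁻¹ ∈ X := by
  induction k with
  | zero => simp
  | succ k ih => rw [pow_succ, pow_succ]; exact mul_mod (pow_mem hn k) ih h

/-- Pairs over two maps with constant fibres. -/
theorem card_pairs_eq {I I' Y Y' : Type*} [Finite I] [Finite I'] [Finite Y] [Finite Y']
    (f : I → Y) (f' : I' → Y') (q q' : ℕ) (hq : ∀ y, Nat.card {i : I // f i = y} = q)
    (hq' : ∀ y, Nat.card {i : I' // f' i = y} = q') (R : Y → Y' → Prop) :
    Nat.card {p : I × I' // R (f p.1) (f' p.2)} =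
      q * q' * Nat.card {p : Y × Y' // R p.1 p.2} := by
  classical
  haveI := Fintype.ofFinite {p : Y × Y' // R p.1 p.2}
  have e : {p : I × I' // R (f p.1) (f' p.2)} ≃
      Σ y : {p : Y × Y' // R p.1 p.2}, {i : I // f i = y.1.1} × {i : I' // f' i = y.1.2} :=
    { toFun := fun p => ⟨⟨(f p.1.1, f' p.1.2), p.2⟩, ⟨p.1.1, rfl⟩, ⟨p.1.2, rfl⟩⟩
      invFun := fun s => ⟨(s.2.1.1, s.2.2.1), by rw [s.2.1.2, s.2.2.2]; exact s.1.2⟩
      left_inv := fun p => rfl
      right_inv := by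
        rintro ⟨⟨⟨y₁, y₂⟩, hR⟩, ⟨i, hi⟩, ⟨j, hj⟩⟩
        cases hi
        cases hj
        rfl }
  rw [Nat.card_congr e, Nat.card_sigma]
  simp only [Nat.card_prod, hq, hq']
  rw [Finset.sum_const, Finset.card_univ, ← Nat.card_eq_fintype_card, smul_eq_mul, mul_comm]

/-- Orbit and stabiliser for a subgroup acting by conjugation. -/
theorem card_conj_class {K : Subgroup G} {x : G} (C : Set G)
    (h1 : ∀ g ∈ K, g * x * g⁻¹ ∈ C) (h2 : ∀ y ∈ C, ∃ g ∈ K, g * x * g⁻¹ = y) :
    Nat.card C * Nat.card (K ⊓ cz x : Subgroup G) = Nat.card K := by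
  have hidx : Nat.card (K ⧸ (cz x).subgroupOf K) = Nat.card C := by
    refine Nat.card_eq_of_bijective
      (Quotient.lift (fun g : K => (⟨g.1 * x * g.1⁻¹, h1 g g.2⟩ : C)) ?_) ⟨?_, ?_⟩
    · intro g g' hgg
      have h : ((g⁻¹ * g' : K) : G) ∈ cz x := (QuotientGroup.leftRel_apply (s := (cz x).subgroupOf K)).1 hgg
      rw [mem_centralizer_singleton_iff] at h
      push_cast at h
      refine Subtype.ext ?_
      show g.1 * x * g.1⁻¹ = g'.1 * x * g'.1⁻¹
      calc g.1 * x * g.1⁻¹ = g.1 * (x * (g.1⁻¹ * g'.1)) * g'.1⁻¹ := by group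
        _ = g.1 * ((g.1⁻¹ * g'.1) * x) * g'.1⁻¹ := by rw [h]
        _ = _ := by group
    · intro a b
      induction a using Quotient.inductionOn with | h g => ?_
      induction b using Quotient.inductionOn with | h g' => ?_
      intro e
      have e' : g.1 * x * g.1⁻¹ = g'.1 * x * g'.1⁻¹ := congrArg Subtype.val e
      refine QuotientGroup.eq.2 ?_
      rw [mem_subgroupOf, mem_centralizer_singleton_iff]
      push_cast
      calc g.1⁻¹ * g'.1 * x = g.1⁻¹ * (g'.1 * x * g'.1⁻¹) * g'.1 := by group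
        _ = g.1⁻¹ * (g.1 * x * g.1⁻¹) * g'.1 := by rw [e']
        _ = _ := by group
    · rintro ⟨y, hy⟩
      obtain ⟨g, hg, rfl⟩ := h2 y hy
      exact ⟨Quotient.mk'' ⟨g, hg⟩, rfl⟩
  have h := card_eq_card_quotient_mul_card_subgroup ((cz x).subgroupOf K)
  rw [hidx] at h
  rw [h]
  congr 1
  refine Nat.card_congr
    { toFun := fun g => ⟨⟨g.1, g.2.1⟩, g.2.2⟩
      invFun := fun g => ⟨g.1.1, g.1.2, g.2⟩
      left_inv := fun g => rfl
      right_inv := fun g => rfl }

/-- The pairs counted in the order formula. -/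
def Rel (a b w : G) : Type u :=
  {q : G × G // IsConj a q.1 ∧ IsConj b q.2 ∧ w ∈ zpowers (q.1 * q.2)}

/-- The order formula when only one class contributes. -/
theorem order_formula {a b : G} (ha : orderOf a = 2) (hb : orderOf b = 2) (hab : ¬ IsConj a b)
    (W : Finset G) (hW2 : ∀ w ∈ W, orderOf w = 2)
    (hWrep : ∀ t : G, orderOf t = 2 → ∃ w ∈ W, IsConj t w ∧ ∀ w' ∈ W, IsConj t w' → w' = w)
    {w₀ : G} (hw₀ : w₀ ∈ W) (hz : ∀ w ∈ W, w ≠ w₀ → Nat.card (Rel a b w) = 0) :
    Nat.card G * Nat.card (cz w₀) =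
      Nat.card (cz a) * Nat.card (cz b) * Nat.card (Rel a b w₀) := by
  have h := Cfsg.Agent.S1875.result a b ha hb hab W hW2 hWrep
  rw [Finset.sum_eq_single w₀ (fun w hw hne => by
      rw [show Nat.card {q : G × G // IsConj a q.1 ∧ IsConj b q.2 ∧ w ∈ zpowers (q.1 * q.2)} = 0
        from hz w hw hne, Nat.cast_zero, zero_div]) (fun h' => absurd hw₀ h')] at h
  have hp : (Nat.card (cz w₀) : ℚ) ≠ 0 := Nat.cast_ne_zero.2 Nat.card_pos.ne'
  rw [← mul_div_assoc, eq_div_iff hp] at h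
  exact_mod_cast h

end CfsgLib.L34Sylow.SSFull
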